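import Cfsg.Agent.Lib.Classical.FormCount.Sys
import Cfsg.Agent.Lib.Classical.SelfRecip

/-!
Cyclic submodules, their functionals, and the normalisation of functionals.
-/

set_option autoImplicit false
set_option linter.style.haveILetI false

namespace Cfsg.Agent.FormCount

open Polynomial Module
open LinearMap (BilinForm)

universe u

variable {F : Type u} [Field F]

/-- The involution `root ↦ root⁻¹` of a self-dual polynomial. -/
theorem exists_tau {f : F[X]} (hf : f.Monic) (h0 : f.coeff 0 ≠ 0)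
    (hd : GUCount.dual (RingEquiv.refl F) f = f) :
    ∃ τ : AdjoinRoot f →ₐ[F] AdjoinRoot f,
      τ (AdjoinRoot.root f) * AdjoinRoot.root f = 1 ∧ ∀ x, τ (τ x) = x := by
  obtain ⟨τ, h1, h2, h3⟩ := SelfRecip.exists_invol (RingHom.id F) (fun _ => rfl) rfl h0
    (fun i hi => GUCount.SD_of_dual hf hd i hi)
  exact ⟨{ τ with commutes' := fun c => h3 c }, h1, h2⟩

/-- A non-degenerate functional. -/
def Nondeg {A : Type u} [CommRing A] [Algebra F A] (φ : A →ₗ[F] F) : Prop :=
  ∀ a, (∀ c, φ (a * c) = 0) → a = 0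

theorem exists_mul {A : Type u} [CommRing A] [Algebra F A] [Module.Finite F A] {φ : A →ₗ[F] F}
    (hφ : Nondeg φ) (ψ : A →ₗ[F] F) : ∃ u, ∀ c, ψ c = φ (u * c) := by
  let Ψ : A →ₗ[F] (A →ₗ[F] F) := LinearMap.mk₂ F (fun x y => φ (x * y))
    (fun a b c => by simp only [add_mul, map_add]) (fun c a b => by simp only [smul_mul_assoc, map_smul])
    (fun a b c => by simp only [mul_add, map_add]) (fun c a b => by simp only [mul_smul_comm, map_smul])
  have hΨ : Function.Injective Ψ := by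
    rw [← LinearMap.ker_eq_bot, LinearMap.ker_eq_bot']
    exact fun x hx => hφ x fun y => LinearMap.congr_fun hx y
  obtain ⟨u, hu⟩ := (LinearMap.injective_iff_surjective_of_finrank_eq_finrank
    Subspace.dual_finrank_eq.symm).1 hΨ ψ
  exact ⟨u, fun c => (LinearMap.congr_fun hu c).symm⟩

theorem isUnit_of_nondeg {A : Type u} [CommRing A] [Algebra F A] [Finite A] {φ ψ : A →ₗ[F] F}
    (hψ : Nondeg ψ) {u : A} (hu : ∀ c, ψ c = φ (u * c)) : IsUnit u := by
  have hinj : Function.Injective (fun y : A => u * y) := fun a b h => by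
    refine sub_eq_zero.1 (hψ _ fun c => ?_)
    rw [hu, ← mul_assoc, mul_sub, sub_eq_zero.2 (show u * a = u * b from h), zero_mul, map_zero]
  obtain ⟨y, hy⟩ := Finite.surjective_of_injective hinj 1
  exact IsUnit.of_mul_eq_one _ hy

theorem nondeg_mul {A : Type u} [CommRing A] [Algebra F A] {φ ψ : A →ₗ[F] F} (hφ : Nondeg φ)
    {u : A} (hu : IsUnit u) (hψ : ∀ c, ψ c = φ (u * c)) : Nondeg ψ := fun a ha =>
  hu.mul_right_eq_zero.1 (hφ _ fun c => by rw [mul_assoc, ← hψ]; exact ha c)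

/-- The comparing multiplier of two symmetric functionals is fixed. -/
theorem mult_fixed {A : Type u} [CommRing A] [Algebra F A] {τ : A →ₐ[F] A} (hτ : ∀ x, τ (τ x) = x)
    {ε : F} {φ ψ : A →ₗ[F] F} (hφ : Nondeg φ) (hφs : ∀ c, φ (τ c) = ε * φ c)
    (hψs : ∀ c, ψ (τ c) = ε * ψ c) {u : A} (hu : ∀ c, ψ c = φ (u * c)) : τ u = u := by
  refine sub_eq_zero.1 (hφ _ fun c => ?_)
  have h1 : φ (τ u * c) = φ (u * c) := by
    calc φ (τ u * c) = φ (τ (u * τ c)) := by rw [map_mul τ, hτ]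
      _ = ε * φ (u * τ c) := hφs _
      _ = ε * ψ (τ c) := by rw [hu]
      _ = ψ (τ (τ c)) := (hψs _).symm
      _ = φ (u * c) := by rw [hτ, hu]
  rw [sub_mul, map_sub, h1, sub_self]

/-- Without fixed points all symmetric functionals are equivalent. -/
theorem normalize_herm {A : Type u} [CommRing A] [Algebra F A] [Module.Finite F A] [Finite A]
    {τ : A →ₐ[F] A} (hτ : ∀ x, τ (τ x) = x) {δ : A} (hδ : IsUnit (δ - τ δ)) {ε : F}
    {φ ψ : A →ₗ[F] F} (hφ : Nondeg φ) (hψ : Nondeg ψ) (hφs : ∀ c, φ (τ c) = ε * φ c)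
    (hψs : ∀ c, ψ (τ c) = ε * ψ c) : ∃ y, IsUnit y ∧ ∀ c, ψ c = φ (τ y * y * c) := by
  obtain ⟨u, hu⟩ := exists_mul hφ ψ
  have hfix := mult_fixed hτ hφ hφs hψs hu
  have huu := isUnit_of_nondeg hψ hu
  obtain ⟨y, hy⟩ := InvolRing.exists_norm (τ := τ.toRingHom) hτ hδ hfix huu
  replace hy : τ y * y = u := hy
  exact ⟨y, isUnit_of_mul_isUnit_right (hy.symm ▸ huu : IsUnit (τ y * y)), fun c => by rw [hy, hu]⟩

namespace Sys

variable {ε : F} {d : ℕ} (S : Sys F ε d) {f : F[X]} (hf : f.Monic)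

/-- The map onto the cyclic submodule of `x`. -/
noncomputable def cyc (x : Fin d → F) : AdjoinRoot f →ₗ[F] (Fin d → F) where
  toFun k := S.pol (AdjoinRoot.modByMonicHom hf k) x
  map_add' a b := by rw [map_add, pol_add]
  map_smul' c a := by
    rw [map_smul, pol, map_smul, LinearMap.smul_apply, RingHom.id_apply]
    rfl

/-- The functional of a pair of vectors. -/
noncomputable def fn (x y : Fin d → F) : AdjoinRoot f →ₗ[F] F := (S.B x).comp (S.cyc hf y)

theorem fn_apply (x y : Fin d → F) (c : AdjoinRoot f) : S.fn hf x y c = S.B x (S.cyc hf y c) := rfl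

variable {x y : Fin d → F}

theorem cyc_mk (hx : S.pol f x = 0) (a : F[X]) : S.cyc hf x (AdjoinRoot.mk f a) = S.pol a x := by
  show S.pol (AdjoinRoot.modByMonicHom hf (AdjoinRoot.mk f a)) x = _
  conv_rhs => rw [← modByMonic_add_div a f, mul_comm f, pol_add, pol_mul, hx, map_zero, add_zero]
  rw [AdjoinRoot.modByMonicHom_mk]

theorem cyc_one (hx : S.pol f x = 0) : S.cyc hf x 1 = x := by
  rw [← map_one (AdjoinRoot.mk f), cyc_mk S hf hx, pol_one]

theorem cyc_mul (hx : S.pol f x = 0) (a : F[X]) (k : AdjoinRoot f) :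
    S.pol a (S.cyc hf x k) = S.cyc hf x (AdjoinRoot.mk f a * k) := by
  obtain ⟨b, rfl⟩ := AdjoinRoot.mk_surjective (g := f) k
  rw [← map_mul, cyc_mk S hf hx, cyc_mk S hf hx, pol_mul]

theorem cyc_g (hx : S.pol f x = 0) (k : AdjoinRoot f) :
    S.g (S.cyc hf x k) = S.cyc hf x (AdjoinRoot.root f * k) := by
  rw [← pol_X, cyc_mul S hf hx, AdjoinRoot.mk_X]

theorem pol_cyc_zero (hx : S.pol f x = 0) (k : AdjoinRoot f) : S.pol f (S.cyc hf x k) = 0 := by
  rw [cyc_mul S hf hx, AdjoinRoot.mk_self, zero_mul, map_zero]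

theorem cyc_cyc (hx : S.pol f x = 0) (a c : AdjoinRoot f) :
    S.cyc hf (S.cyc hf x a) c = S.cyc hf x (c * a) := by
  obtain ⟨b, rfl⟩ := AdjoinRoot.mk_surjective (g := f) c
  rw [cyc_mk S hf (pol_cyc_zero S hf hx a), cyc_mul S hf hx]

theorem fn_mk (hy : S.pol f y = 0) (a : F[X]) :
    S.fn hf x y (AdjoinRoot.mk f a) = S.B x (S.pol a y) := by
  rw [fn_apply, cyc_mk S hf hy]

variable {τ : AdjoinRoot f →ₐ[F] AdjoinRoot f} (hτ : τ (AdjoinRoot.root f) * AdjoinRoot.root f = 1)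
include hτ

theorem B_cyc (hx : S.pol f x = 0) (hy : S.pol f y = 0) (a b : AdjoinRoot f) :
    S.B (S.cyc hf x a) (S.cyc hf y b) = S.fn hf x y (τ a * b) := by
  obtain ⟨a, rfl⟩ := AdjoinRoot.mk_surjective (g := f) a
  rw [cyc_mk S hf hx, fn_apply]
  induction a using Polynomial.induction_on' generalizing b with
  | add p r hp hr =>
    rw [pol_add, map_add, LinearMap.add_apply, hp, hr, ← map_add, ← map_add, ← add_mul, ← map_add,
      ← map_add]
  | monomial i c =>
    rw [← C_mul_X_pow_eq_monomial, map_mul (AdjoinRoot.mk f), map_mul τ, AdjoinRoot.mk_C,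
      ← AdjoinRoot.algebraMap_eq,
      AlgHom.commutes, ← Algebra.smul_def, smul_mul_assoc, map_smul, map_smul, pol, map_mul (aeval S.g.toLinearMap), aeval_C,
      ← Algebra.smul_def, LinearMap.smul_apply, map_smul, LinearMap.smul_apply]
    congr 1
    induction i generalizing b with
    | zero => simp
    | succ i ih =>
      rw [pow_succ', map_mul (aeval S.g.toLinearMap), Module.End.mul_apply, aeval_X]
      show S.B (S.g (aeval S.g.toLinearMap (X ^ i) x)) _ = _
      rw [B_g_left, map_mul (AdjoinRoot.mk f), map_mul τ, mul_comm (τ (AdjoinRoot.mk f X)), mul_assoc, ← ih]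
      congr 1
      apply S.g.injective
      rw [S.g.apply_symm_apply, cyc_g S hf hy, AdjoinRoot.mk_X, ← mul_assoc,
        mul_comm (AdjoinRoot.root f), hτ, one_mul]

theorem fn_swap (hx : S.pol f x = 0) (hy : S.pol f y = 0) (c : AdjoinRoot f) :
    S.fn hf y x c = ε * S.fn hf x y (τ c) := by
  rw [fn_apply, S.hsym]
  congr 1
  conv_lhs => rw [← cyc_one S hf hy, B_cyc S hf hτ hx hy, mul_one]

theorem fn_cyc (hx : S.pol f x = 0) (hy : S.pol f y = 0) (a b c : AdjoinRoot f) :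
    S.fn hf (S.cyc hf x a) (S.cyc hf y b) c = S.fn hf x y (τ a * b * c) := by
  rw [fn_apply, cyc_cyc S hf hy, B_cyc S hf hτ hx hy, mul_comm c, mul_assoc]

end Sys

end Cfsg.Agent.FormCount
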