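import Cfsg.Agent.Lib.Classical.FormCount.Sys

/-!
The quadratic character of the Gram determinant of a form over a finite field.
-/

set_option autoImplicit false
set_option linter.style.haveILetI false

namespace Cfsg.Agent.FormCount

open Module Matrix
open LinearMap (BilinForm)

universe u

variable {F : Type u} [Field F] [Fintype F]

section

variable {A : Type u} [AddCommGroup A] [Module F A] [Module.Finite F A]

open Classical in
/-- The discriminant character of a form. -/
noncomputable def dchar (β : BilinForm F A) : ℤ :=
  quadraticChar F (LinearMap.BilinForm.toMatrix (Module.finBasis F A) β).det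

theorem qchar_sq_mul [DecidableEq F] {p : F} (hp : p ≠ 0) (x : F) :
    quadraticChar F (p * p * x) = quadraticChar F x := by
  rw [map_mul, map_mul, ← sq, quadraticChar_sq_one hp, one_mul]

open Classical in
theorem dchar_basis {ι : Type*} [Fintype ι] [DecidableEq ι] (b : Basis ι F A) (β : BilinForm F A) :
    dchar β = quadraticChar F (LinearMap.BilinForm.toMatrix b β).det := by
  let e := b.indexEquiv (Module.finBasis F A)
  let c := b.reindex e
  have h1 : (LinearMap.BilinForm.toMatrix c β).det = (LinearMap.BilinForm.toMatrix b β).det := by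
    have : LinearMap.BilinForm.toMatrix c β =
        (LinearMap.BilinForm.toMatrix b β).submatrix e.symm e.symm := by
      ext i j
      simp [c]
    rw [this, Matrix.det_submatrix_equiv_self]
  have h2 := congrArg Matrix.det (LinearMap.BilinForm.toMatrix_mul_basis_toMatrix
    (b := Module.finBasis F A) c β)
  rw [Matrix.det_mul, Matrix.det_mul, Matrix.det_transpose, h1] at h2
  have hne : ((Module.finBasis F A).toMatrix c).det ≠ 0 := by
    intro h0
    have h3 := congrArg Matrix.det (Module.Basis.toMatrix_mul_toMatrix_flip (Module.finBasis F A) c)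
    rw [Matrix.det_mul, h0, zero_mul, Matrix.det_one] at h3
    exact zero_ne_one h3
  rw [dchar, ← h2, mul_comm (((Module.finBasis F A).toMatrix c).det), mul_assoc, mul_comm (LinearMap.BilinForm.toMatrix _ β).det,
    qchar_sq_mul hne]

theorem dchar_sq {β : BilinForm F A} (h : β.Nondegenerate) : dchar β * dchar β = 1 := by
  classical
  rw [dchar, ← sq, quadraticChar_sq_one]
  exact (LinearMap.BilinForm.nondegenerate_iff_det_ne_zero _).1 h

theorem dchar_comp {A' : Type u} [AddCommGroup A'] [Module F A'] [Module.Finite F A']
    (e : A' ≃ₗ[F] A) (β : BilinForm F A) :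
    dchar (β.comp e.toLinearMap e.toLinearMap) = dchar β := by
  classical
  rw [dchar_basis ((Module.finBasis F A).map e.symm), dchar]
  congr 2
  ext i j
  simp

theorem dchar_smul (c : F) (β : BilinForm F A) [DecidableEq F] :
    dchar (c • β) = quadraticChar F c ^ finrank F A * dchar β := by
  rw [dchar, dchar, map_smul, Matrix.det_smul, Fintype.card_fin]
  simp only [map_mul, map_pow]
  congr!

theorem dchar_pair {B : Type u} [AddCommGroup B] [Module F B] [Module.Finite F B]
    (β : BilinForm F A) (γ : BilinForm F B) : dchar (pairForm β γ) = dchar β * dchar γ := by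
  classical
  rw [dchar_basis ((Module.finBasis F A).prod (Module.finBasis F B)), dchar, dchar, ← map_mul,
    ← Matrix.det_fromBlocks_zero₁₂ _ (0 : Matrix _ _ F)]
  congr 2
  ext (i | i) (j | j) <;> simp [pairForm]

end

namespace Sys

variable {ε : F} {d : ℕ}

/-- The discriminant character of a system. -/
noncomputable def dc (S : Sys F ε d) : ℤ := dchar S.B

theorem dc_iso {S S' : Sys F ε d} (h : Iso S S') : S.dc = S'.dc := by
  obtain ⟨φ, hφ, -⟩ := h
  have : S.B = S'.B.comp φ.toLinearMap φ.toLinearMap := LinearMap.ext₂ fun x y => (hφ x y).symm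
  rw [dc, dc, this, dchar_comp]

theorem dc_split {d' : ℕ} {A : Type u} [AddCommGroup A] [Module F A] [Module.Finite F A]
    {β : BilinForm F A} {S : Sys F ε d} {R : Sys F ε d'}
    (ψ : (A × (Fin d' → F)) ≃ₗ[F] (Fin d → F))
    (hψ : ∀ x y, S.B (ψ x) (ψ y) = pairForm β R.B x y) : S.dc = dchar β * R.dc := by
  have : pairForm β R.B = S.B.comp ψ.toLinearMap ψ.toLinearMap :=
    LinearMap.ext₂ fun x y => (hψ x y).symm
  rw [dc, dc, ← dchar_pair, this, dchar_comp]

theorem dc_sq (S : Sys F ε d) : S.dc * S.dc = 1 := by
  refine dchar_sq ⟨S.hnd, fun x hx => S.hnd x fun y => ?_⟩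
  rw [S.hsym y x, hx y, mul_zero]

end Sys

end Cfsg.Agent.FormCount
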