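import Cfsg.Agent.Lib.Classical.FormCount.Local
import Cfsg.Agent.Lib.Classical.GUCount.Layer

/-!
Existence of non-degenerate cyclic submodules of top primary type.
-/

set_option autoImplicit false
set_option linter.style.haveILetI false

namespace Cfsg.Agent.FormCount

open Polynomial Module

universe u

variable {F : Type u} [Field F]

theorem dual_sub_C {s : F} (hs : s * s = 1) :
    GUCount.dual (RingEquiv.refl F) (X - C s) = X - C s := by
  have hs0 : s ≠ 0 := fun h => by simp [h] at hs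
  have h0 : (X - C s : F[X]).coeff 0 ≠ 0 := by simp [hs0]
  have hinv : s⁻¹ = s := inv_eq_of_mul_eq_one_right hs
  have hd : (GUCount.dual (RingEquiv.refl F) (X - C s)).natDegree = 1 := by
    rw [GUCount.natDegree_dual h0, natDegree_X_sub_C]
  rw [(GUCount.dual_monic h0).eq_X_add_C hd,
    GUCount.dual_coeff _ _ (Nat.zero_le _), natDegree_X_sub_C]
  simp [hinv, sub_eq_add_neg]

theorem eq_of_dvd_sq_sub_one {p : F[X]} (hp : Irreducible p) (hm : p.Monic)
    (h : p ∣ X ^ 2 - 1) : ∃ s : F, s * s = 1 ∧ p = X - C s := by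
  have h' : p ∣ (X - C (1 : F)) * (X - C (-1)) := by
    refine h.trans (dvd_of_eq ?_)
    simp only [map_one, map_neg]
    ring
  rcases hp.prime.dvd_or_dvd h' with h1 | h1
  · exact ⟨1, one_mul 1, eq_of_monic_of_associated hm (monic_X_sub_C _)
      (hp.associated_of_dvd (irreducible_X_sub_C _) h1)⟩
  · exact ⟨-1, by ring, eq_of_monic_of_associated hm (monic_X_sub_C _)
      (hp.associated_of_dvd (irreducible_X_sub_C _) h1)⟩

namespace Sys

variable {ε : F} {d : ℕ} (S : Sys F ε d)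

theorem ker_le {a b : F[X]} (h : a ∣ b) : LinearMap.ker (S.pol a) ≤ LinearMap.ker (S.pol b) := by
  obtain ⟨c, rfl⟩ := h
  intro x hx
  rw [LinearMap.mem_ker, mul_comm, pol_mul, LinearMap.mem_ker.1 hx, map_zero]

/-- The top exponent of a polynomial. -/
theorem exists_top {p : F[X]} {x : Fin d → F} (hx : S.pol p x = 0) (hx0 : x ≠ 0) :
    ∃ j, 0 < j ∧ S.kdim (p ^ (j - 1)) < S.kdim (p ^ j) ∧
      LinearMap.ker (S.pol (p ^ (j + 1))) = LinearMap.ker (S.pol (p ^ j)) := by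
  classical
  have hex : ∃ j, ¬ S.kdim (p ^ j) < S.kdim (p ^ (j + 1)) := by
    by_contra hc
    push Not at hc
    have hgrow : ∀ k, k ≤ S.kdim (p ^ k) := by
      intro k
      induction k with
      | zero => exact Nat.zero_le _
      | succ k ih => have := hc k; omega
    have h1 := hgrow (d + 1)
    have h2 : S.kdim (p ^ (d + 1)) ≤ d := by
      have h := Submodule.finrank_le (LinearMap.ker (S.pol (p ^ (d + 1))))
      rwa [Module.finrank_fin_fun] at h
    omega
  have hlt := Nat.find_spec hex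
  have hpos : 0 < Nat.find hex := by
    by_contra h
    rw [Nat.le_zero.1 (not_lt.1 h)] at hlt
    refine hlt ?_
    have hbot : LinearMap.ker (S.pol (p ^ 0)) = ⊥ := by
      ext y
      rw [LinearMap.mem_ker, pow_zero, pol_one, Submodule.mem_bot]
    rw [kdim, hbot, finrank_bot, kdim, zero_add, pow_one]
    exact Nat.pos_of_ne_zero fun h0 => hx0 (by
      have h1 : x ∈ LinearMap.ker (S.pol p) := hx
      rw [Submodule.finrank_eq_zero.1 h0] at h1
      exact h1)
  refine ⟨Nat.find hex, hpos, ?_, ?_⟩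
  · have := Nat.find_min hex (show Nat.find hex - 1 < Nat.find hex by omega)
    rw [Nat.sub_add_cancel hpos, not_not] at this
    exact this
  · exact (Submodule.eq_of_le_of_finrank_le (S.ker_le (pow_dvd_pow p (Nat.le_succ _)))
      (not_lt.1 hlt)).symm

variable {p : F[X]} {j : ℕ}

theorem top_spec (hj : 0 < j) (hstab : LinearMap.ker (S.pol (p ^ (j + 1))) = LinearMap.ker (S.pol (p ^ j)))
    {v : Fin d → F} (hv0 : S.pol (p ^ j) v = 0) (hv1 : S.pol (p ^ (j - 1)) v ≠ 0) :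
    ∀ y, S.pol (p ^ j) y ≠ S.pol (p ^ (j - 1)) v := by
  intro y hy
  have h1 : y ∈ LinearMap.ker (S.pol (p ^ (j + 1))) := by
    rw [LinearMap.mem_ker, pow_succ', pol_mul, hy, ← pol_mul, ← pow_succ', Nat.sub_add_cancel hj, hv0]
  rw [hstab, LinearMap.mem_ker, hy] at h1
  exact hv1 h1

theorem exists_topvec (hlt : S.kdim (p ^ (j - 1)) < S.kdim (p ^ j)) :
    ∃ v, S.pol (p ^ j) v = 0 ∧ S.pol (p ^ (j - 1)) v ≠ 0 := by
  by_contra hc
  push Not at hc
  exact absurd (Submodule.finrank_mono (fun v hv => hc v hv :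
    LinearMap.ker (S.pol (p ^ j)) ≤ LinearMap.ker (S.pol (p ^ (j - 1))))) (not_le.2 hlt)

/-- The annihilator of the top cyclic submodule of type `p`. -/
noncomputable def hermPoly (p : F[X]) (j : ℕ) : F[X] :=
  open Classical in if GUCount.dual (RingEquiv.refl F) p = p then p ^ j else
    p ^ j * GUCount.dual (RingEquiv.refl F) p ^ j

variable [Finite F]

theorem partner (hm : p.Monic) (h0 : p.coeff 0 ≠ 0) {v : Fin d → F}
    (hv : ∀ y, S.pol (p ^ j) y ≠ S.pol (p ^ (j - 1)) v) :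
    ∃ w, S.pol (GUCount.dual (RingEquiv.refl F) p ^ j) w = 0 ∧
      S.B w (S.pol (p ^ (j - 1)) v) ≠ 0 := by
  obtain ⟨u, -, -, hu⟩ := S.adj_dual (GUCount.dual_coeff_zero_ne (σ := RingEquiv.refl F) hm h0)
  rw [GUCount.dual_dual (fun _ => rfl) hm h0] at hu
  refine S.ker_pair (S.adj_pow hu j) fun y hy => ?_
  rw [mul_pow, mul_comm, pol_mul] at hy
  exact hv _ hy

/-- A self-dual cyclic submodule without eigenvalues `±1`. -/
theorem exists_herm (hε : ε * ε = 1) (hirr : Irreducible p) (hm : p.Monic) (h0 : p.coeff 0 ≠ 0)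
    (hp1 : IsCoprime p (X ^ 2 - 1)) (hj : 0 < j) (hlt : S.kdim (p ^ (j - 1)) < S.kdim (p ^ j))
    (hstab : LinearMap.ker (S.pol (p ^ (j + 1))) = LinearMap.ker (S.pol (p ^ j))) :
    ∃ (f : F[X]) (hf : f.Monic), f = hermPoly p j ∧ 0 < f.natDegree ∧ f.coeff 0 ≠ 0 ∧
      GUCount.dual (RingEquiv.refl F) f = f ∧ IsCoprime f (X ^ 2 - 1) ∧
      ∃ x, S.pol f x = 0 ∧ Nondeg (S.fn hf x x) := by
  obtain ⟨v, hv0, hv1⟩ := S.exists_topvec hlt
  obtain ⟨w, hw0, hw⟩ := S.partner hm h0 (S.top_spec hj hstab hv0 hv1)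
  obtain ⟨p', hp'⟩ : ∃ p', p' = GUCount.dual (RingEquiv.refl F) p := ⟨_, rfl⟩
  rw [← hp'] at hw0
  have hnd : ∀ (f : F[X]) (hf : f.Monic) (x : Fin d → F), S.pol f x = 0 →
      (∀ a : F[X], (∀ c, S.B x (S.pol (a * c) x) = 0) → f ∣ a) → Nondeg (S.fn hf x x) := by
    intro f hf x hx hR a ha
    obtain ⟨a, rfl⟩ := AdjoinRoot.mk_surjective (g := f) a
    rw [AdjoinRoot.mk_eq_zero]
    refine hR a fun c => ?_
    rw [← S.fn_mk hf hx, map_mul]
    exact ha _
  have hcl : ∀ (f : F[X]) (x : Fin d → F), S.pol f x = 0 →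
      (∀ a b : F[X], (∀ c, S.B x (S.pol (a * c) x) = 0) → ∀ c, S.B x (S.pol (a * b * c) x) = 0) ∧
      (∀ a b : F[X], (∀ c, S.B x (S.pol (a * c) x) = 0) →
        ∀ c, S.B x (S.pol ((a + f * b) * c) x) = 0) := by
    refine fun f x hx => ⟨fun a b ha c => by rw [mul_assoc]; exact ha _, fun a b ha c => ?_⟩
    rw [show (a + f * b) * c = a * c + b * c * f by ring, pol_add, S.pol_mul _ f, hx, map_zero, add_zero]
    exact ha c
  by_cases hd : p' = p
  · rw [hd] at hw0
    obtain ⟨x, c, hx, hc⟩ : ∃ x c, S.pol (p ^ j) x = 0 ∧ S.B x (S.pol (p ^ (j - 1) * c) x) ≠ 0 := by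
      by_contra hne
      push Not at hne
      obtain ⟨h, hh⟩ := S.exists_inv_poly
      have key : ∀ a b, S.pol (p ^ j) a = 0 → S.pol (p ^ j) b = 0 → ∀ c,
          S.B a (S.pol (p ^ (j - 1) * c) b) + S.B b (S.pol (p ^ (j - 1) * c) a) = 0 := by
        intro a b ha hb c
        have h1 := hne (a + b) c (by rw [map_add, ha, hb, add_zero])
        rw [map_add, map_add, map_add, LinearMap.add_apply, LinearMap.add_apply, hne a c ha,
          hne b c hb] at h1
        linear_combination h1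
      have hskew : ∀ c, S.B w (S.pol (p ^ (j - 1) * (c * h)) v) =
          S.B w (S.pol (p ^ (j - 1) * (c * X)) v) := by
        intro c
        have hgw : S.pol (p ^ j) (S.pol X w) = 0 := by rw [pol_comm, hw0, map_zero]
        have h1 := key _ v hgw hv0 c
        have h2 := key w v hw0 hv0 (c * X)
        rw [pol_X, B_g_left, show S.g.symm (S.pol (p ^ (j - 1) * c) v) =
          S.pol h (S.pol (p ^ (j - 1) * c) v) from (LinearMap.congr_fun hh _).symm, ← pol_mul,
          ← S.pol_X w, ← pol_mul] at h1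
        rw [show p ^ (j - 1) * (c * h) = h * (p ^ (j - 1) * c) by ring]
        rw [mul_assoc] at h1
        linear_combination h1 - h2
      obtain ⟨A, B, hAB⟩ : IsCoprime (X ^ 2 - 1) (p ^ j) := hp1.symm.pow_right
      refine hw ?_
      have h3 := hskew (-(A * X))
      rw [← sub_eq_zero, ← map_sub, ← LinearMap.sub_apply, pol, pol, ← map_sub, ← pol] at h3
      have hgh : ∀ z, S.pol (X * h) z = z := fun z => by
        rw [pol_mul, pol_X, LinearMap.congr_fun hh z]
        exact S.g.apply_symm_apply z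
      rw [show p ^ (j - 1) * (-(A * X) * h) - p ^ (j - 1) * (-(A * X) * X) =
          p ^ (j - 1) * (A * (X ^ 2 - 1)) + p ^ (j - 1) * A * (1 - X * h) by ring,
        pol_add, S.pol_mul _ (1 - X * h)] at h3
      have h4 : S.pol (1 - X * h) v = 0 := by
        rw [pol, map_sub, LinearMap.sub_apply, ← pol, ← pol, pol_one, hgh, sub_self]
      rw [h4, map_zero, add_zero] at h3
      rw [show p ^ (j - 1) = p ^ (j - 1) * (A * (X ^ 2 - 1)) + p ^ (j - 1) * B * p ^ j by
        rw [mul_assoc _ B, ← mul_add, hAB, mul_one], pol_add, S.pol_mul _ (p ^ j), hv0, map_zero,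
        add_zero]
      exact h3
    refine ⟨p ^ j, hm.pow j, by rw [hermPoly, if_pos (hp' ▸ hd)], by rw [natDegree_pow]; exact Nat.mul_pos hj hirr.natDegree_pos, ?_, ?_,
      hp1.pow_left, x, hx, hnd _ _ _ hx fun a ha => ?_⟩
    · rw [coeff_zero_eq_eval_zero, eval_pow]
      exact pow_ne_zero _ (by rwa [← coeff_zero_eq_eval_zero])
    · clear hnd hcl hlt hstab hv0 hv1 hw hw0 hx hc
      induction j with
      | zero => omega
      | succ j ih =>
        rw [pow_succ, GUCount.dual_mul, ← hp', hd]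
        rcases Nat.eq_zero_or_pos j with rfl | hj'
        · rw [pow_zero, GUCount.dual_one]
        · rw [ih hj']
    · refine GUCount.pow_dvd_of_crit (t := 1) hirr (mul_one _).symm
        (fun a => ∀ c, S.B x (S.pol (a * c) x) = 0) (hcl _ _ hx).1 (hcl _ _ hx).2 (fun h => hc ?_) ha
      have h1 := h c
      rwa [mul_one] at h1
  have h0' : p'.coeff 0 ≠ 0 := hp' ▸ GUCount.dual_coeff_zero_ne hm h0
  have hm' : p'.Monic := hp' ▸ GUCount.dual_monic h0
  have hdd : GUCount.dual (RingEquiv.refl F) p' = p := hp' ▸ GUCount.dual_dual (fun _ => rfl) hm h0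
  have hirr' : Irreducible p' := hp' ▸ GUCount.dual_irreducible (fun _ => rfl) hirr hm h0
  have hp1' : IsCoprime p' (X ^ 2 - 1) := hirr'.coprime_iff_not_dvd.2 fun h => by
    obtain ⟨s, hs, hps⟩ := eq_of_dvd_sq_sub_one hirr' hm' h
    rw [hps, dual_sub_C hs] at hdd
    exact hirr.coprime_iff_not_dvd.1 hp1 (by
      rw [← hdd]
      exact ⟨X + C s, by rw [← C_1 (R := F), ← hs, C_mul]; ring⟩)
  have hco : IsCoprime p p' := hirr.coprime_iff_not_dvd.2 fun h =>
    hd (eq_of_monic_of_associated hm hm' (hirr.associated_of_dvd hirr' h)).symm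
  obtain ⟨a, b, hab⟩ : IsCoprime (p ^ j) (p' ^ j) := hco.pow
  have hx0 : S.pol (p ^ j * p' ^ j) (v + w) = 0 := by
    rw [map_add, S.pol_mul _ _ w, hw0, map_zero, add_zero, mul_comm, S.pol_mul, hv0, map_zero]
  -- both primary parts are totally isotropic
  have iso1 : ∀ {r r' : F[X]}, r.coeff 0 ≠ 0 → r'.coeff 0 ≠ 0 →
      GUCount.dual (RingEquiv.refl F) r' = r → IsCoprime r r' → ∀ {z z' : Fin d → F},
      S.pol (r ^ j) z = 0 → S.pol (r ^ j) z' = 0 → S.B z z' = 0 := by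
    intro r r' _ hr' hrr hrco z z' hz hz'
    obtain ⟨α, β, hαβ⟩ : IsCoprime (r ^ j) (r' ^ j) := hrco.pow
    obtain ⟨t, -, -, ht⟩ := S.adj_dual hr'
    rw [hrr] at ht
    have hz'' : z' = S.pol (r' ^ j) (S.pol β z') := by
      conv_lhs => rw [← S.pol_one z', ← hαβ, pol_add, S.pol_mul α, hz', map_zero, zero_add]
      rw [pol_comm, ← pol_mul]
    rw [hz'', ← S.right_adj hε (fun x y => (S.adj_pow ht j x y)), mul_pow, S.pol_mul, hz, map_zero,
      map_zero, LinearMap.zero_apply]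
  have crit : ∀ {r r' : F[X]}, r.coeff 0 ≠ 0 → r'.coeff 0 ≠ 0 →
      GUCount.dual (RingEquiv.refl F) r' = r → IsCoprime r r' → ∀ {z z' : Fin d → F},
      S.pol (r ^ j) z = 0 → S.pol (r' ^ j) z' = 0 → ∀ c₀ : F[X],
      S.B z' (S.pol (r ^ (j - 1) * c₀) z) ≠ 0 →
      ∃ c, S.B (z + z') (S.pol (r ^ (j - 1) * r' ^ j * c) (z + z')) ≠ 0 := by
    intro r r' hr hr' hrr hrco z z' hz hz' c₀ hc₀
    obtain ⟨α, β, hαβ⟩ : IsCoprime (r ^ j) (r' ^ j) := hrco.pow
    refine ⟨c₀ * β, ?_⟩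
    have h1 : S.pol (r ^ (j - 1) * r' ^ j * (c₀ * β)) (z + z') = S.pol (r ^ (j - 1) * c₀) z := by
      rw [show r ^ (j - 1) * r' ^ j * (c₀ * β) = r ^ (j - 1) * c₀ * β * r' ^ j by ring, map_add,
        S.pol_mul _ _ z', hz', map_zero, add_zero]
      rw [show r ^ (j - 1) * c₀ * β * r' ^ j = r ^ (j - 1) * c₀ + -(r ^ (j - 1) * c₀ * α) * r ^ j by
        linear_combination (r ^ (j - 1) * c₀) * hαβ, pol_add, S.pol_mul _ (r ^ j), hz, map_zero,
        add_zero]
    rw [h1, map_add, LinearMap.add_apply,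
      iso1 hr hr' hrr hrco hz (by rw [pol_comm, hz, map_zero]), zero_add]
    exact hc₀
  obtain ⟨c₁, hc₁⟩ := crit h0 h0' hdd hco hv0 hw0 1 (by rwa [mul_one])
  obtain ⟨u, -, -, hu⟩ := S.adj_dual h0
  rw [← hp'] at hu
  obtain ⟨c₂, hc₂⟩ := crit h0' h0 hp'.symm hco.symm hw0 hv0 (u ^ (j - 1)) (by
    rw [← S.right_adj hε (fun x y => S.adj_pow hu (j - 1) x y), S.hsym v] at hw
    rw [← mul_pow, mul_comm]
    intro h
    apply hw
    rw [h, mul_zero])
  rw [add_comm w v] at hc₂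
  refine ⟨p ^ j * p' ^ j, (hm.pow j).mul (hm'.pow j),
    by rw [hermPoly, if_neg (hp' ▸ hd), hp'], ?_, ?_, ?_, (hp1.pow_left).mul_left hp1'.pow_left,
    v + w, hx0, hnd _ _ _ hx0 fun e he => hco.pow.mul_dvd ?_ ?_⟩
  · rw [(hm.pow j).natDegree_mul (hm'.pow j), natDegree_pow, natDegree_pow]
    have := Nat.mul_pos hj hirr.natDegree_pos
    omega
  · rw [coeff_zero_eq_eval_zero, eval_mul, eval_pow, eval_pow, ← coeff_zero_eq_eval_zero,
      ← coeff_zero_eq_eval_zero]
    exact mul_ne_zero (pow_ne_zero _ h0) (pow_ne_zero _ h0')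
  · have hpow : ∀ (r : F[X]) k, GUCount.dual (RingEquiv.refl F) (r ^ k) =
        GUCount.dual (RingEquiv.refl F) r ^ k := fun r k => by
      induction k with
      | zero => rw [pow_zero, pow_zero, GUCount.dual_one]
      | succ k ih => rw [pow_succ, pow_succ, GUCount.dual_mul, ih]
    rw [GUCount.dual_mul, hpow, hpow, ← hp', hdd, mul_comm]
  · exact GUCount.pow_dvd_of_crit (t := p' ^ j) hirr rfl
      (fun a => ∀ c, S.B (v + w) (S.pol (a * c) (v + w)) = 0) (hcl _ _ hx0).1 (hcl _ _ hx0).2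
      (fun h => hc₁ (h c₁)) he
  · exact GUCount.pow_dvd_of_crit (t := p ^ j) hirr' (mul_comm _ _)
      (fun a => ∀ c, S.B (v + w) (S.pol (a * c) (v + w)) = 0) (hcl _ _ hx0).1 (hcl _ _ hx0).2
      (fun h => hc₂ (h c₂)) he

variable {s : F}

omit [Finite F] in
theorem fn_om {x y : Fin d → F} (hy : S.pol (lf s j) y = 0) :
    S.fn (lf_monic s j) x y (om s j) = S.B x (S.pol ((X - C s) ^ (j - 1)) y) :=
  S.fn_mk (lf_monic s j) hy _

omit [Finite F] in
theorem om_swap (hs : s * s = 1) (hj : 0 < j) {x y : Fin d → F} (hx : S.pol (lf s j) x = 0)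
    (hy : S.pol (lf s j) y = 0) :
    S.B y (S.pol ((X - C s) ^ (j - 1)) x) =
      (-1) ^ (j - 1) * ε * S.B x (S.pol ((X - C s) ^ (j - 1)) y) := by
  have hs0 : s ≠ 0 := fun h => by simp [h] at hs
  have h0 : (lf s j).coeff 0 ≠ 0 := by
    rw [lf, coeff_zero_eq_eval_zero, eval_pow, eval_sub, eval_X, eval_C, zero_sub]
    exact pow_ne_zero _ (neg_ne_zero.2 hs0)
  have hd : GUCount.dual (RingEquiv.refl F) (lf s j) = lf s j := by
    rw [lf]
    clear h0 hx hy hj
    induction j with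
    | zero => rw [pow_zero, GUCount.dual_one]
    | succ j ih => rw [pow_succ, GUCount.dual_mul, ih, dual_sub_C hs]
  obtain ⟨τ, hτ, -⟩ := exists_tau (lf_monic s j) h0 hd
  rw [← S.fn_om hx, S.fn_swap (lf_monic s j) hτ hx hy, tau_om hj hs hτ, map_smul, smul_eq_mul,
    S.fn_om hy]
  ring

theorem exists_pair_vec (hs : s * s = 1) (hj : 0 < j)
    (hlt : S.kdim ((X - C s) ^ (j - 1)) < S.kdim ((X - C s) ^ j))
    (hstab : LinearMap.ker (S.pol ((X - C s) ^ (j + 1))) = LinearMap.ker (S.pol ((X - C s) ^ j))) :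
    ∃ x y, S.pol (lf s j) x = 0 ∧ S.pol (lf s j) y = 0 ∧
      S.B x (S.pol ((X - C s) ^ (j - 1)) y) ≠ 0 := by
  have hs0 : s ≠ 0 := fun h => by simp [h] at hs
  obtain ⟨v, hv0, hv1⟩ := S.exists_topvec hlt
  obtain ⟨w, hw0, hw⟩ := S.partner (monic_X_sub_C s) (by simp [hs0]) (S.top_spec hj hstab hv0 hv1)
  rw [dual_sub_C hs] at hw0
  exact ⟨w, v, hw0, hv0, hw⟩

omit [Finite F] in
/-- In the symmetric case some value at the top is not zero. -/
theorem exists_value (h2 : (2 : F) ≠ 0) (hs : s * s = 1) (hj : 0 < j)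
    (hpar : (-1 : F) ^ (j - 1) * ε = 1) {x y : Fin d → F} (hx : S.pol (lf s j) x = 0)
    (hy : S.pol (lf s j) y = 0) (hxy : S.B x (S.pol ((X - C s) ^ (j - 1)) y) ≠ 0) :
    ∃ a b : F, S.B (a • x + b • y) (S.pol ((X - C s) ^ (j - 1)) (a • x + b • y)) ≠ 0 := by
  by_contra hne
  push Not at hne
  have h1 := hne 1 0
  have h3 := hne 0 1
  have h4 := hne 1 1
  simp only [one_smul, zero_smul, add_zero, zero_add] at h1 h3 h4
  rw [map_add, map_add, map_add, LinearMap.add_apply, LinearMap.add_apply, h1, h3,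
    S.om_swap hs hj hx hy, hpar, one_mul] at h4
  refine hxy ((mul_eq_zero.1 ?_).resolve_left h2)
  linear_combination h4

/-- With two top blocks the value one is taken. -/
theorem exists_value_one [Fintype F] (h2 : (2 : F) ≠ 0) (hs : s * s = 1) (hj : 0 < j)
    (hpar : (-1 : F) ^ (j - 1) * ε = 1)
    (hlt : S.kdim ((X - C s) ^ (j - 1)) + 2 ≤ S.kdim ((X - C s) ^ j))
    (hstab : LinearMap.ker (S.pol ((X - C s) ^ (j + 1))) = LinearMap.ker (S.pol ((X - C s) ^ j))) :
    ∃ x, S.pol (lf s j) x = 0 ∧ S.B x (S.pol ((X - C s) ^ (j - 1)) x) = 1 := by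
  have hs0 : s ≠ 0 := fun h => by simp [h] at hs
  obtain ⟨Q, hQ⟩ : ∃ Q : (Fin d → F) → (Fin d → F) → F,
      ∀ a b, Q a b = S.B a (S.pol ((X - C s) ^ (j - 1)) b) := ⟨_, fun _ _ => rfl⟩
  obtain ⟨x₁, y₁, hx₁, hy₁, hxy₁⟩ := S.exists_pair_vec hs hj (by omega) hstab
  obtain ⟨α, β, hαβ⟩ := S.exists_value h2 hs hj hpar hx₁ hy₁ hxy₁
  obtain ⟨x, hxdef⟩ : ∃ x, x = α • x₁ + β • y₁ := ⟨_, rfl⟩
  have hx : S.pol (lf s j) x = 0 := by
    rw [hxdef, map_add, map_smul, map_smul, hx₁, hy₁, smul_zero, smul_zero, add_zero]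
  obtain ⟨a, ha⟩ : ∃ a, Q x x = a := ⟨_, rfl⟩
  have ha0 : a ≠ 0 := by rw [← ha, hQ, hxdef]; exact hαβ
  obtain ⟨z, hz, hz1⟩ : ∃ z, S.pol (lf s j) z = 0 ∧
      z ∉ LinearMap.ker (S.pol ((X - C s) ^ (j - 1))) ⊔ (F ∙ x) := by
    by_contra hc
    push Not at hc
    have h1 : LinearMap.ker (S.pol ((X - C s) ^ j)) ≤
        LinearMap.ker (S.pol ((X - C s) ^ (j - 1))) ⊔ (F ∙ x) := fun z hz => hc z hz
    have h3 := (Submodule.finrank_mono h1).trans (Submodule.finrank_add_le_finrank_add_finrank _ _)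
    have h4 : finrank F (F ∙ x) ≤ 1 := by
      refine (finrank_span_le_card ({x} : Set (Fin d → F))).trans ?_
      simp
    simp only [kdim] at hlt
    omega
  obtain ⟨y, hy⟩ : ∃ y, y = z - (Q x z / a) • x := ⟨_, rfl⟩
  have hy0 : S.pol (lf s j) y = 0 := by rw [hy, map_sub, map_smul, hz, hx, smul_zero, sub_zero]
  have hy1 : S.pol ((X - C s) ^ (j - 1)) y ≠ 0 := by
    intro h
    apply hz1
    rw [show z = y + (Q x z / a) • x by rw [hy]; abel]
    exact Submodule.add_mem_sup h (Submodule.smul_mem _ _ (Submodule.mem_span_singleton_self x))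
  have hxy : Q x y = 0 := by
    rw [hQ, hy, map_sub, map_smul, map_sub, map_smul, ← hQ, ← hQ, ha, smul_eq_mul,
      div_mul_cancel₀ _ ha0, sub_self]
  obtain ⟨w, hw0, hw⟩ := S.partner (monic_X_sub_C s) (by simp [hs0]) (S.top_spec hj hstab hy0 hy1)
  rw [dual_sub_C hs] at hw0
  obtain ⟨w', hw'⟩ : ∃ w', w' = w - (Q x w / a) • x := ⟨_, rfl⟩
  have hw'0 : S.pol (lf s j) w' = 0 := by
    rw [hw', map_sub, map_smul, show S.pol (lf s j) w = 0 from hw0, hx, smul_zero, sub_zero]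
  have hxw : Q x w' = 0 := by
    rw [hQ, hw', map_sub, map_smul, map_sub, map_smul, ← hQ, ← hQ, ha, smul_eq_mul,
      div_mul_cancel₀ _ ha0, sub_self]
  have hwy : S.B w' (S.pol ((X - C s) ^ (j - 1)) y) ≠ 0 := by
    rw [hw', map_sub, map_smul, LinearMap.sub_apply, LinearMap.smul_apply, ← hQ x, hxy, smul_zero,
      sub_zero]
    exact hw
  obtain ⟨γ, δ, hγδ⟩ := S.exists_value h2 hs hj hpar hw'0 hy0 hwy
  obtain ⟨e, he⟩ : ∃ e, e = γ • w' + δ • y := ⟨_, rfl⟩
  have he0 : S.pol (lf s j) e = 0 := by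
    rw [he, map_add, map_smul, map_smul, hw'0, hy0, smul_zero, smul_zero, add_zero]
  obtain ⟨b, hb⟩ : ∃ b, Q e e = b := ⟨_, rfl⟩
  have hb0 : b ≠ 0 := by rw [← hb, hQ, he]; exact hγδ
  have hxe : Q x e = 0 := by
    rw [hQ, he, map_add, map_smul, map_smul, map_add, map_smul, map_smul, ← hQ, ← hQ, hxw, hxy,
      smul_zero, smul_zero, add_zero]
  have hex : Q e x = 0 := by rw [hQ, S.om_swap hs hj hx he0, ← hQ, hxe, mul_zero]
  obtain ⟨m, n, hmn⟩ : ∃ m n : F, a * m ^ 2 + b * n ^ 2 = 1 := by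
    have hodd : Fintype.card F % 2 = 1 := by
      refine Nat.odd_iff.1 (Nat.not_even_iff_odd.1 fun he => h2 ?_)
      have h5 := FiniteField.even_card_iff_char_two.2 (Nat.even_iff.1 he)
      have h6 := ringChar.of_eq h5
      exact_mod_cast CharP.cast_eq_zero F 2
    obtain ⟨m, n, h⟩ := FiniteField.exists_root_sum_quadratic (f := C a * X ^ 2 - C 1)
      (g := C b * X ^ 2)
      (by
        rw [degree_sub_eq_left_of_degree_lt]
        · exact degree_C_mul_X_pow 2 ha0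
        · rw [degree_C_mul_X_pow 2 ha0]
          exact lt_of_le_of_lt (degree_C_le (a := (1 : F))) (WithBot.coe_lt_coe.2 two_pos))
      (degree_C_mul_X_pow 2 hb0) hodd
    simp at h
    exact ⟨m, n, by linear_combination h⟩
  refine ⟨m • x + n • e, by rw [map_add, map_smul, map_smul, hx, he0, smul_zero, smul_zero, add_zero], ?_⟩
  simp only [map_add, map_smul, LinearMap.add_apply, LinearMap.smul_apply, smul_eq_mul, ← hQ, ha, hb,
    hxe, hex]
  linear_combination hmn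

end Sys

end Cfsg.Agent.FormCount
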