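import Cfsg.Agent.Lib.Classical.FormCount.Induct

/-!
A unit fixed by the involution with non-square norm on the fixed subalgebra, for hermitian blocks of odd size.
-/

set_option autoImplicit false
set_option linter.style.haveILetI false
set_option linter.unusedSectionVars false

namespace Cfsg.Agent.FormCount

open Polynomial Module

universe u

variable {F : Type u} [Field F] [Fintype F]

/-- The fixed subalgebra of the involution. -/
noncomputable def fixAlg {f : F[X]} (τ : AdjoinRoot f →ₐ[F] AdjoinRoot f) : Subalgebra F (AdjoinRoot f) :=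
  AlgHom.equalizer τ (AlgHom.id F (AdjoinRoot f))

theorem mem_fixAlg {f : F[X]} {τ : AdjoinRoot f →ₐ[F] AdjoinRoot f} {a : AdjoinRoot f} :
    a ∈ fixAlg τ ↔ τ a = a := Iff.rfl

theorem tau_mk {f : F[X]} {τ : AdjoinRoot f →ₐ[F] AdjoinRoot f}
    (hτ : τ (AdjoinRoot.root f) * AdjoinRoot.root f = 1) (P : F[X]) :
    τ (AdjoinRoot.mk f P) * AdjoinRoot.root f ^ P.natDegree = AdjoinRoot.mk f P.reverse := by
  have hρ : AdjoinRoot.root f * τ (AdjoinRoot.root f) = 1 := (mul_comm _ _).trans hτ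
  let i : Invertible (τ (AdjoinRoot.root f)) := ⟨AdjoinRoot.root f, hρ, hτ⟩
  have h : eval₂ (algebraMap F (AdjoinRoot f)) (AdjoinRoot.root f) P.reverse *
      τ (AdjoinRoot.root f) ^ P.natDegree =
      eval₂ (algebraMap F (AdjoinRoot f)) (τ (AdjoinRoot.root f)) P :=
    @eval₂_reverse_mul_pow F _ (AdjoinRoot f) _ (algebraMap F (AdjoinRoot f)) _ i P
  rw [← aeval_def, ← aeval_def, aeval_algHom_apply, AdjoinRoot.aeval_eq, AdjoinRoot.aeval_eq] at h
  rw [← h, mul_assoc, ← mul_pow, hτ, one_pow, mul_one]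

theorem tau_mk_dual {f : F[X]} {τ : AdjoinRoot f →ₐ[F] AdjoinRoot f}
    (hτ : τ (AdjoinRoot.root f) * AdjoinRoot.root f = 1) {P : F[X]} (h0 : P.coeff 0 ≠ 0) :
    ∃ u, τ (AdjoinRoot.mk f P) = u * AdjoinRoot.mk f (GUCount.dual (RingEquiv.refl F) P) := by
  refine ⟨AdjoinRoot.mk f (C (P.coeff 0)) * τ (AdjoinRoot.root f) ^ P.natDegree, ?_⟩
  have hd : GUCount.dual (RingEquiv.refl F) P = C (P.coeff 0)⁻¹ * P.reverse := by
    simp [GUCount.dual]
  rw [hd, map_mul, ← tau_mk hτ P]
  calc τ (AdjoinRoot.mk f P) = AdjoinRoot.mk f (C (P.coeff 0) * C (P.coeff 0)⁻¹) *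
        (τ (AdjoinRoot.mk f P) * (τ (AdjoinRoot.root f) * AdjoinRoot.root f) ^ P.natDegree) := by
        rw [hτ, one_pow, mul_one, ← C_mul, mul_inv_cancel₀ h0, C_1, map_one, one_mul]
    _ = _ := by rw [map_mul, mul_pow]; ring

theorem exists_fixed_unit (h2 : (2 : F) ≠ 0) {p : F[X]} {j : ℕ} (hp : Irreducible p) (hm : p.Monic)
    (h0 : p.coeff 0 ≠ 0) (hj : Odd j) {f : F[X]} (hf : f.Monic) (hfe : f = Sys.hermPoly p j)
    {τ : AdjoinRoot f →ₐ[F] AdjoinRoot f} (hτ : τ (AdjoinRoot.root f) * AdjoinRoot.root f = 1)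
    (hττ : ∀ x, τ (τ x) = x) (hδ : IsUnit (AdjoinRoot.root f - τ (AdjoinRoot.root f))) :
    ∃ z : fixAlg τ, IsUnit (z : AdjoinRoot f) ∧
      ¬ IsSquare (LinearMap.det (LinearMap.mulLeft F z)) := by
  classical
  haveI : Fact (Irreducible p) := ⟨hp⟩
  haveI : Module.Finite F (AdjoinRoot f) := hf.finite_adjoinRoot
  haveI : Finite (AdjoinRoot f) := Module.finite_of_finite F
  haveI : Module.Finite F (AdjoinRoot p) := hm.finite_adjoinRoot
  haveI : Finite (AdjoinRoot p) := Module.finite_of_finite F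
  letI : Fintype (AdjoinRoot p) := Fintype.ofFinite _
  obtain ⟨p', hp'⟩ : ∃ p', p' = GUCount.dual (RingEquiv.refl F) p := ⟨_, rfl⟩
  have hdd : GUCount.dual (RingEquiv.refl F) p' = p := hp' ▸ GUCount.dual_dual (fun _ => rfl) hm h0
  have hpf : p ∣ f := by
    rw [hfe, Sys.hermPoly]
    split_ifs
    · exact dvd_pow_self p hj.pos.ne'
    · exact Dvd.dvd.mul_right (dvd_pow_self p hj.pos.ne') _
  have hfdvd : f ∣ p ^ j * p' ^ j := by
    rw [hfe, Sys.hermPoly, ← hp']
    split_ifs
    · exact dvd_mul_right _ _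
    · exact dvd_rfl
  obtain ⟨π, hπr⟩ : ∃ π : AdjoinRoot f →ₐ[F] AdjoinRoot p,
      π (AdjoinRoot.root f) = AdjoinRoot.root p := by
    have h0f : aeval (AdjoinRoot.root p) f = 0 := by
      rw [AdjoinRoot.aeval_eq, AdjoinRoot.mk_eq_zero]
      exact hpf
    exact ⟨AdjoinRoot.liftAlgHom f (Algebra.ofId F (AdjoinRoot p)) (AdjoinRoot.root p) h0f,
      AdjoinRoot.liftAlgHom_root _ _ _ _⟩
  have hπ : ∀ P, π (AdjoinRoot.mk f P) = AdjoinRoot.mk p P := fun P => by
    rw [← AdjoinRoot.aeval_eq, ← aeval_algHom_apply, hπr, AdjoinRoot.aeval_eq]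
  -- fixed elements killed by the residue map are nilpotent
  have hnil : ∀ a, τ a = a → π a = 0 → a ^ (2 * j) = 0 := by
    intro a ha ha0
    obtain ⟨P, rfl⟩ := AdjoinRoot.mk_surjective (g := f) a
    rw [hπ, AdjoinRoot.mk_eq_zero] at ha0
    obtain ⟨R, hR⟩ := ha0
    obtain ⟨u, hu⟩ := tau_mk_dual hτ h0
    have hsq : AdjoinRoot.mk f P * AdjoinRoot.mk f P =
        AdjoinRoot.mk f (p * p') * (AdjoinRoot.mk f R * (u * τ (AdjoinRoot.mk f R))) := by
      nth_rewrite 1 [← ha]
      rw [hR, map_mul, map_mul τ, hu, hp', map_mul]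
      ring
    have hz : AdjoinRoot.mk f (p * p') ^ j = 0 := by
      rw [← map_pow, mul_pow, AdjoinRoot.mk_eq_zero]
      exact hfdvd
    rw [pow_mul, sq, hsq, mul_pow, hz, zero_mul]
  -- the residue field of the fixed subalgebra
  obtain ⟨A0, hA0⟩ : ∃ A0, A0 = fixAlg τ := ⟨_, rfl⟩
  obtain ⟨K₀, hK₀⟩ : ∃ K₀ : IntermediateField F (AdjoinRoot p), ∀ c, c ∈ K₀ ↔ ∃ a ∈ A0, π a = c := by
    refine ⟨(A0.map π).toIntermediateField' (Finite.isField_of_domain (A0.map π)), fun c => ?_⟩
    exact Subalgebra.mem_map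
  choose lift hlift0 hlift1 using fun c : K₀ => (hK₀ c.1).1 c.2
  obtain ⟨δ, hδd⟩ : ∃ δ, δ = AdjoinRoot.root f - τ (AdjoinRoot.root f) := ⟨_, rfl⟩
  rw [← hδd] at hδ
  have hτδ : τ δ = -δ := by rw [hδd, map_sub, hττ, neg_sub]
  obtain ⟨δi, hδi⟩ := hδ.exists_right_inv
  have hτδi : τ δi = -δi := by
    have h1 := congrArg τ hδi
    rw [map_mul, hτδ, map_one] at h1
    calc τ δi = δ * δi * τ δi := by rw [hδi, one_mul]
      _ = -δi * (-δ * τ δi) := by ring
      _ = -δi := by rw [h1, mul_one]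
  have hhalf : algebraMap F (AdjoinRoot f) 2⁻¹ * 2 = 1 := by
    rw [← map_ofNat (algebraMap F (AdjoinRoot f)) 2, ← map_mul, inv_mul_cancel₀ h2, map_one]
  -- every element is `a + δ b` with fixed `a` and `b`
  have hdec : ∀ x, ∃ a b, τ a = a ∧ τ b = b ∧ x = a + δ * b := fun x =>
    ⟨algebraMap F _ 2⁻¹ * (x + τ x), algebraMap F _ 2⁻¹ * (δi * (x - τ x)),
      by rw [map_mul τ, AlgHom.commutes, map_add τ, hττ, add_comm],
      by rw [map_mul τ, AlgHom.commutes, map_mul τ, hτδi, map_sub τ, hττ]; ring,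
      by linear_combination (-x) * hhalf + (-(algebraMap F (AdjoinRoot f) 2⁻¹) * (x - τ x)) * hδi⟩
  -- the dimension of the fixed subalgebra
  have hdim : 2 * finrank F A0 = f.natDegree := by
    let L : (A0 × A0) →ₗ[F] AdjoinRoot f :=
      { toFun := fun x => x.1.1 + δ * x.2.1
        map_add' := fun x y => by simp only [Prod.fst_add, Prod.snd_add, Subalgebra.coe_add]; ring
        map_smul' := fun c x => by
          simp only [Prod.smul_fst, Prod.smul_snd, Subalgebra.coe_smul, mul_smul_comm, smul_add,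
            RingHom.id_apply] }
    have hL : Function.Bijective L := by
      refine ⟨(injective_iff_map_eq_zero L).2 fun x hx => ?_, fun y => ?_⟩
      · have e1 : x.1.1 + δ * x.2.1 = 0 := hx
        have ha : τ x.1.1 = x.1.1 := hA0.le x.1.2
        have hb : τ x.2.1 = x.2.1 := hA0.le x.2.2
        have e2 := congrArg τ e1
        rw [map_add τ, map_mul τ, hτδ, ha, hb, map_zero] at e2
        have e3 : x.1.1 = 0 := by
          linear_combination (-x.1.1) * hhalf + (algebraMap F (AdjoinRoot f) 2⁻¹) * e1 +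
            (algebraMap F (AdjoinRoot f) 2⁻¹) * e2
        rw [e3, zero_add] at e1
        exact Prod.ext (Subtype.ext e3) (Subtype.ext (hδ.mul_right_eq_zero.1 e1))
      · obtain ⟨a, b, ha, hb, hab⟩ := hdec y
        exact ⟨(⟨a, hA0.ge ha⟩, ⟨b, hA0.ge hb⟩), hab.symm⟩
    have h := (LinearEquiv.ofBijective L hL).finrank_eq
    rw [Module.finrank_prod, (AdjoinRoot.powerBasis' hf).finrank, AdjoinRoot.powerBasis'_dim] at h
    omega
  have hpdeg : finrank F (AdjoinRoot p) = p.natDegree := by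
    rw [(AdjoinRoot.powerBasis' hm).finrank, AdjoinRoot.powerBasis'_dim]
  -- the residue field has the expected degree
  have hres : j * finrank F K₀ = finrank F A0 := by
    have hspan : ∀ x : AdjoinRoot p, ∃ a b : K₀, x = a.1 + π δ * b.1 := fun x => by
      obtain ⟨P, rfl⟩ := AdjoinRoot.mk_surjective (g := p) x
      obtain ⟨a, b, ha, hb, hab⟩ := hdec (AdjoinRoot.mk f P)
      exact ⟨⟨π a, (hK₀ _).2 ⟨a, hA0.ge ha, rfl⟩⟩, ⟨π b, (hK₀ _).2 ⟨b, hA0.ge hb, rfl⟩⟩,
        by rw [← hπ, hab, map_add, map_mul]⟩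
    replace hdim := hdim.trans (congrArg natDegree hfe)
    rw [Sys.hermPoly, ← hp'] at hdim
    by_cases hd : p' = p
    · -- self-dual: index two
      rw [if_pos hd, natDegree_pow] at hdim
      have hnot : π δ ∉ K₀ := by
        intro hmem
        obtain ⟨a, ha, hπa⟩ := (hK₀ _).1 hmem
        rw [hA0] at ha
        obtain ⟨R, hR⟩ := AdjoinRoot.mk_surjective (g := f) (a - δ)
        have h1 : π (AdjoinRoot.mk f R) = 0 := by rw [hR, map_sub, hπa, sub_self]
        rw [hπ, AdjoinRoot.mk_eq_zero] at h1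
        obtain ⟨R', hR'⟩ := h1
        have h3 : π (τ (a - δ)) = 0 := by
          obtain ⟨u, hu⟩ := tau_mk_dual hτ h0
          rw [← hR, hR', map_mul, map_mul τ, hu, ← hp', hd, map_mul, map_mul, hπ,
            AdjoinRoot.mk_self, mul_zero, zero_mul]
        rw [map_sub, mem_fixAlg.1 ha, hτδ, map_sub, map_neg, sub_neg_eq_add, hπa, ← two_mul] at h3
        have h2' : (2 : AdjoinRoot p) ≠ 0 := by
          rw [← map_ofNat (algebraMap F (AdjoinRoot p)) 2]
          exact (_root_.map_ne_zero _).2 h2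
        exact (hδ.map π).ne_zero ((mul_eq_zero.1 h3).resolve_left h2')
      let L : (K₀ × K₀) →ₗ[F] AdjoinRoot p :=
        { toFun := fun x => x.1.1 + π δ * x.2.1
          map_add' := fun x y => by
            simp only [Prod.fst_add, Prod.snd_add, IntermediateField.coe_add]; ring
          map_smul' := fun c x => by
            simp only [Prod.smul_fst, Prod.smul_snd, IntermediateField.coe_smul, mul_smul_comm, smul_add,
              RingHom.id_apply] }
      have hL : Function.Bijective L := by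
        refine ⟨(injective_iff_map_eq_zero L).2 fun x hx => ?_, fun y => ?_⟩
        · have e1 : x.1.1 + π δ * x.2.1 = 0 := hx
          by_cases hb : x.2.1 = 0
          · rw [hb, mul_zero, add_zero] at e1
            exact Prod.ext (Subtype.ext e1) (Subtype.ext hb)
          · refine absurd ?_ hnot
            have : π δ = -x.1.1 * (x.2.1)⁻¹ := by field_simp; linear_combination e1
            rw [this]
            exact mul_mem (neg_mem x.1.2) (inv_mem x.2.2)
        · obtain ⟨a, b, hab⟩ := hspan y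
          exact ⟨(a, b), hab.symm⟩
      have h := (LinearEquiv.ofBijective L hL).finrank_eq
      rw [Module.finrank_prod, hpdeg] at h
      rw [← h, mul_add] at hdim
      omega
    · rw [if_neg hd, natDegree_mul (pow_ne_zero _ hm.ne_zero)
        (pow_ne_zero _ (hp' ▸ GUCount.dual_monic h0).ne_zero), natDegree_pow, natDegree_pow, hp',
        GUCount.natDegree_dual h0] at hdim
      have hmem : π δ ∈ K₀ := by
        obtain ⟨α, β, hαβ⟩ : IsCoprime (p ^ j) (p' ^ j) := (hp.coprime_iff_not_dvd.2 fun h => hd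
          (eq_of_monic_of_associated hm (hp' ▸ GUCount.dual_monic h0) (hp.associated_of_dvd
            (hp' ▸ GUCount.dual_irreducible (fun _ => rfl) hp hm h0) h)).symm).pow
        obtain ⟨e, he⟩ : ∃ e, e = AdjoinRoot.mk f (β * p' ^ j) * δ := ⟨_, rfl⟩
        refine (hK₀ _).2 ⟨e + τ e, hA0.ge (by rw [mem_fixAlg, map_add τ, hττ, add_comm]), ?_⟩
        have hπe : π (τ e) = 0 := by
          obtain ⟨u, hu⟩ := tau_mk_dual hτ (P := p') (hp' ▸ GUCount.dual_coeff_zero_ne hm h0)
          rw [hdd] at hu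
          simp only [he, map_mul τ, map_mul (AdjoinRoot.mk f), map_pow, hu, map_mul, hπ, AdjoinRoot.mk_self,
            mul_zero, zero_pow hj.pos.ne', zero_mul]
        rw [map_add, hπe, add_zero, he, map_mul, hπ]
        have h1 : AdjoinRoot.mk p (β * p' ^ j) = 1 := by
          have := congrArg (AdjoinRoot.mk p) hαβ
          simp only [map_add, map_mul, map_pow, AdjoinRoot.mk_self, zero_pow hj.pos.ne', mul_zero, zero_add,
            map_one] at this
          rw [map_mul, map_pow]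
          exact this
        rw [h1, one_mul]
      have htop : K₀ = ⊤ := eq_top_iff.2 fun x _ => by
        obtain ⟨a, b, hab⟩ := hspan x
        rw [hab]
        exact add_mem a.2 (mul_mem hmem b.2)
      rw [htop, IntermediateField.finrank_top', hpdeg]
      omega
  -- the Teichmüller section
  obtain ⟨q₀, hq₀⟩ := CharP.exists F
  haveI : Fact q₀.Prime := ⟨CharP.char_is_prime F q₀⟩
  haveI : CharP (AdjoinRoot p) q₀ := charP_of_injective_algebraMap (algebraMap F (AdjoinRoot p)).injective q₀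
  obtain ⟨m, -, hm'⟩ := FiniteField.card (AdjoinRoot p) q₀
  obtain ⟨Q, hQ⟩ : ∃ Q, Q = Fintype.card (AdjoinRoot p) ^ (2 * j) := ⟨_, rfl⟩
  have hQp : Q = q₀ ^ ((m : ℕ) * (2 * j)) := by rw [hQ, hm', ← pow_mul]
  have hQge : 2 * j ≤ Q := hQ ▸ (Nat.lt_pow_self Fintype.one_lt_card).le
  haveI : Nontrivial (AdjoinRoot f) := π.toRingHom.domain_nontrivial
  haveI : CharP (AdjoinRoot f) q₀ := charP_of_injective_algebraMap (algebraMap F (AdjoinRoot f)).injective q₀
  haveI : ExpChar (AdjoinRoot f) q₀ := ExpChar.prime Fact.out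
  have hQadd : ∀ a b : AdjoinRoot f, (a + b) ^ Q = a ^ Q + b ^ Q := fun a b => by
    rw [hQp, add_pow_expChar_pow]
  have hQc : ∀ c : F, algebraMap F (AdjoinRoot f) c ^ Q = algebraMap F (AdjoinRoot f) c := fun c => by
    rw [← map_pow]
    congr 1
    apply (algebraMap F (AdjoinRoot p)).injective
    rw [map_pow, hQ, FiniteField.pow_card_pow]
  have hwd : ∀ (a : AdjoinRoot f) (c : K₀), a ∈ A0 → π a = c.1 → a ^ Q = lift c ^ Q := by
    intro a c ha hπa
    have h1 : (a - lift c) ^ Q = 0 := by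
      refine pow_eq_zero_of_le hQge (hnil _ ?_ ?_)
      · rw [map_sub τ, mem_fixAlg.1 (hA0.le ha), mem_fixAlg.1 (hA0.le (hlift0 c))]
      · rw [map_sub, hπa, hlift1, sub_self]
    calc a ^ Q = (a - lift c + lift c) ^ Q := by rw [sub_add_cancel]
      _ = _ := by rw [hQadd, h1, zero_add]
  let s : K₀ →+* A0 :=
    { toFun := fun c => ⟨lift c ^ Q, pow_mem (hlift0 c) Q⟩
      map_one' := Subtype.ext (by
        show lift 1 ^ Q = 1
        rw [← hwd 1 1 (one_mem _) (map_one π), one_pow])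
      map_zero' := Subtype.ext (by
        show lift 0 ^ Q = 0
        rw [← hwd 0 0 (zero_mem _) (map_zero π), zero_pow (show Q ≠ 0 by have := hj.pos; omega)])
      map_mul' := fun a b => Subtype.ext (by
        show lift (a * b) ^ Q = lift a ^ Q * lift b ^ Q
        rw [← hwd (lift a * lift b) (a * b) (mul_mem (hlift0 a) (hlift0 b))
          (by rw [map_mul, hlift1, hlift1]; rfl), mul_pow])
      map_add' := fun a b => Subtype.ext (by
        show lift (a + b) ^ Q = lift a ^ Q + lift b ^ Q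
        rw [← hwd (lift a + lift b) (a + b) (add_mem (hlift0 a) (hlift0 b))
          (by rw [map_add, hlift1, hlift1]; rfl), hQadd]) }
  letI : Algebra K₀ A0 := s.toAlgebra
  haveI : IsScalarTower F K₀ A0 := IsScalarTower.of_algebraMap_eq fun c => Subtype.ext (by
    show algebraMap F (AdjoinRoot f) c = lift (algebraMap F K₀ c) ^ Q
    rw [← hwd (algebraMap F _ c) (algebraMap F K₀ c) (A0.algebraMap_mem c) (π.commutes c), hQc])
  haveI : Finite K₀ := Subtype.finite
  haveI : Module.Finite K₀ A0 := Module.Finite.of_restrictScalars_finite F K₀ A0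
  have hr : finrank K₀ A0 = j := by
    have h := Module.finrank_mul_finrank F K₀ A0
    rw [← hres, mul_comm j] at h
    exact Nat.eq_of_mul_eq_mul_left Module.finrank_pos h
  obtain ⟨d, hd⟩ := FiniteField.exists_nonsquare (F := F) (by
    intro h'
    refine h2 ?_
    have h6 := ringChar.of_eq h'
    exact_mod_cast CharP.cast_eq_zero F 2)
  have hd0 : d ≠ 0 := fun h => hd (h ▸ IsSquare.zero)
  obtain ⟨c, hc⟩ := FiniteField.unitsMap_norm_surjective F K₀ (Units.mk0 d hd0)
  subst hA0
  refine ⟨algebraMap K₀ (fixAlg τ) c.1, ?_, ?_⟩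
  · exact ((c.isUnit).map (algebraMap K₀ (fixAlg τ))).map (fixAlg τ).val
  · have e1 : LinearMap.det (LinearMap.mulLeft F (algebraMap K₀ (fixAlg τ) c.1)) =
        Algebra.norm F (algebraMap K₀ (fixAlg τ) c.1) := rfl
    rw [e1, ← Algebra.norm_norm (R := F) (S := K₀), Algebra.norm_algebraMap, hr, map_pow,
      show Algebra.norm F (c : K₀) = d from congrArg Units.val hc]
    obtain ⟨k, hk⟩ := hj
    rw [hk, pow_succ, pow_mul]
    rintro ⟨w, hw⟩
    refine hd ⟨w / d ^ k, ?_⟩
    field_simp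
    linear_combination hw

end Cfsg.Agent.FormCount
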