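import Cfsg.Agent.Lib.Classical.FormCount.Models

/-!
Similar systems fall into at most `2 ^ (number of signed block types)` isometry classes.
-/

set_option autoImplicit false
set_option linter.style.haveILetI false

namespace Cfsg.Agent.FormCount

open Polynomial Module
open LinearMap (BilinForm)

universe u

variable {F : Type u} [Field F] {ε : F} {d : ℕ}

open Sys

/-- The number of blocks `(X - s) ^ j`. -/
noncomputable def mult (S : Sys F ε d) (s : F) (j : ℕ) : ℤ :=
  2 * (S.kdim ((X - C s) ^ j) : ℤ) - S.kdim ((X - C s) ^ (j - 1)) - S.kdim ((X - C s) ^ (j + 1))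

open Classical in
/-- The block types carrying a sign. -/
noncomputable def signed (N : ℕ) (S : Sys F ε d) : Finset (F × ℕ) :=
  ((({1, -1} : Finset F) ×ˢ Finset.Icc 1 N)).filter
    fun z => (-1 : F) ^ (z.2 - 1) * ε = 1 ∧ 0 < mult S z.1 z.2

theorem mult_sim {S S' : Sys F ε d} (h : Sim S S') (s : F) (j : ℕ) : mult S s j = mult S' s j := by
  simp only [mult, h _]

theorem top_eq {S : Sys F ε d} {p : F[X]} {j : ℕ}
    (hstab : LinearMap.ker (S.pol (p ^ (j + 1))) = LinearMap.ker (S.pol (p ^ j))) :
    S.kdim (p ^ (j + 1)) = S.kdim (p ^ j) := by rw [kdim, hstab, kdim]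

theorem stab_of_eq {S : Sys F ε d} {p : F[X]} {j : ℕ}
    (h : S.kdim (p ^ (j + 1)) = S.kdim (p ^ j)) :
    LinearMap.ker (S.pol (p ^ (j + 1))) = LinearMap.ker (S.pol (p ^ j)) :=
  (Submodule.eq_of_le_of_finrank_le (S.ker_le (pow_dvd_pow p (Nat.le_succ _))) h.le).symm

/-- The change of the kernels of `(X - t) ^ k` under removal of `c` copies of `(X - s) ^ j`. -/
theorem mult_rest {d' : ℕ} {S : Sys F ε d} {R : Sys F ε d'} {s : F} {j c : ℕ}
    (h : ∀ k, S.kdim ((X - C s) ^ k) = c * min k j + R.kdim ((X - C s) ^ k)) {i : ℕ} (hi : 0 < i) :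
    mult R s i = mult S s i - if i = j then (c : ℤ) else 0 := by
  simp only [mult, h]
  push_cast
  obtain ⟨i, rfl⟩ : ∃ i', i = i' + 1 := ⟨i - 1, by omega⟩
  rcases lt_trichotomy (i + 1) j with hlt | heq | hgt
  · rw [if_neg (by omega), min_eq_left (by omega), min_eq_left (by omega), min_eq_left (by omega),
      Nat.add_sub_cancel]
    push_cast
    ring
  · rw [if_pos heq, min_eq_left (by omega), min_eq_left (by omega), min_eq_right (by omega),
      Nat.add_sub_cancel]
    rw [← heq]
    push_cast
    ring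
  · rw [if_neg (by omega), min_eq_right (by omega), min_eq_right (by omega), min_eq_right (by omega)]
    ring

theorem mult_rest_zero {d' : ℕ} {S : Sys F ε d} {R : Sys F ε d'} {s : F}
    (h : ∀ k, S.kdim ((X - C s) ^ k) = R.kdim ((X - C s) ^ k)) (i : ℕ) :
    mult R s i = mult S s i := by
  simp only [mult, h]

/-- Every system has a vector killed by an irreducible polynomial. -/
theorem exists_primary (hd : 0 < d) (S : Sys F ε d) :
    ∃ (p : F[X]) (x : Fin d → F), Irreducible p ∧ p.Monic ∧ p.coeff 0 ≠ 0 ∧ S.pol p x = 0 ∧ x ≠ 0 := by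
  haveI : Nonempty (Fin d) := ⟨⟨0, hd⟩⟩
  have hint : IsIntegral F S.g.toLinearMap := Algebra.IsIntegral.isIntegral _
  obtain ⟨p, hm, hp, r, hr⟩ := Polynomial.exists_monic_irreducible_factor _
    (minpoly.not_isUnit F S.g.toLinearMap)
  have hr0 : r ≠ 0 := fun h => minpoly.ne_zero hint (by rw [hr, h, mul_zero])
  have hne : S.pol r ≠ 0 := by
    intro h
    have h1 := natDegree_le_of_dvd (minpoly.dvd F _ h) hr0
    rw [hr, natDegree_mul hp.ne_zero hr0] at h1
    have := hp.natDegree_pos
    omega
  obtain ⟨z, hz⟩ : ∃ z, S.pol r z ≠ 0 := by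
    by_contra hc
    push Not at hc
    exact hne (LinearMap.ext hc)
  have hx : S.pol p (S.pol r z) = 0 := by
    rw [← pol_mul, ← hr, pol, minpoly.aeval, LinearMap.zero_apply]
  refine ⟨p, S.pol r z, hp, hm, fun h0 => hz ?_, hx, hz⟩
  have hX : p = X := by
    refine (eq_of_monic_of_associated monic_X hm (irreducible_X.associated_of_dvd hp ?_)).symm
    rw [X_dvd_iff, h0]
  rw [hX, pol_X] at hx
  exact S.g.map_eq_zero_iff.1 hx

theorem cases_p [Finite F] {p : F[X]} (hp : Irreducible p) (hm : p.Monic) :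
    IsCoprime p (X ^ 2 - 1) ∨ ∃ s : F, s * s = 1 ∧ p = X - C s := by
  by_cases h : p ∣ X ^ 2 - 1
  · exact Or.inr (eq_of_dvd_sq_sub_one hp hm h)
  · exact Or.inl (hp.coprime_iff_not_dvd.2 h)

theorem coprime_pow {s t : F} (hst : s ≠ t) (k j : ℕ) : IsCoprime ((X - C s) ^ k) ((X - C t) ^ j) :=
  (Polynomial.isCoprime_X_sub_C_of_isUnit_sub (sub_ne_zero.2 hst).isUnit).pow

theorem coprime_sq {f : F[X]} (hf : IsCoprime f (X ^ 2 - 1)) {s : F} (hs : s * s = 1) (k : ℕ) :
    IsCoprime ((X - C s) ^ k) f := by
  refine (IsCoprime.of_isCoprime_of_dvd_right hf ⟨X + C s, ?_⟩).symm.pow_left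
  rw [← C_1 (R := F), ← hs, C_mul]
  ring

theorem sq_dual {s : F} (hs : s * s = 1) (j : ℕ) :
    (lf s j).coeff 0 ≠ 0 ∧ GUCount.dual (RingEquiv.refl F) (lf s j) = lf s j := by
  refine ⟨?_, ?_⟩
  · rw [lf, coeff_zero_eq_eval_zero, eval_pow, eval_sub, eval_X, eval_C, zero_sub]
    exact pow_ne_zero _ (neg_ne_zero.2 fun h => by simp [h] at hs)
  · induction j with
    | zero => rw [lf, pow_zero, GUCount.dual_one]
    | succ j ih =>
      rw [lf, pow_succ, GUCount.dual_mul, dual_sub_C hs]
      rw [lf] at ih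
      rw [ih]

theorem square_ratio [Finite F] (h2 : (2 : F) ≠ 0) {a b : F} (ha : a ≠ 0) (hb : b ≠ 0)
    (h : IsSquare a ↔ IsSquare b) : ∃ c : F, c * c * a = b := by
  haveI := Fintype.ofFinite F
  classical
  have hF : ringChar F ≠ 2 := fun h' => h2 (by
    have h6 := ringChar.of_eq h'
    exact_mod_cast CharP.cast_eq_zero F 2)
  suffices hsq : IsSquare (b / a) by
    obtain ⟨c, hc⟩ := hsq
    exact ⟨c, by rw [← hc, div_mul_cancel₀ b ha]⟩
  have hba : b / a ≠ 0 := div_ne_zero hb ha
  rw [← quadraticChar_one_iff_isSquare hba]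
  have hmul : quadraticChar F (b / a) * quadraticChar F a = quadraticChar F b := by
    rw [← map_mul, div_mul_cancel₀ b ha]
  have hab : quadraticChar F a = quadraticChar F b := by
    rcases quadraticChar_dichotomy ha with h1 | h1 <;> rcases quadraticChar_dichotomy hb with h3 | h3
    · rw [h1, h3]
    · exact absurd (h.1 ((quadraticChar_one_iff_isSquare ha).1 h1))
        (quadraticChar_neg_one_iff_not_isSquare.1 h3)
    · exact absurd (h.2 ((quadraticChar_one_iff_isSquare hb).1 h3))
        (quadraticChar_neg_one_iff_not_isSquare.1 h1)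
    · rw [h1, h3]
  rcases quadraticChar_dichotomy hb with h3 | h3 <;> rw [hab, h3] at hmul <;> omega

/-- Blocks with an alternating top form come in even numbers. -/
theorem even_mult [Finite F] (h2 : (2 : F) ≠ 0) (hε : ε * ε = 1) {t : F} (ht : t * t = 1) {i : ℕ}
    (hi : 0 < i) (hpar : (-1 : F) ^ (i - 1) * ε = -1) : ∀ (d : ℕ) (S : Sys F ε d),
      Even (mult S t i) := by
  haveI := Fintype.ofFinite F
  intro d
  induction d using Nat.strong_induction_on with
  | _ d ih =>
    intro S
    rcases Nat.eq_zero_or_pos d with hd | hd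
    · subst hd
      have h0 : ∀ P, S.kdim P = 0 := fun P => by
        have h := Submodule.finrank_le (LinearMap.ker (S.pol P))
        rw [Module.finrank_fin_fun] at h
        exact Nat.le_zero.1 h
      simp [mult, h0]
    obtain ⟨p, x₀, hp, hm, h0, hx₀, hx0⟩ := exists_primary hd S
    obtain ⟨j, hj, hlt, hstab⟩ := S.exists_top hx₀ hx0
    rcases cases_p hp hm with hco | ⟨s, hs, rfl⟩
    · obtain ⟨f, hf, -, hdeg, hf0, hfd, hf1, x, hx, hnd⟩ := S.exists_herm hε hp hm h0 hco hj hlt hstab
      obtain ⟨τ, hτ, hττ⟩ := exists_tau hf hf0 hfd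
      haveI : Module.Finite F (AdjoinRoot f) := hf.finite_adjoinRoot
      obtain ⟨L, hL, hLg⟩ := S.embeds_form hf hτ hx (fun _ => rfl)
      obtain ⟨d', hd', R, hk, -⟩ := S.exists_rest _ _ L hL hLg (formOf_nd hττ hnd)
      rw [(AdjoinRoot.powerBasis' hf).finrank, AdjoinRoot.powerBasis'_dim] at hd'
      rw [← mult_rest_zero (R := R) (S := S) (fun k => by
        rw [hk, ker_gam_unit (coprime_sq hf1 ht k), zero_add])]
      exact ih d' (by omega) R
    obtain ⟨hl0, hld⟩ := sq_dual hs j
    obtain ⟨τ, hτ, hττ⟩ := exists_tau (lf_monic s j) hl0 hld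
    obtain ⟨x, y, hx, hy, hxy⟩ := S.exists_pair_vec hs hj hlt hstab
    haveI : Module.Finite F (AdjoinRoot (lf s j)) := (lf_monic s j).finite_adjoinRoot
    have hfin : finrank F (AdjoinRoot (lf s j)) = j := by
      rw [(AdjoinRoot.powerBasis' (lf_monic s j)).finrank, AdjoinRoot.powerBasis'_dim, lf, natDegree_pow,
        natDegree_X_sub_C, mul_one]
    have hpow1 : (-1 : F) ^ (j - 1) * ε = 1 ∨ (-1 : F) ^ (j - 1) * ε = -1 := by
      refine mul_self_eq_one_iff.1 ?_
      rw [mul_mul_mul_comm, hε, mul_one, ← mul_pow, neg_mul_neg, one_mul, one_pow]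
    rcases hpow1 with hp1 | hp1
    · obtain ⟨a, b, hab⟩ := S.exists_value h2 hs hj hp1 hx hy hxy
      have hz : S.pol (lf s j) (a • x + b • y) = 0 := by
        rw [map_add, map_smul, map_smul, hx, hy, smul_zero, smul_zero, add_zero]
      have hnd : Nondeg (S.fn (lf_monic s j) (a • x + b • y) (a • x + b • y)) := by
        rw [nondeg_iff hj, S.fn_om hz]; exact hab
      obtain ⟨L, hL, hLg⟩ := S.embeds_form (lf_monic s j) hτ hz (fun _ => rfl)
      obtain ⟨d', hd', R, hk, -⟩ := S.exists_rest _ _ L hL hLg (formOf_nd hττ hnd)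
      have hR := ih d' (by omega) R
      by_cases hst : t = s
      · subst hst
        rw [mult_rest (R := R) (S := S) (c := 1) (fun k => by rw [hk, ker_gam_self, one_mul]) hi] at hR
        have hij : i ≠ j := fun h => by
          subst h
          rw [hpar] at hp1
          exact h2 (by linear_combination -hp1)
        rwa [if_neg hij, sub_zero] at hR
      · rwa [mult_rest_zero (R := R) (S := S) (fun k => by
          rw [hk, ker_gam_unit (f := lf s j) (coprime_pow hst k j), zero_add])] at hR
    · have hnd : Nondeg (S.fn (lf_monic s j) x y) := by rw [nondeg_iff hj, S.fn_om hy]; exact hxy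
      obtain ⟨a, hxx, hxy'⟩ := Sys.isotropic h2 hj hs hτ hττ hε hp1 hx hy hnd
      obtain ⟨x', hx'⟩ : ∃ x', x' = x + S.cyc (lf_monic s j) y a := ⟨_, rfl⟩
      rw [← hx'] at hxx hxy'
      have hx'0 : S.pol (lf s j) x' = 0 := by
        rw [hx', map_add, hx, S.pol_cyc_zero (lf_monic s j) hy, add_zero]
      have hyx : Nondeg (S.fn (lf_monic s j) y x') := by
        rw [nondeg_iff hj, S.fn_om hy] at hxy'
        rw [nondeg_iff hj, S.fn_om hx'0, S.om_swap hs hj hx'0 hy, hp1]
        exact mul_ne_zero (neg_ne_zero.2 one_ne_zero) hxy'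
      obtain ⟨b, hyy, hyx'⟩ := Sys.isotropic h2 hj hs hτ hττ hε hp1 hy hx'0 hyx
      obtain ⟨y', hy'⟩ : ∃ y', y' = y + S.cyc (lf_monic s j) x' b := ⟨_, rfl⟩
      rw [← hy'] at hyy hyx'
      have hy'0 : S.pol (lf s j) y' = 0 := by
        rw [hy', map_add, hy, S.pol_cyc_zero (lf_monic s j) hx'0, add_zero]
      have hxy'' : Nondeg (S.fn (lf_monic s j) x' y') := by
        rw [nondeg_iff hj, S.fn_om hx'0] at hyx'
        rw [nondeg_iff hj, S.fn_om hy'0, S.om_swap hs hj hy'0 hx'0, hp1]
        exact mul_ne_zero (neg_ne_zero.2 one_ne_zero) hyx'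
      obtain ⟨L, hL, hLg⟩ := S.embeds_hyp (lf_monic s j) hτ hx'0 hy'0 hxx hyy hxy''
        (S.fn (lf_monic s j) x' y')
      obtain ⟨d', hd', R, hk, -⟩ := S.exists_rest _ _ L hL hLg (hypOf_nd hε hττ hxy'')
      rw [Module.finrank_prod, hfin] at hd'
      have hR := ih d' (by omega) R
      by_cases hst : t = s
      · subst hst
        rw [mult_rest (R := R) (S := S) (c := 2) (fun k => by
          rw [hk, ker_prodMap, ker_gam_self]) hi] at hR
        split_ifs at hR with hij
        · rw [Int.even_sub] at hR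
          exact hR.2 (by decide)
        · rwa [sub_zero] at hR
      · rwa [mult_rest_zero (R := R) (S := S) (fun k => by
          rw [hk, ker_prodMap, ker_gam_unit (f := lf s j) (coprime_pow hst k j), mul_zero, zero_add])] at hR

/-- Among more similar systems than sign choices, two are isometric. -/
theorem pigeon [Finite F] (h2 : (2 : F) ≠ 0) (hε : ε * ε = 1) (N : ℕ) :
    ∀ d ≤ N, ∀ (ι : Type u) [Fintype ι] (S : ι → Sys F ε d) (i₀ : ι),
      (∀ i, Sim (S i) (S i₀)) → 2 ^ (signed N (S i₀)).card < Fintype.card ι →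
      ∃ a b, a ≠ b ∧ Iso (S a) (S b) := by
  haveI := Fintype.ofFinite F
  classical
  intro d
  induction d using Nat.strong_induction_on with
  | _ d ih =>
    intro hdN ι _ S i₀ hsim hcard
    rcases Nat.eq_zero_or_pos d with hd | hd
    · subst hd
      have h1 : 1 ≤ 2 ^ (signed N (S i₀)).card := Nat.one_le_two_pow
      obtain ⟨a, b, hab⟩ := Fintype.exists_pair_of_one_lt_card (show 1 < Fintype.card ι by omega)
      refine ⟨a, b, hab, LinearEquiv.refl F _, fun x y => ?_, fun x => Subsingleton.elim _ _⟩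
      have hx : x = 0 := Subsingleton.elim _ _
      simp only [hx, map_zero, LinearMap.zero_apply]
    obtain ⟨p, x₀, hp, hm, h0, hx₀, hx0⟩ := exists_primary hd (S i₀)
    obtain ⟨j, hj, hlt, hstab⟩ := (S i₀).exists_top hx₀ hx0
    have hlt' : ∀ i, (S i).kdim (p ^ (j - 1)) < (S i).kdim (p ^ j) := fun i => by
      rw [hsim i, hsim i]; exact hlt
    have hstab' : ∀ i, LinearMap.ker ((S i).pol (p ^ (j + 1))) = LinearMap.ker ((S i).pol (p ^ j)) :=
      fun i => stab_of_eq (by rw [hsim i, hsim i]; exact top_eq hstab)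
    have hjN : j ≤ N := by
      have hgrow : ∀ k, k < j → (S i₀).kdim (p ^ k) < (S i₀).kdim (p ^ (k + 1)) := by
        intro k hk
        refine lt_of_le_of_ne (Submodule.finrank_mono ((S i₀).ker_le (pow_dvd_pow p (Nat.le_succ k))))
          fun he => ?_
        have hstab_k := stab_of_eq he.symm
        have hall : ∀ i, LinearMap.ker ((S i₀).pol (p ^ (k + i))) = LinearMap.ker ((S i₀).pol (p ^ k)) := by
          intro i
          induction i with
          | zero => rfl
          | succ i ih' =>
            refine le_antisymm (fun z hz => ?_) ((S i₀).ker_le (pow_dvd_pow p (by omega)))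
            rw [← hstab_k, LinearMap.mem_ker, pow_succ, pol_mul]
            have h1 : (S i₀).pol p z ∈ LinearMap.ker ((S i₀).pol (p ^ (k + i))) := by
              rw [LinearMap.mem_ker, ← pol_mul, ← pow_succ]
              exact hz
            rwa [ih', LinearMap.mem_ker] at h1
        have e1 := hall (j - k)
        have e2 := hall (j - 1 - k)
        rw [show k + (j - k) = j by omega] at e1
        rw [show k + (j - 1 - k) = j - 1 by omega] at e2
        simp only [kdim] at hlt
        rw [e1, e2] at hlt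
        exact lt_irrefl _ hlt
      have hk : ∀ k, k ≤ j → k ≤ (S i₀).kdim (p ^ k) := by
        intro k hk
        induction k with
        | zero => exact Nat.zero_le _
        | succ k ih' => have := hgrow k (by omega); have := ih' (by omega); omega
      have h := Submodule.finrank_le (LinearMap.ker ((S i₀).pol (p ^ j)))
      rw [Module.finrank_fin_fun] at h
      exact le_trans (hk j le_rfl) (h.trans hdN)
    -- the common descent
    have descend : ∀ {A : Type u} [AddCommGroup A] [Module F A] [Module.Finite F A]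
        (β : BilinForm F A) (γ : Module.End F A), (∀ a, (∀ b, β a b = 0) → a = 0) →
        0 < finrank F A → ∀ (κ : Type u) [Fintype κ] [Nonempty κ] (emb : κ → ι), Function.Injective emb →
        (∀ i, (S (emb i)).Embeds β γ) →
        (∀ (d' : ℕ) (R : Sys F ε d'),
          (∀ P, (S i₀).kdim P = finrank F (LinearMap.ker (aeval γ P)) + R.kdim P) →
            2 ^ (signed N R).card < Fintype.card κ) →
        ∃ a b, a ≠ b ∧ Iso (S a) (S b) := by
      intro A _ _ _ β γ hβ hA κ _ hκ emb hinj hemb hw
      choose L hL hLg using hemb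
      choose d' hd' R hk ψ hψ hψg using fun i => (S (emb i)).exists_rest β γ (L i) (hL i) (hLg i) hβ
      obtain ⟨e, he⟩ : ∃ e, d - finrank F A = e := ⟨_, rfl⟩
      obtain rfl : d' = fun _ => e := funext fun i => by have := hd' i; omega
      obtain ⟨k₀⟩ := hκ
      have hk' : ∀ i P, (S i₀).kdim P = finrank F (LinearMap.ker (aeval γ P)) + (R i).kdim P :=
        fun i P => (hsim (emb i) P).symm.trans (hk i P)
      obtain ⟨a, b, hab, hiso⟩ := ih e (by omega) (by omega) κ R k₀
        (fun i P => by
          have h1 := hk' i P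
          have h3 := hk' k₀ P
          omega) (hw e (R k₀) (hk' k₀))
      exact ⟨emb a, emb b, hinj.ne hab, iso_of_rest (ψ a) (ψ b) (hψ a) (hψg a) (hψ b) (hψg b) hiso⟩
    rcases cases_p hp hm with hco | ⟨s, hs, rfl⟩
    · choose f hf hfe hdeg hf0 hfd hf1 x hx hnd using fun i =>
        (S i).exists_herm hε hp hm h0 hco hj (hlt' i) (hstab' i)
      obtain rfl : f = fun _ => hermPoly p j := funext hfe
      obtain ⟨τ, hτ, hττ⟩ := exists_tau (hf i₀) (hf0 i₀) (hfd i₀)
      haveI : Module.Finite F (AdjoinRoot (hermPoly p j)) := (hf i₀).finite_adjoinRoot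
      haveI : Finite (AdjoinRoot (hermPoly p j)) := Module.finite_of_finite F
      obtain ⟨φ₀, hφ₀⟩ : ∃ φ₀, φ₀ = (S i₀).fn (hf i₀) (x i₀) (x i₀) := ⟨_, rfl⟩
      have hδ : IsUnit (AdjoinRoot.root (hermPoly p j) - τ (AdjoinRoot.root (hermPoly p j))) := by
        obtain ⟨a, b, hab⟩ := hf1 i₀
        have h1 := congrArg (AdjoinRoot.mk (hermPoly p j)) hab
        simp only [map_add, map_mul, AdjoinRoot.mk_self, mul_zero, zero_add, map_sub, map_pow,
          AdjoinRoot.mk_X, map_one] at h1
        refine IsUnit.of_mul_eq_one (AdjoinRoot.mk (hermPoly p j) b * AdjoinRoot.root (hermPoly p j)) ?_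
        linear_combination h1 - (AdjoinRoot.mk (hermPoly p j) b) * hτ
      have hemb : ∀ i, (S i).Embeds (formOf τ φ₀) (gam (hermPoly p j)) := fun i =>
        (S i).embeds_norm (hf i) hτ (hx i) (normalize_herm hττ hδ (hnd i) (hφ₀ ▸ hnd i₀)
          (fun c => (S i).fn_symm (hf i) hτ hε (hx i) c)
          (fun c => hφ₀ ▸ (S i₀).fn_symm (hf i₀) hτ hε (hx i₀) c))
      haveI : Nonempty ι := ⟨i₀⟩
      refine descend _ _ (formOf_nd hττ (hφ₀ ▸ hnd i₀)) (by
        rw [(AdjoinRoot.powerBasis' (hf i₀)).finrank, AdjoinRoot.powerBasis'_dim]; exact hdeg i₀)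
        ι id Function.injective_id hemb fun d' R hk => lt_of_le_of_lt ?_ hcard
      refine Nat.pow_le_pow_right (by norm_num) (Finset.card_le_card fun z hz => ?_)
      simp only [signed, Finset.mem_filter, Finset.mem_product, Finset.mem_insert,
        Finset.mem_singleton] at hz ⊢
      refine ⟨hz.1, hz.2.1, ?_⟩
      have hz2 : z.1 * z.1 = 1 := by rcases hz.1.1 with h | h <;> rw [h] <;> ring
      rw [mult_rest_zero (R := R) (S := S i₀) (fun k => by
        rw [hk, ker_gam_unit (coprime_sq (hf1 i₀) hz2 k), zero_add])] at hz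
      exact hz.2.2
    obtain ⟨hl0, hld⟩ := sq_dual hs j
    obtain ⟨τ, hτ, hττ⟩ := exists_tau (lf_monic s j) hl0 hld
    haveI : Module.Finite F (AdjoinRoot (lf s j)) := (lf_monic s j).finite_adjoinRoot
    have hfin : finrank F (AdjoinRoot (lf s j)) = j := by
      rw [(AdjoinRoot.powerBasis' (lf_monic s j)).finrank, AdjoinRoot.powerBasis'_dim, lf, natDegree_pow,
        natDegree_X_sub_C, mul_one]
    -- the multiplicities after removing `c` copies
    have hmult : ∀ (c : ℕ) (d' : ℕ) (R : Sys F ε d') (γA : F[X] → ℕ),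
        (∀ P, (S i₀).kdim P = γA P + R.kdim P) → (∀ k, γA ((X - C s) ^ k) = c * min k j) →
        (∀ t, t * t = 1 → t ≠ s → ∀ k, γA ((X - C t) ^ k) = 0) →
        ∀ z ∈ signed N R, z ∈ signed N (S i₀) ∧
          (z = (s, j) → (c : ℤ) < mult (S i₀) s j) := by
      intro c d' R γA hk hself hoth z hz
      simp only [signed, Finset.mem_filter, Finset.mem_product, Finset.mem_insert,
        Finset.mem_singleton, Finset.mem_Icc] at hz ⊢
      obtain ⟨⟨hz1, hz3⟩, hz4, hz5⟩ := hz
      have hz2 : z.1 * z.1 = 1 := by rcases hz1 with h | h <;> rw [h] <;> ring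
      by_cases hzs : z.1 = s
      · rw [hzs, mult_rest (R := R) (S := S i₀) (c := c) (fun k => by rw [hk, hself]) (by omega)] at hz5
        refine ⟨⟨⟨hz1, hz3⟩, hz4, ?_⟩, fun he => ?_⟩
        · rw [hzs]
          split_ifs at hz5 <;> omega
        · have h2' : z.2 = j := congrArg Prod.snd he
          rw [if_pos h2', h2'] at hz5
          omega
      · rw [mult_rest_zero (R := R) (S := S i₀) (fun k => by rw [hk, hoth _ hz2 hzs, zero_add])] at hz5
        exact ⟨⟨⟨hz1, hz3⟩, hz4, hz5⟩, fun he => absurd (congrArg Prod.fst he) hzs⟩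
    have hpow1 : (-1 : F) ^ (j - 1) * ε = 1 ∨ (-1 : F) ^ (j - 1) * ε = -1 := by
      refine mul_self_eq_one_iff.1 ?_
      rw [mul_mul_mul_comm, hε, mul_one, ← mul_pow, neg_mul_neg, one_mul, one_pow]
    haveI : Nonempty ι := ⟨i₀⟩
    choose x y hx hy hxy using fun i => (S i).exists_pair_vec hs hj (hlt' i) (hstab' i)
    rcases hpow1 with hp1 | hp1
    · -- a signed block
      by_cases hm2 : (S i₀).kdim ((X - C s) ^ (j - 1)) + 2 ≤ (S i₀).kdim ((X - C s) ^ j)
      · choose e he he1 using fun i => (S i).exists_value_one h2 hs hj hp1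
          (by rw [hsim i, hsim i]; exact hm2) (hstab' i)
        have hnd : ∀ i, Nondeg ((S i).fn (lf_monic s j) (e i) (e i)) := fun i => by
          rw [nondeg_iff hj, (S i).fn_om (he i), he1]; exact one_ne_zero
        refine descend _ _ (formOf_nd hττ (hnd i₀)) (by rw [hfin]; exact hj)
          ι id Function.injective_id (fun i => (S i).embeds_norm (lf_monic s j) hτ (he i)
            (normalize_special h2 hj hττ (hnd i)
              (fun c => (S i).fn_symm _ hτ hε (he i) c) (fun c => (S i₀).fn_symm _ hτ hε (he i₀) c)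
              (by rw [(S i).fn_om (he i), (S i₀).fn_om (he i₀), he1, he1])))
          fun d' R hk => lt_of_le_of_lt ?_ hcard
        exact Nat.pow_le_pow_right (by norm_num) (Finset.card_le_card fun z hz =>
          (hmult 1 d' R _ hk (fun k => by rw [ker_gam_self, one_mul])
            (fun t _ hts k => ker_gam_unit (coprime_pow hts k j)) z hz).1)
      · have hval : ∀ i, ∃ e, (S i).pol (lf s j) e = 0 ∧
            (S i).B e ((S i).pol ((X - C s) ^ (j - 1)) e) ≠ 0 := fun i => by
          obtain ⟨a, b, hab⟩ := (S i).exists_value h2 hs hj hp1 (hx i) (hy i) (hxy i)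
          exact ⟨_, by rw [map_add, map_smul, map_smul, hx i, hy i, smul_zero, smul_zero, add_zero], hab⟩
        choose e he he1 using hval
        obtain ⟨v, hv⟩ : ∃ v : ι → F, v = fun i => (S i).B (e i) ((S i).pol ((X - C s) ^ (j - 1)) (e i)) :=
          ⟨_, rfl⟩
        have hv0 : ∀ i, v i ≠ 0 := fun i => by rw [hv]; exact he1 i
        have hmone : mult (S i₀) s j = 1 := by
          have h3 := top_eq hstab
          simp only [mult]
          omega
        have hsmem : (s, j) ∈ signed N (S i₀) := by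
          simp only [signed, Finset.mem_filter, Finset.mem_product, Finset.mem_insert,
            Finset.mem_singleton, Finset.mem_Icc]
          exact ⟨⟨mul_self_eq_one_iff.1 hs, hj, hjN⟩, hp1, by rw [hmone]; norm_num⟩
        have hhalf : ∀ (d' : ℕ) (R : Sys F ε d'),
            (∀ P, (S i₀).kdim P = finrank F (LinearMap.ker (aeval (gam (lf s j)) P)) + R.kdim P) →
            2 * 2 ^ (signed N R).card ≤ 2 ^ (signed N (S i₀)).card := by
          intro d' R hk
          rw [← pow_succ']
          refine Nat.pow_le_pow_right (by norm_num) (Finset.card_lt_card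
            ⟨fun z hz => (hmult 1 d' R _ hk (fun k => by rw [ker_gam_self, one_mul])
              (fun t _ hts k => ker_gam_unit (coprime_pow hts k j)) z hz).1, fun hsub => ?_⟩)
          have := (hmult 1 d' R _ hk (fun k => by rw [ker_gam_self, one_mul])
              (fun t _ hts k => ker_gam_unit (coprime_pow hts k j)) _ (hsub hsmem)).2 rfl
          rw [hmone] at this
          norm_num at this
        -- the larger of the two square classes
        have key : ∀ (P : ι → Prop) [DecidablePred P], (∀ i k, P i → P k → (IsSquare (v i) ↔ IsSquare (v k))) →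
            2 ^ (signed N (S i₀)).card < 2 * Fintype.card {i // P i} →
            ∃ a b, a ≠ b ∧ Iso (S a) (S b) := by
          intro P _ hP hlarge
          obtain ⟨⟨i₁, hi₁⟩⟩ : Nonempty {i // P i} := by
            by_contra hn
            rw [not_nonempty_iff] at hn
            simp only [Fintype.card_eq_zero, mul_zero, Nat.not_lt_zero] at hlarge
          have hnd₁ : Nondeg ((S i₁).fn (lf_monic s j) (e i₁) (e i₁)) := by
            rw [nondeg_iff hj, (S i₁).fn_om (he i₁)]; exact he1 i₁
          haveI : Nonempty {i // P i} := ⟨⟨i₁, hi₁⟩⟩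
          refine descend _ _ (formOf_nd hττ hnd₁) (by rw [hfin]; exact hj) {i // P i} Subtype.val
            Subtype.val_injective (fun i => ?_) fun d' R hk => by
              have := hhalf d' R hk
              omega
          obtain ⟨c, hc⟩ := square_ratio h2 (hv0 i.1) (hv0 i₁) (hP _ _ i.2 hi₁)
          have hce : (S i.1).pol (lf s j) (c • e i.1) = 0 := by rw [map_smul, he, smul_zero]
          have hcv : (S i.1).B (c • e i.1) ((S i.1).pol ((X - C s) ^ (j - 1)) (c • e i.1)) = v i₁ := by
            rw [← hc, hv]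
            simp only [map_smul, LinearMap.smul_apply, smul_eq_mul]
            ring
          refine (S i.1).embeds_norm (lf_monic s j) hτ hce (normalize_special h2 hj hττ ?_
            (fun c => (S i.1).fn_symm _ hτ hε hce c) (fun c => (S i₁).fn_symm _ hτ hε (he i₁) c) ?_)
          · rw [nondeg_iff hj, (S i.1).fn_om hce, hcv]; exact hv0 i₁
          · rw [(S i.1).fn_om hce, (S i₁).fn_om (he i₁), hcv, hv]
        have hsplit : Fintype.card ι = Fintype.card {i // IsSquare (v i)} +
            Fintype.card {i // ¬ IsSquare (v i)} := by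
          rw [← Fintype.card_sum]
          exact Fintype.card_congr (Equiv.sumCompl fun i => IsSquare (v i)).symm
        by_cases hbig : 2 ^ (signed N (S i₀)).card < 2 * Fintype.card {i // IsSquare (v i)}
        · exact key _ (fun i k hi hk => iff_of_true hi hk) hbig
        · exact key _ (fun i k hi hk => iff_of_false hi hk) (by omega)
    · -- a hyperbolic pair
      have hpair : ∀ i, ∃ a b, (S i).pol (lf s j) a = 0 ∧ (S i).pol (lf s j) b = 0 ∧
          (S i).fn (lf_monic s j) a a = 0 ∧ (S i).fn (lf_monic s j) b b = 0 ∧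
          Nondeg ((S i).fn (lf_monic s j) a b) := by
        intro i
        have hnd : Nondeg ((S i).fn (lf_monic s j) (x i) (y i)) := by
          rw [nondeg_iff hj, (S i).fn_om (hy i)]; exact hxy i
        obtain ⟨a, hxx, hxy'⟩ := Sys.isotropic h2 hj hs hτ hττ hε hp1 (hx i) (hy i) hnd
        obtain ⟨x', hx'⟩ : ∃ x', x' = x i + (S i).cyc (lf_monic s j) (y i) a := ⟨_, rfl⟩
        rw [← hx'] at hxx hxy'
        have hx'0 : (S i).pol (lf s j) x' = 0 := by
          rw [hx', map_add, hx, (S i).pol_cyc_zero (lf_monic s j) (hy i), add_zero]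
        have hyx : Nondeg ((S i).fn (lf_monic s j) (y i) x') := by
          rw [nondeg_iff hj, (S i).fn_om (hy i)] at hxy'
          rw [nondeg_iff hj, (S i).fn_om hx'0, (S i).om_swap hs hj hx'0 (hy i), hp1]
          exact mul_ne_zero (neg_ne_zero.2 one_ne_zero) hxy'
        obtain ⟨b, hyy, hyx'⟩ := Sys.isotropic h2 hj hs hτ hττ hε hp1 (hy i) hx'0 hyx
        obtain ⟨y', hy'⟩ : ∃ y', y' = y i + (S i).cyc (lf_monic s j) x' b := ⟨_, rfl⟩
        rw [← hy'] at hyy hyx'
        have hy'0 : (S i).pol (lf s j) y' = 0 := by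
          rw [hy', map_add, hy, (S i).pol_cyc_zero (lf_monic s j) hx'0, add_zero]
        refine ⟨x', y', hx'0, hy'0, hxx, hyy, ?_⟩
        rw [nondeg_iff hj, (S i).fn_om hx'0] at hyx'
        rw [nondeg_iff hj, (S i).fn_om hy'0, (S i).om_swap hs hj hy'0 hx'0, hp1]
        exact mul_ne_zero (neg_ne_zero.2 one_ne_zero) hyx'
      choose a b ha hb haa hbb hab using hpair
      refine descend _ _ (hypOf_nd hε hττ (hab i₀)) (by rw [Module.finrank_prod, hfin]; omega)
        ι id Function.injective_id (fun i => (S i).embeds_hyp (lf_monic s j) hτ (ha i) (hb i) (haa i)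
          (hbb i) (hab i) _) fun d' R hk => lt_of_le_of_lt ?_ hcard
      exact Nat.pow_le_pow_right (by norm_num) (Finset.card_le_card fun z hz =>
        (hmult 2 d' R _ hk (fun k => by rw [ker_prodMap, ker_gam_self])
          (fun t _ hts k => by rw [ker_prodMap, ker_gam_unit (f := lf s j) (coprime_pow hts k j), mul_zero]) z hz).1)

end Cfsg.Agent.FormCount
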