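import Cfsg.Agent.Lib.Classical.FormCount.Induct
import Cfsg.Agent.Lib.Classical.FormCount.Disc

/-!
Similar systems with a fixed discriminant fall into at most half as many isometry classes as there are
sign choices.
-/

set_option autoImplicit false
set_option linter.style.haveILetI false

namespace Cfsg.Agent.FormCount

open Polynomial Module
open LinearMap (BilinForm)

universe u

variable {F : Type u} [Field F] [Fintype F] {ε : F} {d : ℕ}

open Sys

set_option maxHeartbeats 1600000 in
/-- With the discriminant fixed only half of the sign choices occur. -/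
theorem pigeonD (h2 : (2 : F) ≠ 0) (hε1 : ε = 1) (N : ℕ) :
    ∀ d ≤ N, ∀ (ι : Type u) [Fintype ι] (S : ι → Sys F ε d) (i₀ : ι),
      (∀ i, Sim (S i) (S i₀)) → (∀ i, (S i).dc = (S i₀).dc) → (signed N (S i₀)).Nonempty →
      2 ^ (signed N (S i₀)).card < 2 * Fintype.card ι →
      ∃ a b, a ≠ b ∧ Iso (S a) (S b) := by
  classical
  have hε : ε * ε = 1 := by rw [hε1, mul_one]
  intro d
  induction d using Nat.strong_induction_on with
  | _ d ih =>
    intro hdN ι _ S i₀ hsim hdisc hne hcard
    have htwo : 2 ≤ 2 ^ (signed N (S i₀)).card := Nat.le_self_pow hne.card_pos.ne' 2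
    rcases Nat.eq_zero_or_pos d with hd | hd
    · subst hd
      obtain ⟨a, b, hab⟩ := Fintype.exists_pair_of_one_lt_card (show 1 < Fintype.card ι by omega)
      refine ⟨a, b, hab, LinearEquiv.refl F _, fun x y => ?_, fun x => Subsingleton.elim _ _⟩
      have hx : x = 0 := Subsingleton.elim _ _
      simp only [hx, map_zero, LinearMap.zero_apply]
    obtain ⟨p, x₀, hp, hm, h0, hx₀, hx0⟩ := exists_primary hd (S i₀)
    obtain ⟨j, hj, hlt, hstab⟩ := (S i₀).exists_top hx₀ hx0
    have hlt' : ∀ i, (S i).kdim (p ^ (j - 1)) < (S i).kdim (p ^ j) := fun i => by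
      rw [hsim i, hsim i]; exact hlt
    have hstab' : ∀ i, LinearMap.ker ((S i).pol (p ^ (j + 1))) = LinearMap.ker ((S i).pol (p ^ j)) :=
      fun i => stab_of_eq (by rw [hsim i, hsim i]; exact top_eq hstab)
    have hjN : j ≤ N := by
      have hgrow : ∀ k, k < j → (S i₀).kdim (p ^ k) < (S i₀).kdim (p ^ (k + 1)) := by
        intro k hk
        refine lt_of_le_of_ne (Submodule.finrank_mono ((S i₀).ker_le (pow_dvd_pow p (Nat.le_succ k))))
          fun he => ?_
        have hstab_k := stab_of_eq he.symm
        have hall : ∀ i, LinearMap.ker ((S i₀).pol (p ^ (k + i))) = LinearMap.ker ((S i₀).pol (p ^ k)) := by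
          intro i
          induction i with
          | zero => rfl
          | succ i ih' =>
            refine le_antisymm (fun z hz => ?_) ((S i₀).ker_le (pow_dvd_pow p (by omega)))
            rw [← hstab_k, LinearMap.mem_ker, pow_succ, pol_mul]
            have h1 : (S i₀).pol p z ∈ LinearMap.ker ((S i₀).pol (p ^ (k + i))) := by
              rw [LinearMap.mem_ker, ← pol_mul, ← pow_succ]
              exact hz
            rwa [ih', LinearMap.mem_ker] at h1
        have e1 := hall (j - k)
        have e2 := hall (j - 1 - k)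
        rw [show k + (j - k) = j by omega] at e1
        rw [show k + (j - 1 - k) = j - 1 by omega] at e2
        simp only [kdim] at hlt
        rw [e1, e2] at hlt
        exact lt_irrefl _ hlt
      have hk : ∀ k, k ≤ j → k ≤ (S i₀).kdim (p ^ k) := by
        intro k hk
        induction k with
        | zero => exact Nat.zero_le _
        | succ k ih' => have := hgrow k (by omega); have := ih' (by omega); omega
      have h := Submodule.finrank_le (LinearMap.ker ((S i₀).pol (p ^ j)))
      rw [Module.finrank_fin_fun] at h
      exact le_trans (hk j le_rfl) (h.trans hdN)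
    -- the common descent
    have descend : ∀ {A : Type u} [AddCommGroup A] [Module F A] [Module.Finite F A]
        (β : BilinForm F A) (γ : Module.End F A), (∀ a, (∀ b, β a b = 0) → a = 0) →
        0 < finrank F A → ∀ (κ : Type u) [Fintype κ] [Nonempty κ] (emb : κ → ι), Function.Injective emb →
        (∀ i, (S (emb i)).Embeds β γ) →
        1 < Fintype.card κ →
        (∀ (d' : ℕ) (R : Sys F ε d'),
          (∀ P, (S i₀).kdim P = finrank F (LinearMap.ker (aeval γ P)) + R.kdim P) →
            (signed N R).Nonempty → 2 ^ (signed N R).card < 2 * Fintype.card κ) →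
        ∃ a b, a ≠ b ∧ Iso (S a) (S b) := by
      intro A _ _ _ β γ hβ hA κ _ hκ emb hinj hemb hone hw
      choose L hL hLg using hemb
      choose d' hd' R hk ψ hψ hψg using fun i => (S (emb i)).exists_rest β γ (L i) (hL i) (hLg i) hβ
      obtain ⟨e, he⟩ : ∃ e, d - finrank F A = e := ⟨_, rfl⟩
      obtain rfl : d' = fun _ => e := funext fun i => by have := hd' i; omega
      obtain ⟨k₀⟩ := hκ
      have hk' : ∀ i P, (S i₀).kdim P = finrank F (LinearMap.ker (aeval γ P)) + (R i).kdim P :=
        fun i P => (hsim (emb i) P).symm.trans (hk i P)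
      have hsimR : ∀ i, Sim (R i) (R k₀) := fun i P => by
        have h1 := hk' i P
        have h3 := hk' k₀ P
        omega
      obtain ⟨a, b, hab, hiso⟩ : ∃ a b, a ≠ b ∧ Iso (R a) (R b) := by
        rcases (signed N (R k₀)).eq_empty_or_nonempty with h0 | h0
        · exact pigeon h2 hε N e (by omega) κ R k₀ hsimR (by rw [h0, Finset.card_empty, pow_zero]; exact hone)
        · refine ih e (by omega) (by omega) κ R k₀ hsimR (fun i => ?_) h0 (hw e (R k₀) (hk' k₀) h0)
          have e1 := (dc_split (ψ i) (hψ i)).symm.trans ((hdisc (emb i)).trans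
            ((hdisc (emb k₀)).symm.trans (dc_split (ψ k₀) (hψ k₀))))
          refine mul_left_cancel₀ (fun hz => ?_) e1
          have e2 := dc_sq (S (emb i))
          rw [dc_split (ψ i) (hψ i), hz, zero_mul, zero_mul] at e2
          exact zero_ne_one e2
      exact ⟨emb a, emb b, hinj.ne hab, iso_of_rest (ψ a) (ψ b) (hψ a) (hψg a) (hψ b) (hψg b) hiso⟩
    rcases cases_p hp hm with hco | ⟨s, hs, rfl⟩
    · choose f hf hfe hdeg hf0 hfd hf1 x hx hnd using fun i =>
        (S i).exists_herm hε hp hm h0 hco hj (hlt' i) (hstab' i)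
      obtain rfl : f = fun _ => hermPoly p j := funext hfe
      obtain ⟨τ, hτ, hττ⟩ := exists_tau (hf i₀) (hf0 i₀) (hfd i₀)
      haveI : Module.Finite F (AdjoinRoot (hermPoly p j)) := (hf i₀).finite_adjoinRoot
      haveI : Finite (AdjoinRoot (hermPoly p j)) := Module.finite_of_finite F
      obtain ⟨φ₀, hφ₀⟩ : ∃ φ₀, φ₀ = (S i₀).fn (hf i₀) (x i₀) (x i₀) := ⟨_, rfl⟩
      have hδ : IsUnit (AdjoinRoot.root (hermPoly p j) - τ (AdjoinRoot.root (hermPoly p j))) := by
        obtain ⟨a, b, hab⟩ := hf1 i₀
        have h1 := congrArg (AdjoinRoot.mk (hermPoly p j)) hab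
        simp only [map_add, map_mul, AdjoinRoot.mk_self, mul_zero, zero_add, map_sub, map_pow,
          AdjoinRoot.mk_X, map_one] at h1
        refine IsUnit.of_mul_eq_one (AdjoinRoot.mk (hermPoly p j) b * AdjoinRoot.root (hermPoly p j)) ?_
        linear_combination h1 - (AdjoinRoot.mk (hermPoly p j) b) * hτ
      have hemb : ∀ i, (S i).Embeds (formOf τ φ₀) (gam (hermPoly p j)) := fun i =>
        (S i).embeds_norm (hf i) hτ (hx i) (normalize_herm hττ hδ (hnd i) (hφ₀ ▸ hnd i₀)
          (fun c => (S i).fn_symm (hf i) hτ hε (hx i) c)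
          (fun c => hφ₀ ▸ (S i₀).fn_symm (hf i₀) hτ hε (hx i₀) c))
      haveI : Nonempty ι := ⟨i₀⟩
      refine descend _ _ (formOf_nd hττ (hφ₀ ▸ hnd i₀)) (by
        rw [(AdjoinRoot.powerBasis' (hf i₀)).finrank, AdjoinRoot.powerBasis'_dim]; exact hdeg i₀)
        ι id Function.injective_id hemb (by omega) fun d' R hk _ => lt_of_le_of_lt ?_ hcard
      refine Nat.pow_le_pow_right (by norm_num) (Finset.card_le_card fun z hz => ?_)
      simp only [signed, Finset.mem_filter, Finset.mem_product, Finset.mem_insert,
        Finset.mem_singleton] at hz ⊢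
      refine ⟨hz.1, hz.2.1, ?_⟩
      have hz2 : z.1 * z.1 = 1 := by rcases hz.1.1 with h | h <;> rw [h] <;> ring
      rw [mult_rest_zero (R := R) (S := S i₀) (fun k => by
        rw [hk, ker_gam_unit (coprime_sq (hf1 i₀) hz2 k), zero_add])] at hz
      exact hz.2.2
    obtain ⟨hl0, hld⟩ := sq_dual hs j
    obtain ⟨τ, hτ, hττ⟩ := exists_tau (lf_monic s j) hl0 hld
    haveI : Module.Finite F (AdjoinRoot (lf s j)) := (lf_monic s j).finite_adjoinRoot
    have hfin : finrank F (AdjoinRoot (lf s j)) = j := by
      rw [(AdjoinRoot.powerBasis' (lf_monic s j)).finrank, AdjoinRoot.powerBasis'_dim, lf, natDegree_pow,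
        natDegree_X_sub_C, mul_one]
    -- the multiplicities after removing `c` copies
    have hmult : ∀ (c : ℕ) (d' : ℕ) (R : Sys F ε d') (γA : F[X] → ℕ),
        (∀ P, (S i₀).kdim P = γA P + R.kdim P) → (∀ k, γA ((X - C s) ^ k) = c * min k j) →
        (∀ t, t * t = 1 → t ≠ s → ∀ k, γA ((X - C t) ^ k) = 0) →
        ∀ z ∈ signed N R, z ∈ signed N (S i₀) ∧
          (z = (s, j) → (c : ℤ) < mult (S i₀) s j) := by
      intro c d' R γA hk hself hoth z hz
      simp only [signed, Finset.mem_filter, Finset.mem_product, Finset.mem_insert,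
        Finset.mem_singleton, Finset.mem_Icc] at hz ⊢
      obtain ⟨⟨hz1, hz3⟩, hz4, hz5⟩ := hz
      have hz2 : z.1 * z.1 = 1 := by rcases hz1 with h | h <;> rw [h] <;> ring
      by_cases hzs : z.1 = s
      · rw [hzs, mult_rest (R := R) (S := S i₀) (c := c) (fun k => by rw [hk, hself]) (by omega)] at hz5
        refine ⟨⟨⟨hz1, hz3⟩, hz4, ?_⟩, fun he => ?_⟩
        · rw [hzs]
          split_ifs at hz5 <;> omega
        · have h2' : z.2 = j := congrArg Prod.snd he
          rw [if_pos h2', h2'] at hz5
          omega
      · rw [mult_rest_zero (R := R) (S := S i₀) (fun k => by rw [hk, hoth _ hz2 hzs, zero_add])] at hz5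
        exact ⟨⟨⟨hz1, hz3⟩, hz4, hz5⟩, fun he => absurd (congrArg Prod.fst he) hzs⟩
    have hpow1 : (-1 : F) ^ (j - 1) * ε = 1 ∨ (-1 : F) ^ (j - 1) * ε = -1 := by
      refine mul_self_eq_one_iff.1 ?_
      rw [mul_mul_mul_comm, hε, mul_one, ← mul_pow, neg_mul_neg, one_mul, one_pow]
    haveI : Nonempty ι := ⟨i₀⟩
    choose x y hx hy hxy using fun i => (S i).exists_pair_vec hs hj (hlt' i) (hstab' i)
    rcases hpow1 with hp1 | hp1
    · -- a signed block
      by_cases hm2 : (S i₀).kdim ((X - C s) ^ (j - 1)) + 2 ≤ (S i₀).kdim ((X - C s) ^ j)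
      · choose e he he1 using fun i => (S i).exists_value_one h2 hs hj hp1
          (by rw [hsim i, hsim i]; exact hm2) (hstab' i)
        have hnd : ∀ i, Nondeg ((S i).fn (lf_monic s j) (e i) (e i)) := fun i => by
          rw [nondeg_iff hj, (S i).fn_om (he i), he1]; exact one_ne_zero
        refine descend _ _ (formOf_nd hττ (hnd i₀)) (by rw [hfin]; exact hj)
          ι id Function.injective_id (fun i => (S i).embeds_norm (lf_monic s j) hτ (he i)
            (normalize_special h2 hj hττ (hnd i)
              (fun c => (S i).fn_symm _ hτ hε (he i) c) (fun c => (S i₀).fn_symm _ hτ hε (he i₀) c)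
              (by rw [(S i).fn_om (he i), (S i₀).fn_om (he i₀), he1, he1]))) (by omega)
          fun d' R hk _ => lt_of_le_of_lt ?_ hcard
        exact Nat.pow_le_pow_right (by norm_num) (Finset.card_le_card fun z hz =>
          (hmult 1 d' R _ hk (fun k => by rw [ker_gam_self, one_mul])
            (fun t _ hts k => ker_gam_unit (coprime_pow hts k j)) z hz).1)
      · have hval : ∀ i, ∃ e, (S i).pol (lf s j) e = 0 ∧
            (S i).B e ((S i).pol ((X - C s) ^ (j - 1)) e) ≠ 0 := fun i => by
          obtain ⟨a, b, hab⟩ := (S i).exists_value h2 hs hj hp1 (hx i) (hy i) (hxy i)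
          exact ⟨_, by rw [map_add, map_smul, map_smul, hx i, hy i, smul_zero, smul_zero, add_zero], hab⟩
        choose e he he1 using hval
        obtain ⟨v, hv⟩ : ∃ v : ι → F, v = fun i => (S i).B (e i) ((S i).pol ((X - C s) ^ (j - 1)) (e i)) :=
          ⟨_, rfl⟩
        have hv0 : ∀ i, v i ≠ 0 := fun i => by rw [hv]; exact he1 i
        have hmone : mult (S i₀) s j = 1 := by
          have h3 := top_eq hstab
          simp only [mult]
          omega
        have hsmem : (s, j) ∈ signed N (S i₀) := by
          simp only [signed, Finset.mem_filter, Finset.mem_product, Finset.mem_insert,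
            Finset.mem_singleton, Finset.mem_Icc]
          exact ⟨⟨mul_self_eq_one_iff.1 hs, hj, hjN⟩, hp1, by rw [hmone]; norm_num⟩
        have hhalf : ∀ (d' : ℕ) (R : Sys F ε d'),
            (∀ P, (S i₀).kdim P = finrank F (LinearMap.ker (aeval (gam (lf s j)) P)) + R.kdim P) →
            2 * 2 ^ (signed N R).card ≤ 2 ^ (signed N (S i₀)).card := by
          intro d' R hk
          rw [← pow_succ']
          refine Nat.pow_le_pow_right (by norm_num) (Finset.card_lt_card
            ⟨fun z hz => (hmult 1 d' R _ hk (fun k => by rw [ker_gam_self, one_mul])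
              (fun t _ hts k => ker_gam_unit (coprime_pow hts k j)) z hz).1, fun hsub => ?_⟩)
          have := (hmult 1 d' R _ hk (fun k => by rw [ker_gam_self, one_mul])
              (fun t _ hts k => ker_gam_unit (coprime_pow hts k j)) _ (hsub hsmem)).2 rfl
          rw [hmone] at this
          norm_num at this
        -- the larger of the two square classes
        have key : ∀ (P : ι → Prop) [DecidablePred P], (∀ i k, P i → P k → (IsSquare (v i) ↔ IsSquare (v k))) →
            1 < Fintype.card {i // P i} →
            ((signed N (S i₀)).card = 1 ∨ 2 ^ (signed N (S i₀)).card < 4 * Fintype.card {i // P i}) →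
            ∃ a b, a ≠ b ∧ Iso (S a) (S b) := by
          intro P _ hP hone hlarge
          obtain ⟨⟨i₁, hi₁⟩⟩ : Nonempty {i // P i} := by
            by_contra hn
            rw [not_nonempty_iff] at hn
            simp only [Fintype.card_eq_zero, Nat.not_lt_zero] at hone
          have hnd₁ : Nondeg ((S i₁).fn (lf_monic s j) (e i₁) (e i₁)) := by
            rw [nondeg_iff hj, (S i₁).fn_om (he i₁)]; exact he1 i₁
          haveI : Nonempty {i // P i} := ⟨⟨i₁, hi₁⟩⟩
          refine descend _ _ (formOf_nd hττ hnd₁) (by rw [hfin]; exact hj) {i // P i} Subtype.val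
            Subtype.val_injective (fun i => ?_) hone fun d' R hk hR => by
              have := hhalf d' R hk
              have hR2 : 2 ≤ 2 ^ (signed N R).card := Nat.le_self_pow hR.card_pos.ne' 2
              rcases hlarge with h | h
              · rw [h] at this
                omega
              · omega
          obtain ⟨c, hc⟩ := square_ratio h2 (hv0 i.1) (hv0 i₁) (hP _ _ i.2 hi₁)
          have hce : (S i.1).pol (lf s j) (c • e i.1) = 0 := by rw [map_smul, he, smul_zero]
          have hcv : (S i.1).B (c • e i.1) ((S i.1).pol ((X - C s) ^ (j - 1)) (c • e i.1)) = v i₁ := by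
            rw [← hc, hv]
            simp only [map_smul, LinearMap.smul_apply, smul_eq_mul]
            ring
          refine (S i.1).embeds_norm (lf_monic s j) hτ hce (normalize_special h2 hj hττ ?_
            (fun c => (S i.1).fn_symm _ hτ hε hce c) (fun c => (S i₁).fn_symm _ hτ hε (he i₁) c) ?_)
          · rw [nondeg_iff hj, (S i.1).fn_om hce, hcv]; exact hv0 i₁
          · rw [(S i.1).fn_om hce, (S i₁).fn_om (he i₁), hcv, hv]
        rcases eq_or_ne (signed N (S i₀)).card 1 with hone' | hone'
        · -- a single sign, fixed by the discriminant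
          rw [hone'] at hcard
          refine key (fun _ => True) (fun i k _ _ => ?_)
            (by rw [Fintype.card_congr (Equiv.subtypeUnivEquiv fun _ => trivial)]; omega) (Or.inl hone')
          have hndi : Nondeg ((S i).fn (lf_monic s j) (e i) (e i)) := by
            rw [nondeg_iff hj, (S i).fn_om (he i)]; exact he1 i
          obtain ⟨c, hc⟩ : ∃ c, c = v k / v i := ⟨_, rfl⟩
          have hc0 : c ≠ 0 := hc ▸ div_ne_zero (hv0 k) (hv0 i)
          obtain ⟨L₁, hL₁, hLg₁⟩ := (S i).embeds_form (lf_monic s j) hτ (he i) (fun _ => rfl)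
          have hndk : Nondeg ((S k).fn (lf_monic s j) (e k) (e k)) := by
            rw [nondeg_iff hj, (S k).fn_om (he k)]; exact he1 k
          obtain ⟨L₂, hL₂, hLg₂⟩ := (S k).embeds_norm (φ := c • (S i).fn (lf_monic s j) (e i) (e i))
            (lf_monic s j) hτ (he k) (normalize_special h2 hj hττ hndk
              (fun a => (S k).fn_symm _ hτ hε (he k) a)
              (fun a => by
                simp only [LinearMap.smul_apply, smul_eq_mul, (S i).fn_symm _ hτ hε (he i) a]
                ring)
              (by
                rw [LinearMap.smul_apply, (S i).fn_om (he i), (S k).fn_om (he k), smul_eq_mul]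
                have e3 : c * v i = v k := by rw [hc, div_mul_cancel₀ _ (hv0 i)]
                rw [hv] at e3
                exact e3.symm))
          obtain ⟨d₁, hd₁, R₁, hk₁, ψ₁, hψ₁, -⟩ :=
            (S i).exists_rest _ _ L₁ hL₁ hLg₁ (formOf_nd hττ hndi)
          obtain ⟨d₂, hd₂, R₂, hk₂, ψ₂, hψ₂, -⟩ := (S k).exists_rest _ _ L₂ hL₂ hLg₂
            (formOf_nd hττ (by
              rw [nondeg_iff hj, LinearMap.smul_apply, (S i).fn_om (he i), smul_eq_mul]
              exact mul_ne_zero hc0 (he1 i)))
          obtain rfl : d₁ = d₂ := by omega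
          have hsimR : Sim R₁ R₂ := fun P => by
            have a1 := hk₁ P
            have a2 := hk₂ P
            rw [hsim i] at a1
            rw [hsim k] at a2
            omega
          have hR0 : (signed N R₁).card = 0 := by
            have := hhalf d₁ R₁ fun P => (hsim i P).symm.trans (hk₁ P)
            rw [hone'] at this
            by_contra h
            have := Nat.le_self_pow h 2
            omega
          obtain ⟨a, b, hab, hiso⟩ := pigeon h2 hε N d₁ (by omega) (ULift.{u} (Fin 2))
            (fun z => if z.down = 0 then R₁ else R₂) ⟨0⟩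
            (fun z P => by
              by_cases hz : z.down = 0
              · simp only [if_pos hz, if_true]
              · simp only [if_neg hz, if_true]
                exact (hsimR P).symm)
            (by rw [Fintype.card_ulift, Fintype.card_fin, if_pos rfl, hR0]; norm_num)
          have hdc : R₁.dc = R₂.dc := by
            obtain ⟨a⟩ := a
            obtain ⟨b⟩ := b
            fin_cases a <;> fin_cases b <;> simp at hab hiso ⊢
            · exact dc_iso hiso
            · exact (dc_iso hiso).symm
          have e1 := (hdisc i).trans (hdisc k).symm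
          rw [dc_split ψ₁ hψ₁, dc_split ψ₂ hψ₂, show formOf τ (c • (S i).fn (lf_monic s j) (e i) (e i)) =
            c • formOf τ ((S i).fn (lf_monic s j) (e i) (e i)) from LinearMap.ext₂ fun _ _ => rfl,
            dchar_smul, hfin, hdc] at e1
          have hnz : dchar (formOf τ ((S i).fn (lf_monic s j) (e i) (e i))) * R₂.dc ≠ 0 := fun hz => by
            have e2 := dc_sq (S i)
            rw [dc_split ψ₁ hψ₁, hdc, hz, zero_mul] at e2
            exact zero_ne_one e2
          have hχ : quadraticChar F c ^ j = 1 := by
            rw [mul_assoc] at e1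
            exact (mul_eq_right₀ hnz).1 e1.symm
          have hodd : Odd j := by
            rw [hε1, mul_one] at hp1
            rcases Nat.even_or_odd (j - 1) with h | h
            · exact ⟨(j - 1) / 2, by obtain ⟨w, hw⟩ := h; omega⟩
            · rw [h.neg_one_pow] at hp1
              exact absurd (by linear_combination -hp1 : (2 : F) = 0) h2
          have hsq : IsSquare c := by
            rw [← quadraticChar_one_iff_isSquare hc0]
            rcases quadraticChar_dichotomy hc0 with h | h
            · exact h
            · rw [h, hodd.neg_one_pow] at hχ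
              norm_num at hχ
          obtain ⟨r, hr⟩ := hsq
          have hr0 : r ≠ 0 := fun h => hc0 (by rw [hr, h, mul_zero])
          have hvk : v k = r * r * v i := by rw [← hr, hc, div_mul_cancel₀ _ (hv0 i)]
          rw [hvk]
          exact ⟨fun h => (IsSquare.mul_self r).mul h, fun ⟨w, hw⟩ => ⟨w / r, by field_simp; linear_combination hw⟩⟩
        have hfour : 4 ≤ 2 ^ (signed N (S i₀)).card :=
          le_trans (by norm_num) (Nat.pow_le_pow_right two_pos
            (show 2 ≤ (signed N (S i₀)).card by have := hne.card_pos; omega))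
        have hsplit : Fintype.card ι = Fintype.card {i // IsSquare (v i)} +
            Fintype.card {i // ¬ IsSquare (v i)} := by
          rw [← Fintype.card_sum]
          exact Fintype.card_congr (Equiv.sumCompl fun i => IsSquare (v i)).symm
        by_cases hbig : 2 ^ (signed N (S i₀)).card < 4 * Fintype.card {i // IsSquare (v i)}
        · exact key _ (fun i k hi hk => iff_of_true hi hk) (by omega) (Or.inr hbig)
        · exact key _ (fun i k hi hk => iff_of_false hi hk) (by omega) (Or.inr (by omega))
    · -- a hyperbolic pair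
      have hpair : ∀ i, ∃ a b, (S i).pol (lf s j) a = 0 ∧ (S i).pol (lf s j) b = 0 ∧
          (S i).fn (lf_monic s j) a a = 0 ∧ (S i).fn (lf_monic s j) b b = 0 ∧
          Nondeg ((S i).fn (lf_monic s j) a b) := by
        intro i
        have hnd : Nondeg ((S i).fn (lf_monic s j) (x i) (y i)) := by
          rw [nondeg_iff hj, (S i).fn_om (hy i)]; exact hxy i
        obtain ⟨a, hxx, hxy'⟩ := Sys.isotropic h2 hj hs hτ hττ hε hp1 (hx i) (hy i) hnd
        obtain ⟨x', hx'⟩ : ∃ x', x' = x i + (S i).cyc (lf_monic s j) (y i) a := ⟨_, rfl⟩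
        rw [← hx'] at hxx hxy'
        have hx'0 : (S i).pol (lf s j) x' = 0 := by
          rw [hx', map_add, hx, (S i).pol_cyc_zero (lf_monic s j) (hy i), add_zero]
        have hyx : Nondeg ((S i).fn (lf_monic s j) (y i) x') := by
          rw [nondeg_iff hj, (S i).fn_om (hy i)] at hxy'
          rw [nondeg_iff hj, (S i).fn_om hx'0, (S i).om_swap hs hj hx'0 (hy i), hp1]
          exact mul_ne_zero (neg_ne_zero.2 one_ne_zero) hxy'
        obtain ⟨b, hyy, hyx'⟩ := Sys.isotropic h2 hj hs hτ hττ hε hp1 (hy i) hx'0 hyx
        obtain ⟨y', hy'⟩ : ∃ y', y' = y i + (S i).cyc (lf_monic s j) x' b := ⟨_, rfl⟩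
        rw [← hy'] at hyy hyx'
        have hy'0 : (S i).pol (lf s j) y' = 0 := by
          rw [hy', map_add, hy, (S i).pol_cyc_zero (lf_monic s j) hx'0, add_zero]
        refine ⟨x', y', hx'0, hy'0, hxx, hyy, ?_⟩
        rw [nondeg_iff hj, (S i).fn_om hx'0] at hyx'
        rw [nondeg_iff hj, (S i).fn_om hy'0, (S i).om_swap hs hj hy'0 hx'0, hp1]
        exact mul_ne_zero (neg_ne_zero.2 one_ne_zero) hyx'
      choose a b ha hb haa hbb hab using hpair
      refine descend _ _ (hypOf_nd hε hττ (hab i₀)) (by rw [Module.finrank_prod, hfin]; omega)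
        ι id Function.injective_id (fun i => (S i).embeds_hyp (lf_monic s j) hτ (ha i) (hb i) (haa i)
          (hbb i) (hab i) _) (by omega) fun d' R hk _ => lt_of_le_of_lt ?_ hcard
      exact Nat.pow_le_pow_right (by norm_num) (Finset.card_le_card fun z hz =>
        (hmult 2 d' R _ hk (fun k => by rw [ker_prodMap, ker_gam_self])
          (fun t _ hts k => by rw [ker_prodMap, ker_gam_unit (f := lf s j) (coprime_pow hts k j), mul_zero]) z hz).1)

end Cfsg.Agent.FormCount
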