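import Cfsg.Agent.Lib.Classical.FormCount.Cyc

/-!
The local algebra `F[X] / (X - s) ^ j` for `s = ±1`.
-/

set_option autoImplicit false
set_option linter.style.haveILetI false

namespace Cfsg.Agent.FormCount

open Polynomial Module

universe u

variable {F : Type u} [Field F] (s : F) (j : ℕ)

/-- The polynomial `(X - s) ^ j`. -/
noncomputable def lf : F[X] := (X - C s) ^ j

theorem lf_monic : (lf s j).Monic := (monic_X_sub_C s).pow j

/-- The nilpotent generator. -/
noncomputable def nil' : AdjoinRoot (lf s j) := AdjoinRoot.mk _ (X - C s)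

theorem nil_pow : nil' s j ^ j = 0 := by rw [nil', ← map_pow, ← lf, AdjoinRoot.mk_self]

/-- The top element. -/
noncomputable def om : AdjoinRoot (lf s j) := AdjoinRoot.mk _ ((X - C s) ^ (j - 1))

/-- The residue map. -/
noncomputable def res (hj : 0 < j) : AdjoinRoot (lf s j) →ₐ[F] F :=
  AdjoinRoot.liftAlgHom (lf s j) (Algebra.ofId F F) s (by
    show aeval s (lf s j) = 0
    rw [lf, map_pow, map_sub, aeval_X, aeval_C]
    simp [hj.ne'])

variable {s j}

theorem res_mk (hj : 0 < j) (a : F[X]) : res s j hj (AdjoinRoot.mk _ a) = a.eval s := by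
  rw [res, ← AdjoinRoot.aeval_eq, ← aeval_algHom_apply, AdjoinRoot.liftAlgHom_root]
  simp

theorem res_nil (hj : 0 < j) : res s j hj (nil' s j) = 0 := by rw [nil', res_mk]; simp

theorem decomp (hj : 0 < j) (a : AdjoinRoot (lf s j)) :
    ∃ b, a = algebraMap F _ (res s j hj a) + nil' s j * b := by
  obtain ⟨a, rfl⟩ := AdjoinRoot.mk_surjective (g := lf s j) a
  obtain ⟨b, hb⟩ := X_sub_C_dvd_sub_C_eval (p := a) (a := s)
  refine ⟨AdjoinRoot.mk _ b, ?_⟩
  rw [res_mk, nil', ← map_mul, ← hb, AdjoinRoot.algebraMap_eq, ← AdjoinRoot.mk_C, ← map_add,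
    add_sub_cancel]

theorem isUnit_iff_res (hj : 0 < j) {a : AdjoinRoot (lf s j)} :
    IsUnit a ↔ res s j hj a ≠ 0 := by
  refine ⟨fun h => (h.map (res s j hj)).ne_zero, fun h => ?_⟩
  obtain ⟨b, hb⟩ := decomp hj a
  rw [hb]
  exact IsNilpotent.isUnit_add_left_of_commute ⟨j, by rw [mul_pow, nil_pow, zero_mul]⟩
    ((IsUnit.mk0 _ h).map (algebraMap F (AdjoinRoot (lf s j)))) (Commute.all _ _)

theorem mul_om (hj : 0 < j) (a : AdjoinRoot (lf s j)) : a * om s j = res s j hj a • om s j := by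
  obtain ⟨b, hb⟩ := decomp hj a
  have h : nil' s j * om s j = 0 := by
    rw [nil', om, ← map_mul, ← pow_succ', Nat.sub_add_cancel hj, ← lf, AdjoinRoot.mk_self]
  conv_lhs => rw [hb, add_mul, mul_right_comm, h, zero_mul, add_zero, ← Algebra.smul_def]

theorem nondeg_iff (hj : 0 < j) {φ : AdjoinRoot (lf s j) →ₗ[F] F} :
    Nondeg φ ↔ φ (om s j) ≠ 0 := by
  constructor
  · intro h h0
    have h1 : om s j = 0 := h _ fun c => by rw [mul_comm, mul_om hj, map_smul, h0, smul_zero]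
    rw [om, AdjoinRoot.mk_eq_zero, lf] at h1
    have := natDegree_le_of_dvd h1 (pow_ne_zero _ (X_sub_C_ne_zero s))
    rw [natDegree_pow, natDegree_pow, natDegree_X_sub_C] at this
    omega
  · intro h a ha
    obtain ⟨a, rfl⟩ := AdjoinRoot.mk_surjective (g := lf s j) a
    by_contra hne
    rw [AdjoinRoot.mk_eq_zero] at hne
    have ha0 : a ≠ 0 := fun h => hne (h ▸ dvd_zero _)
    obtain ⟨k, r, hr, hk⟩ : ∃ k r, a = (X - C s) ^ k * r ∧ r.eval s ≠ 0 := by
      obtain ⟨r, hr, hr'⟩ := exists_eq_pow_rootMultiplicity_mul_and_not_dvd a ha0 s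
      exact ⟨_, r, hr, fun h => hr' (dvd_iff_isRoot.2 h)⟩
    have hkj : k < j := by
      by_contra hle
      exact hne (hr ▸ (pow_dvd_pow _ (not_lt.1 hle)).mul_right r)
    have h2 := ha (AdjoinRoot.mk _ ((X - C s) ^ (j - 1 - k)))
    rw [hr, ← map_mul, show (X - C s) ^ k * r * (X - C s) ^ (j - 1 - k) = r * (X - C s) ^ (j - 1) by
      rw [mul_comm ((X - C s) ^ k) r, mul_assoc, ← pow_add, show k + (j - 1 - k) = j - 1 by omega],
      map_mul, ← om, mul_om hj, map_smul, res_mk, smul_eq_mul] at h2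
    exact h ((mul_eq_zero.1 h2).resolve_left hk)

variable {τ : AdjoinRoot (lf s j) →ₐ[F] AdjoinRoot (lf s j)}

theorem res_tau (hj : 0 < j) (hs : s * s = 1)
    (hτ : τ (AdjoinRoot.root (lf s j)) * AdjoinRoot.root (lf s j) = 1)
    (a : AdjoinRoot (lf s j)) : res s j hj (τ a) = res s j hj a := by
  have h : (res s j hj).comp τ = res s j hj := by
    refine AdjoinRoot.algHom_ext ?_
    rw [AlgHom.comp_apply]
    have h1 := congrArg (res s j hj) hτ
    have h2 : res s j hj (AdjoinRoot.root (lf s j)) = s := by rw [← AdjoinRoot.mk_X, res_mk]; simp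
    rw [map_mul, map_one, h2] at h1
    rw [h2]
    linear_combination (-res s j hj (τ (AdjoinRoot.root (lf s j)))) * hs + s * h1
  exact AlgHom.congr_fun h a

theorem tau_om (hj : 0 < j) (hs : s * s = 1)
    (hτ : τ (AdjoinRoot.root (lf s j)) * AdjoinRoot.root (lf s j) = 1) :
    τ (om s j) = (-1 : F) ^ (j - 1) • om s j := by
  have hcs : algebraMap F (AdjoinRoot (lf s j)) s * algebraMap F _ s = 1 := by
    rw [← map_mul, hs, map_one]
  have hnil : nil' s j = AdjoinRoot.root (lf s j) - algebraMap F _ s := by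
    rw [nil', map_sub, AdjoinRoot.mk_X, AdjoinRoot.mk_C]; rfl
  obtain ⟨m, hm⟩ : ∃ m, m = -(algebraMap F (AdjoinRoot (lf s j)) s) * τ (AdjoinRoot.root (lf s j)) :=
    ⟨_, rfl⟩
  have h1 : τ (nil' s j) = m * nil' s j := by
    rw [hm, hnil, map_sub τ, AlgHom.commutes]
    linear_combination (algebraMap F (AdjoinRoot (lf s j)) s) * hτ +
      (-τ (AdjoinRoot.root (lf s j))) * hcs
  have hres : res s j hj m = -1 := by
    have h2 : res s j hj (AdjoinRoot.root (lf s j)) = s := by rw [← AdjoinRoot.mk_X, res_mk]; simp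
    have h3 : res s j hj (τ (AdjoinRoot.root (lf s j))) = s := (res_tau hj hs hτ _).trans h2
    rw [hm, map_mul, map_neg, AlgHom.commutes, h3, Algebra.algebraMap_self, RingHom.id_apply,
      neg_mul, hs]
  have hom : om s j = nil' s j ^ (j - 1) := by rw [om, nil', map_pow]
  conv_lhs => rw [hom, map_pow, h1, mul_pow, ← hom, mul_om hj, map_pow, hres]

variable [Finite F]

theorem exists_sqrt (h2 : (2 : F) ≠ 0) (hj : 0 < j) {u : AdjoinRoot (lf s j)}
    (hu : res s j hj u = 1) : ∃ k : ℕ, u ^ k * u ^ k = u := by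
  haveI := Fintype.ofFinite F
  obtain ⟨p, hp⟩ := CharP.exists F
  haveI : Fact p.Prime := ⟨CharP.char_is_prime F p⟩
  haveI : Nontrivial (AdjoinRoot (lf s j)) := (res s j hj).toRingHom.domain_nontrivial
  haveI : CharP (AdjoinRoot (lf s j)) p :=
    charP_of_injective_algebraMap (algebraMap F (AdjoinRoot (lf s j))).injective p
  haveI : ExpChar (AdjoinRoot (lf s j)) p := ExpChar.prime Fact.out
  have hp2 : p ≠ 2 := fun h => h2 (by subst h; exact_mod_cast CharP.cast_eq_zero F 2)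
  obtain ⟨k, hk⟩ : Odd (p ^ j) := ((Fact.out : p.Prime).odd_of_ne_two hp2).pow
  obtain ⟨b, hb⟩ := decomp hj u
  rw [hu, map_one] at hb
  have h1 : u ^ (p ^ j) = 1 := by
    rw [hb, add_pow_expChar_pow, one_pow, mul_pow, pow_eq_zero_of_le
      (Nat.lt_pow_self (Fact.out : p.Prime).one_lt).le (nil_pow s j), zero_mul, add_zero]
  refine ⟨k + 1, ?_⟩
  rw [← pow_add, show k + 1 + (k + 1) = p ^ j + 1 by omega, pow_succ, h1, one_mul]

theorem normalize_special (h2 : (2 : F) ≠ 0) (hj : 0 < j) (hττ : ∀ x, τ (τ x) = x) {ε : F}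
    {φ ψ : AdjoinRoot (lf s j) →ₗ[F] F} (hφ : Nondeg φ) (hφs : ∀ c, φ (τ c) = ε * φ c)
    (hψs : ∀ c, ψ (τ c) = ε * ψ c) (hv : φ (om s j) = ψ (om s j)) :
    ∃ y, IsUnit y ∧ ∀ c, ψ c = φ (τ y * y * c) := by
  haveI : Module.Finite F (AdjoinRoot (lf s j)) := (lf_monic s j).finite_adjoinRoot
  obtain ⟨u, hu⟩ := exists_mul hφ ψ
  have hfix := mult_fixed hττ hφ hφs hψs hu
  have hres : res s j hj u = 1 := by
    have h := hu (om s j)
    rw [mul_om hj, map_smul, smul_eq_mul, ← hv] at h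
    exact (mul_eq_right₀ ((nondeg_iff hj).1 hφ)).1 h.symm
  obtain ⟨k, hk⟩ := exists_sqrt h2 hj hres
  refine ⟨u ^ k, ((isUnit_iff_res hj).2 (by rw [hres]; exact one_ne_zero)).pow k, fun c => ?_⟩
  rw [map_pow τ, hfix, hk, hu]

theorem exists_skew (h2 : (2 : F) ≠ 0) (hj : 0 < j) (hs : s * s = 1)
    (hτ : τ (AdjoinRoot.root (lf s j)) * AdjoinRoot.root (lf s j) = 1)
    {d d' : AdjoinRoot (lf s j)} (hd : τ d = -d) (hd' : τ d' = -d') :
    ∃ w, τ w = -w ∧ d + 2 * w - w * w * d' = 0 := by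
  haveI : Module.Finite F (AdjoinRoot (lf s j)) := (lf_monic s j).finite_adjoinRoot
  haveI : Finite (AdjoinRoot (lf s j)) := Module.finite_of_finite F
  have hskew : ∀ a, τ a = -a → res s j hj a = 0 := fun a ha => by
    have h := res_tau hj hs hτ a
    rw [ha, map_neg] at h
    have : (2 : F) * res s j hj a = 0 := by linear_combination -h
    exact (mul_eq_zero.1 this).resolve_left h2
  let Φ : {w : AdjoinRoot (lf s j) // τ w = -w} → {w : AdjoinRoot (lf s j) // τ w = -w} := fun w =>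
    ⟨2 * w.1 - w.1 * w.1 * d', by
      rw [map_sub τ, map_mul τ, map_mul τ, map_mul τ, map_ofNat, w.2, hd']; ring⟩
  have hinj : Function.Injective Φ := fun a b h => by
    have h1 : (a.1 - b.1) * (2 - (a.1 + b.1) * d') = 0 := by
      have := congrArg Subtype.val h
      simp only [Φ] at this
      linear_combination this
    have hu : IsUnit (2 - (a.1 + b.1) * d') := (isUnit_iff_res hj).2 (by
      rw [map_sub, map_mul, map_ofNat, hskew d' hd', mul_zero, sub_zero]
      exact h2)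
    exact Subtype.ext (sub_eq_zero.1 (hu.mul_left_eq_zero.1 h1))
  obtain ⟨w, hw⟩ := Finite.surjective_of_injective hinj ⟨-d, by rw [map_neg, hd]⟩
  refine ⟨w.1, w.2, ?_⟩
  have := congrArg Subtype.val hw
  simp only [Φ] at this
  linear_combination this

namespace Sys

variable {ε : F} {d : ℕ} {S : Sys F ε d}

/-- Adding a multiple of the second vector makes the first one isotropic. -/
theorem isotropic (h2 : (2 : F) ≠ 0) (hj : 0 < j) (hs : s * s = 1)
    (hτ : τ (AdjoinRoot.root (lf s j)) * AdjoinRoot.root (lf s j) = 1) (hττ : ∀ x, τ (τ x) = x)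
    (hε : ε * ε = 1) (hpar : (-1 : F) ^ (j - 1) * ε = -1) {x y : Fin d → F}
    (hx : S.pol (lf s j) x = 0) (hy : S.pol (lf s j) y = 0)
    (hxy : Nondeg (S.fn (lf_monic s j) x y)) :
    ∃ a, S.fn (lf_monic s j) (x + S.cyc (lf_monic s j) y a) (x + S.cyc (lf_monic s j) y a) = 0 ∧
      Nondeg (S.fn (lf_monic s j) (x + S.cyc (lf_monic s j) y a) y) := by
  haveI : Module.Finite F (AdjoinRoot (lf s j)) := (lf_monic s j).finite_adjoinRoot
  obtain ⟨φ, hφdef⟩ : ∃ φ, φ = S.fn (lf_monic s j) x y := ⟨_, rfl⟩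
  rw [← hφdef] at hxy
  obtain ⟨t, ht⟩ := exists_mul hxy (φ ∘ₗ τ.toLinearMap)
  replace ht : ∀ c, φ (τ c) = φ (t * c) := ht
  have htt : t * τ t = 1 := by
    refine sub_eq_zero.1 (hxy _ fun c => ?_)
    rw [sub_mul, one_mul, map_sub, mul_assoc, ← ht, map_mul τ, hττ, ← ht, hττ, sub_self]
  have htres : res s j hj t = (-1 : F) ^ (j - 1) := by
    have h := ht (om s j)
    rw [tau_om hj hs hτ, mul_om hj, map_smul, map_smul, smul_eq_mul, smul_eq_mul] at h
    exact (mul_right_cancel₀ ((nondeg_iff hj).1 hxy) h).symm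
  obtain ⟨E, hE⟩ : ∃ E, E = algebraMap F (AdjoinRoot (lf s j)) ε := ⟨_, rfl⟩
  have hEE : E * E = 1 := by rw [hE, ← map_mul, hε, map_one]
  have hτE : τ E = E := by rw [hE, AlgHom.commutes]
  obtain ⟨u, hu⟩ : ∃ u, u = 1 - E * t := ⟨_, rfl⟩
  have huu : IsUnit u := (isUnit_iff_res hj).2 (by
    rw [hu, map_sub, map_one, map_mul, hE, AlgHom.commutes, htres, Algebra.algebraMap_self,
      RingHom.id_apply, mul_comm, hpar, sub_neg_eq_add, one_add_one_eq_two]
    exact h2)
  have hrel : t * τ u = -(E * u) := by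
    rw [hu, map_sub τ, map_one τ, map_mul τ, hτE]
    linear_combination (-E) * htt + (-t) * hEE
  obtain ⟨y', hy'⟩ : ∃ y', y' = S.cyc (lf_monic s j) y u := ⟨_, rfl⟩
  have hy0 : S.pol (lf s j) y' = 0 := hy' ▸ S.pol_cyc_zero _ hy _
  obtain ⟨ψ, hψdef⟩ : ∃ ψ, ψ = S.fn (lf_monic s j) x y' := ⟨_, rfl⟩
  have hψ : ∀ c, ψ c = φ (u * c) := fun c => by
    rw [hψdef, hy', Sys.fn_apply, Sys.cyc_cyc _ _ hy, ← Sys.fn_apply, ← hφdef, mul_comm]
  have hψnd : Nondeg ψ := nondeg_mul hxy huu hψ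
  have hψs : ∀ c, ψ (τ c) = -ε * ψ c := fun c => by
    rw [hψ, hψ, show u * τ c = τ (τ u * c) by rw [map_mul τ, hττ], ht, ← mul_assoc, hrel, neg_mul,
      map_neg, hE, mul_assoc, ← Algebra.smul_def, map_smul, smul_eq_mul, neg_mul]
  have hsk : ∀ z, S.pol (lf s j) z = 0 → ∃ e, τ e = -e ∧
      ∀ c, S.fn (lf_monic s j) z z c = ψ (e * c) := fun z hz => by
    obtain ⟨e, he⟩ := exists_mul hψnd (S.fn (lf_monic s j) z z)
    refine ⟨e, eq_neg_of_add_eq_zero_left (hψnd _ fun c => ?_), he⟩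
    have h1 := he (τ c)
    rw [show e * τ c = τ (τ e * c) by rw [map_mul τ, hττ], hψs] at h1
    have h3 := S.fn_swap (lf_monic s j) hτ hz hz c
    rw [h1, he] at h3
    rw [add_mul, map_add]
    linear_combination h3 + (-ψ (τ e * c)) * hε
  obtain ⟨d₁, hd₁, h11⟩ := hsk x hx
  obtain ⟨d₂, hd₂, h22⟩ := hsk y' hy0
  obtain ⟨w, hw, hweq⟩ := exists_skew h2 hj hs hτ hd₁ hd₂
  obtain ⟨x', hx'⟩ : ∃ x', x' = x + S.cyc (lf_monic s j) y' w := ⟨_, rfl⟩
  have hw0 : S.pol (lf s j) (S.cyc (lf_monic s j) y' w) = 0 := S.pol_cyc_zero _ hy0 _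
  have hx'0 : S.pol (lf s j) x' = 0 := by rw [hx', map_add, hx, hw0, add_zero]
  refine ⟨w * u, ?_, ?_⟩
  all_goals rw [← Sys.cyc_cyc S (lf_monic s j) hy, ← hy', ← hx']
  · refine LinearMap.ext fun c => ?_
    rw [LinearMap.zero_apply]
    have e1 : ∀ a b : Fin d → F, S.pol (lf s j) a = 0 → S.pol (lf s j) b = 0 →
        S.cyc (lf_monic s j) (a + b) c = S.cyc (lf_monic s j) a c + S.cyc (lf_monic s j) b c := by
      intro a b ha hb
      obtain ⟨k, rfl⟩ := AdjoinRoot.mk_surjective (g := lf s j) c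
      rw [Sys.cyc_mk _ _ (by rw [map_add, ha, hb, add_zero]), Sys.cyc_mk _ _ ha, Sys.cyc_mk _ _ hb,
        map_add]
    have t1 : S.B x (S.cyc (lf_monic s j) x c) = ψ (d₁ * c) := h11 c
    have t2 : S.B x (S.cyc (lf_monic s j) y' (c * w)) = ψ (c * w) := by rw [hψdef]; rfl
    have t3 : S.B (S.cyc (lf_monic s j) y' w) (S.cyc (lf_monic s j) x c) = -ψ (τ w * c) := by
      rw [S.hsym, Sys.B_cyc S _ hτ hx hy0, ← hψdef,
        show τ c * w = τ (τ w * c) by rw [map_mul τ, hττ, mul_comm], hψs, ← mul_assoc, mul_neg, hε,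
        neg_one_mul]
    have t4 : S.B (S.cyc (lf_monic s j) y' w) (S.cyc (lf_monic s j) y' (c * w)) =
        ψ (d₂ * (τ w * (c * w))) := by rw [Sys.B_cyc S _ hτ hy0 hy0, h22]
    rw [Sys.fn_apply, hx', e1 _ _ hx hw0, Sys.cyc_cyc _ _ hy0]
    simp only [map_add, LinearMap.add_apply, t1, t2, t3, t4]
    have h5 : ψ (d₁ * c) - ψ (τ w * c) + (ψ (c * w) + ψ (d₂ * (τ w * (c * w)))) = 0 := by
      rw [← map_sub, ← map_add, ← map_add, hw,
        show d₁ * c - -w * c + (c * w + d₂ * (-w * (c * w))) = (d₁ + 2 * w - w * w * d₂) * c by ring,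
        hweq, zero_mul, map_zero]
    linear_combination h5
  · have hwres : res s j hj w = 0 := by
      have h := res_tau hj hs hτ w
      rw [hw, map_neg] at h
      have h3 : (2 : F) * res s j hj w = 0 := by linear_combination -h
      exact (mul_eq_zero.1 h3).resolve_left h2
    rw [nondeg_iff hj, Sys.fn_apply, hx', map_add, LinearMap.add_apply, ← Sys.fn_apply, ← hφdef,
      Sys.B_cyc S _ hτ hy0 hy, mul_om hj, res_tau hj hs hτ, hwres, zero_smul, map_zero, add_zero]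
    exact (nondeg_iff hj).1 hxy

end Sys

end Cfsg.Agent.FormCount
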