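import Cfsg.Agent.Lib.Classical.FormCount.Exist
import Cfsg.Agent.Lib.Classical.SLClassTwist

/-!
The models of the cyclic pieces and their embeddings.
-/

set_option autoImplicit false
set_option linter.style.haveILetI false

namespace Cfsg.Agent.FormCount

open Polynomial Module
open LinearMap (BilinForm)

universe u

variable {F : Type u} [Field F] {ε : F} {d : ℕ}

namespace Sys

/-- An isometric equivariant map of a model into a system. -/
def Embeds (S : Sys F ε d) {A : Type u} [AddCommGroup A] [Module F A] (β : BilinForm F A)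
    (γ : Module.End F A) : Prop :=
  ∃ L : A →ₗ[F] (Fin d → F), (∀ a b, S.B (L a) (L b) = β a b) ∧ ∀ a, S.g (L a) = L (γ a)

end Sys

variable {f : F[X]}

/-- Multiplication by the root. -/
noncomputable def gam (f : F[X]) : Module.End F (AdjoinRoot f) :=
  LinearMap.mulLeft F (AdjoinRoot.root f)

/-- The form given by a functional. -/
noncomputable def formOf (τ : AdjoinRoot f →ₐ[F] AdjoinRoot f) (φ : AdjoinRoot f →ₗ[F] F) :
    BilinForm F (AdjoinRoot f) :=
  LinearMap.mk₂ F (fun a b => φ (τ a * b))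
    (fun a b c => by simp only [map_add, add_mul]) (fun c a b => by simp only [map_smul, smul_mul_assoc])
    (fun a b c => by simp only [map_add, mul_add]) (fun c a b => by simp only [map_smul, mul_smul_comm])

/-- The hyperbolic form given by a functional. -/
noncomputable def hypOf (ε : F) (τ : AdjoinRoot f →ₐ[F] AdjoinRoot f) (φ : AdjoinRoot f →ₗ[F] F) :
    BilinForm F (AdjoinRoot f × AdjoinRoot f) :=
  LinearMap.mk₂ F (fun a b => φ (τ a.1 * b.2) + ε * φ (τ b.1 * a.2))
    (fun a b c => by simp only [Prod.fst_add, Prod.snd_add, map_add, add_mul, mul_add]; ring)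
    (fun c a b => by
      simp only [Prod.smul_fst, Prod.smul_snd, map_smul, smul_mul_assoc, mul_smul_comm, smul_eq_mul]
      ring)
    (fun a b c => by simp only [Prod.fst_add, Prod.snd_add, map_add, add_mul, mul_add]; ring)
    (fun c a b => by
      simp only [Prod.smul_fst, Prod.smul_snd, map_smul, smul_mul_assoc, mul_smul_comm, smul_eq_mul]
      ring)

theorem formOf_nd {τ : AdjoinRoot f →ₐ[F] AdjoinRoot f} (hττ : ∀ x, τ (τ x) = x)
    {φ : AdjoinRoot f →ₗ[F] F} (hφ : Nondeg φ) (a : AdjoinRoot f)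
    (h : ∀ b, formOf τ φ a b = 0) : a = 0 := by
  rw [← hττ a, hφ (τ a) h, map_zero]

theorem hypOf_nd (hε : ε * ε = 1) {τ : AdjoinRoot f →ₐ[F] AdjoinRoot f} (hττ : ∀ x, τ (τ x) = x)
    {φ : AdjoinRoot f →ₗ[F] F} (hφ : Nondeg φ) (a : AdjoinRoot f × AdjoinRoot f)
    (h : ∀ b, hypOf ε τ φ a b = 0) : a = 0 := by
  refine Prod.ext ?_ ?_
  · rw [← hττ a.1, hφ (τ a.1) fun c => ?_, map_zero, Prod.fst_zero]
    have := h (0, c)
    simpa [hypOf] using this
  · refine hφ _ fun c => ?_
    have h1 := h (τ c, 0)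
    simp only [hypOf, LinearMap.mk₂_apply, mul_zero, map_zero, zero_add, hττ] at h1
    rw [mul_comm]
    exact (mul_eq_zero.1 h1).resolve_left (fun h => by simp [h] at hε)

namespace Sys

variable (S : Sys F ε d) (hf : f.Monic) {τ : AdjoinRoot f →ₐ[F] AdjoinRoot f}
  (hτ : τ (AdjoinRoot.root f) * AdjoinRoot.root f = 1)
include hτ

theorem fn_symm {x : Fin d → F} (hε : ε * ε = 1) (hx : S.pol f x = 0) (c : AdjoinRoot f) :
    S.fn hf x x (τ c) = ε * S.fn hf x x c := by
  have h := S.fn_swap hf hτ hx hx c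
  rw [h, ← mul_assoc, hε, one_mul]

theorem embeds_form {x : Fin d → F} (hx : S.pol f x = 0) {φ : AdjoinRoot f →ₗ[F] F}
    (hφ : ∀ c, S.fn hf x x c = φ c) : S.Embeds (formOf τ φ) (gam f) :=
  ⟨S.cyc hf x, fun a b => by rw [S.B_cyc hf hτ hx hx, hφ]; rfl, fun a => S.cyc_g hf hx a⟩

theorem embeds_norm {x : Fin d → F} (hx : S.pol f x = 0) {φ : AdjoinRoot f →ₗ[F] F}
    (h : ∃ y, IsUnit y ∧ ∀ c, φ c = S.fn hf x x (τ y * y * c)) :
    S.Embeds (formOf τ φ) (gam f) := by
  obtain ⟨y, -, hy⟩ := h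
  exact S.embeds_form hf hτ (S.pol_cyc_zero hf hx y)
    (fun c => by rw [S.fn_cyc hf hτ hx hx, hy])

theorem embeds_hyp {x y : Fin d → F} (hx : S.pol f x = 0) (hy : S.pol f y = 0)
    (hxx : S.fn hf x x = 0) (hyy : S.fn hf y y = 0) (hxy : Nondeg (S.fn hf x y))
    (φ : AdjoinRoot f →ₗ[F] F) :
    S.Embeds (hypOf ε τ φ) ((gam f).prodMap (gam f)) := by
  haveI : Module.Finite F (AdjoinRoot f) := hf.finite_adjoinRoot
  obtain ⟨u, hu⟩ := exists_mul hxy φ
  have hy' := S.pol_cyc_zero hf hy u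
  refine ⟨(S.cyc hf x).coprod (S.cyc hf (S.cyc hf y u)), fun a b => ?_, fun a => ?_⟩
  · have h1 : ∀ a b, S.B (S.cyc hf x a) (S.cyc hf x b) = 0 := fun a b => by
      rw [S.B_cyc hf hτ hx hx, hxx, LinearMap.zero_apply]
    have h2 : ∀ a b, S.B (S.cyc hf (S.cyc hf y u) a) (S.cyc hf (S.cyc hf y u) b) = 0 := fun a b => by
      rw [S.B_cyc hf hτ hy' hy', S.fn_cyc hf hτ hy hy, hyy, LinearMap.zero_apply]
    have h3 : ∀ a b, S.B (S.cyc hf x a) (S.cyc hf (S.cyc hf y u) b) = φ (τ a * b) := fun a b => by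
      rw [S.cyc_cyc hf hy, S.B_cyc hf hτ hx hy, hu]
      congr 1
      ring
    simp only [LinearMap.coprod_apply, map_add, LinearMap.add_apply, h1, h2, h3, zero_add, add_zero]
    rw [S.hsym (S.cyc hf x b.1), h3]
    show ε * φ (τ b.1 * a.2) + φ (τ a.1 * b.2) = φ (τ a.1 * b.2) + ε * φ (τ b.1 * a.2)
    ring
  · rw [LinearMap.coprod_apply, LinearMap.coprod_apply, map_add, S.cyc_g hf hx, S.cyc_g hf hy']
    rfl

end Sys

theorem aeval_gam (f P : F[X]) :
    aeval (gam f) P = LinearMap.mulLeft F (AdjoinRoot.mk f P) := by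
  have h := aeval_algHom_apply (Algebra.lmul F (AdjoinRoot f)) (AdjoinRoot.root f) P
  rw [AdjoinRoot.aeval_eq] at h
  exact h

theorem ker_gam_unit {P : F[X]} (h : IsCoprime P f) :
    finrank F (LinearMap.ker (aeval (gam f) P)) = 0 := by
  obtain ⟨a, b, hab⟩ := h
  have hbot : LinearMap.ker (aeval (gam f) P) = ⊥ := by
    rw [aeval_gam, eq_bot_iff]
    intro z hz
    rw [LinearMap.mem_ker, LinearMap.mulLeft_apply] at hz
    have h1 := congrArg (fun e => AdjoinRoot.mk f e * z) hab
    simp only [map_add, map_mul, AdjoinRoot.mk_self, mul_zero, add_zero, map_one, one_mul,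
      mul_assoc, hz] at h1
    exact h1.symm
  rw [hbot, finrank_bot]

theorem ker_gam_self (s : F) (j k : ℕ) :
    finrank F (LinearMap.ker (aeval (gam (lf s j)) ((X - C s) ^ k))) = min k j := by
  have h := SLTwist.finrank_ker_mulBlk_self (X - C s) (monic_X_sub_C s) k j
  rw [natDegree_X_sub_C, mul_one] at h
  rw [aeval_gam, ← h]
  let E : AdjoinRoot (lf s j) ≃ₗ[F] GLCount.Blk (X - C s) j := LinearEquiv.refl F (AdjoinRoot (lf s j))
  refine (E.ofSubmodules _ _ ?_).finrank_eq
  ext z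
  simp only [Submodule.mem_map, LinearMap.mem_ker, E]
  constructor
  · rintro ⟨w, hw, rfl⟩
    obtain ⟨a, rfl⟩ := AdjoinRoot.mk_surjective (g := lf s j) w
    exact hw
  · intro hz
    refine ⟨z, ?_, rfl⟩
    obtain ⟨a, rfl⟩ := AdjoinRoot.mk_surjective (g := lf s j) z
    exact hz

theorem ker_prodMap {A : Type u} [AddCommGroup A] [Module F A] [Module.Finite F A]
    (γ : Module.End F A) (P : F[X]) :
    finrank F (LinearMap.ker (aeval (γ.prodMap γ) P)) = 2 * finrank F (LinearMap.ker (aeval γ P)) := by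
  have h1 : ∀ x : A × A, aeval (γ.prodMap γ) P x = (aeval γ P x.1, aeval γ P x.2) := by
    induction P using Polynomial.induction_on' with
    | add a b ha hb =>
      intro x
      simp only [map_add, LinearMap.add_apply, ha, hb]
      rfl
    | monomial i c =>
      intro x
      simp only [aeval_monomial, ← Algebra.smul_def, LinearMap.smul_apply]
      rw [show ((γ.prodMap γ) ^ i) x = ((γ ^ i) x.1, (γ ^ i) x.2) by
        induction i generalizing x with
        | zero => rfl
        | succ i ih => rw [pow_succ, pow_succ, Module.End.mul_apply, Module.End.mul_apply, ih]; rfl]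
      rfl
  have hker : LinearMap.ker (aeval (γ.prodMap γ) P) =
      (LinearMap.ker (aeval γ P)).prod (LinearMap.ker (aeval γ P)) := by
    ext x
    rw [LinearMap.mem_ker, h1, Submodule.mem_prod, Prod.mk_eq_zero, LinearMap.mem_ker, LinearMap.mem_ker]
  rw [hker, two_mul]
  let E : ↥((LinearMap.ker (aeval γ P)).prod (LinearMap.ker (aeval γ P))) ≃ₗ[F]
      ↥(LinearMap.ker (aeval γ P)) × ↥(LinearMap.ker (aeval γ P)) :=
    { toFun := fun z => (⟨z.1.1, z.2.1⟩, ⟨z.1.2, z.2.2⟩)
      map_add' := fun _ _ => rfl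
      map_smul' := fun _ _ => rfl
      invFun := fun z => ⟨(z.1.1, z.2.1), ⟨z.1.2, z.2.2⟩⟩
      left_inv := fun _ => rfl
      right_inv := fun _ => rfl }
  exact E.finrank_eq.trans Module.finrank_prod

end Cfsg.Agent.FormCount
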