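import Cfsg.Agent.Lib.Classical.FormCount.OCount

/-!
The bounds on the weighted coefficients for orthogonal groups, for `q ≥ 3`.
-/

set_option autoImplicit false

namespace Cfsg.Agent.FormCount

/-- The number `1 / (1 - 3 ^ (-(j - 1)))`. -/
def gg (j : ℕ) : ℚ := 1 / (1 - (1 / 3) ^ (j - 1))

/-- The bounds for the even and the odd coefficients. -/
def EO : ℕ → ℚ × ℚ
  | 0 => (1, 0)
  | 1 => (1 + 6 * (1 / 3) + (1 / 3) ^ 2, 4 * (1 + 1 / 3))
  | m + 2 => if Even (m + 2) then ((EO (m + 1)).1 * gg (m + 2), (EO (m + 1)).2 * gg (m + 2)) else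
      (((1 + 6 * (1 / 3) ^ (m + 2) + ((1 / 3) ^ (m + 2)) ^ 2) * (EO (m + 1)).1 +
          4 * (1 + (1 / 3) ^ (m + 2)) * (1 / 3) ^ ((m + 2) / 2 + 1) * (EO (m + 1)).2) * gg (m + 2),
        ((1 + 6 * (1 / 3) ^ (m + 2) + ((1 / 3) ^ (m + 2)) ^ 2) * (EO (m + 1)).2 +
          4 * (1 + (1 / 3) ^ (m + 2)) * (1 / 3) ^ ((m + 2) / 2) * (EO (m + 1)).1) * gg (m + 2))

/-- The bound for the codes without signs. -/
def KU : ℕ → ℚ
  | 0 => 1
  | 1 => 1
  | m + 2 => KU (m + 1) * gg (m + 2)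

theorem gg_ge (m : ℕ) : 1 ≤ gg (m + 2) := by
  have h1 : ((1 : ℚ) / 3) ^ (m + 1) < 1 := pow_lt_one₀ (by norm_num) (by norm_num) (Nat.succ_ne_zero m)
  have h0 : (0 : ℚ) ≤ (1 / 3) ^ (m + 1) := by positivity
  rw [gg, show m + 2 - 1 = m + 1 by omega, one_le_div (by linarith)]
  linarith

theorem EO_nonneg : ∀ m, 0 ≤ (EO m).1 ∧ 0 ≤ (EO m).2
  | 0 => by norm_num [EO]
  | 1 => by norm_num [EO]
  | m + 2 => by
    obtain ⟨h1, h2⟩ := EO_nonneg (m + 1)
    have := zero_le_one.trans (gg_ge m)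
    rw [EO]
    split_ifs <;> constructor <;> dsimp only <;> positivity

theorem KU_nonneg : ∀ m, 0 ≤ KU m
  | 0 => by norm_num [KU]
  | 1 => by norm_num [KU]
  | m + 2 => by
    rw [KU]
    exact mul_nonneg (KU_nonneg (m + 1)) (zero_le_one.trans (gg_ge m))

theorem pair_step {z E O A : ℚ} (hz0 : 0 < z) (hz : z ≤ 1 / 729) 
    (hA : 0 ≤ A) (hE : E * (1 + 5 * z) ≤ A) (hO : O * (1 + 5 * z) ≤ 2 * A) :
    ((1 + 6 * (z * z / 3) + (z * z / 3) ^ 2) * E + 4 * (1 + z * z / 3) * (z / 3) * O) *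
        (1 / (1 - z * z)) * (1 / (1 - z * z / 3)) * (1 + 5 * (z / 3)) ≤ A ∧
    ((1 + 6 * (z * z / 3) + (z * z / 3) ^ 2) * O + 4 * (1 + z * z / 3) * z * E) *
        (1 / (1 - z * z)) * (1 / (1 - z * z / 3)) * (1 + 5 * (z / 3)) ≤ 2 * A := by
  have hzz : z * z ≤ z / 729 := by nlinarith
  have hd : 0 < (1 - z * z) * (1 - z * z / 3) := by nlinarith
  obtain ⟨e, he⟩ : ∃ e, 1 + 6 * (z * z / 3) + (z * z / 3) ^ 2 = e := ⟨_, rfl⟩
  obtain ⟨f, hf⟩ : ∃ f, 4 * (1 + z * z / 3) = f := ⟨_, rfl⟩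
  have he1 : e ≤ 1 + z / 100 := by rw [← he]; nlinarith
  have hf1 : f ≤ 4 + 1 / 100 := by rw [← hf]; nlinarith
  have he0 : 0 ≤ e := by rw [← he]; positivity
  have hf0 : 0 ≤ f := by rw [← hf]; positivity
  have hw : 0 < 1 + 5 * z := by linarith
  have hE' : E ≤ A / (1 + 5 * z) := by rw [le_div_iff₀ hw]; exact hE
  have hO' : O ≤ 2 * A / (1 + 5 * z) := by rw [le_div_iff₀ hw]; exact hO
  have key : (e + f * z * (2 / 3)) * (1 + 5 * (z / 3)) ≤ (1 + 5 * z) * ((1 - z * z) * (1 - z * z / 3)) := by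
    have h1 : f * z ≤ (4 + 1 / 100) * z := mul_le_mul_of_nonneg_right hf1 hz0.le
    have h2 : (e + f * z * (2 / 3)) * (1 + 5 * (z / 3)) ≤ 1 + 44 / 10 * z := by
      refine (mul_le_mul_of_nonneg_right (show e + f * z * (2 / 3) ≤ 1 + 269 / 100 * z by linarith)
        (by positivity)).trans ?_
      nlinarith
    have h3 : 1 - 2 * (z * z) ≤ (1 - z * z) * (1 - z * z / 3) := by nlinarith
    refine h2.trans (le_trans ?_ (mul_le_mul_of_nonneg_left h3 hw.le))
    nlinarith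
  rw [he, hf]
  constructor
  · rw [mul_assoc _ (1 / (1 - z * z)) _, one_div_mul_one_div, mul_one_div, div_mul_eq_mul_div, div_le_iff₀ hd]
    refine le_trans (mul_le_mul_of_nonneg_right (add_le_add (mul_le_mul_of_nonneg_left hE' he0)
      (mul_le_mul_of_nonneg_left hO' (by positivity))) (by positivity)) ?_
    rw [show (e * (A / (1 + 5 * z)) + f * (z / 3) * (2 * A / (1 + 5 * z))) * (1 + 5 * (z / 3)) =
      A * ((e + f * z * (2 / 3)) * (1 + 5 * (z / 3))) / (1 + 5 * z) by ring, div_le_iff₀ hw]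
    exact (mul_le_mul_of_nonneg_left key hA).trans (le_of_eq (by ring))
  · rw [mul_assoc _ (1 / (1 - z * z)) _, one_div_mul_one_div, mul_one_div, div_mul_eq_mul_div, div_le_iff₀ hd]
    refine le_trans (mul_le_mul_of_nonneg_right (add_le_add (mul_le_mul_of_nonneg_left hO' he0)
      (mul_le_mul_of_nonneg_left hE' (by positivity))) (by positivity)) ?_
    have h4 : e * 2 + f * z ≤ 2 * (e + f * z * (2 / 3)) := by nlinarith
    rw [show (e * (2 * A / (1 + 5 * z)) + f * z * (A / (1 + 5 * z))) * (1 + 5 * (z / 3)) =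
      A * ((e * 2 + f * z) * (1 + 5 * (z / 3))) / (1 + 5 * z) by ring, div_le_iff₀ hw]
    refine (mul_le_mul_of_nonneg_left (mul_le_mul_of_nonneg_right h4 (by positivity)) hA).trans ?_
    calc A * (2 * (e + f * z * (2 / 3)) * (1 + 5 * (z / 3)))
        = 2 * A * ((e + f * z * (2 / 3)) * (1 + 5 * (z / 3))) := by ring
      _ ≤ 2 * A * ((1 + 5 * z) * ((1 - z * z) * (1 - z * z / 3))) :=
          mul_le_mul_of_nonneg_left key (by positivity)
      _ = _ := by ring

theorem EO_mono (m : ℕ) : (EO m).1 ≤ (EO (m + 1)).1 := by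
  rcases m with _ | m
  · norm_num [EO]
  · obtain ⟨h1, h2⟩ := EO_nonneg (m + 1)
    have := gg_ge m
    rw [show EO (m + 1 + 1) = _ from EO.eq_3 m]
    split_ifs
    · exact le_mul_of_one_le_right h1 this
    · refine le_trans ?_ (le_mul_of_one_le_right (by positivity) this)
      refine le_add_of_le_of_nonneg (le_mul_of_one_le_left h1 ?_) (by positivity)
      have h5 : (0 : ℚ) ≤ (1 / 3) ^ (m + 2) := by positivity
      nlinarith

theorem EO_le (m : ℕ) : (EO m).1 ≤ 17 := by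
  have key : ∀ i, (EO (2 * (6 + i))).1 * (1 + 5 * (1 / 3) ^ (6 + i)) ≤ 17 ∧
      (EO (2 * (6 + i))).2 * (1 + 5 * (1 / 3) ^ (6 + i)) ≤ 2 * 17 := by
    intro i
    induction i with
    | zero => norm_num [EO, gg, Nat.even_iff]
    | succ i ih =>
      obtain ⟨z, hz⟩ : ∃ z, ((1 : ℚ) / 3) ^ (6 + i) = z := ⟨_, rfl⟩
      have hz0 : 0 < z := hz ▸ by positivity
      have hz1 : z ≤ (1 / 3) ^ 6 := hz ▸ pow_le_pow_of_le_one (by norm_num) (by norm_num) (by omega)
      norm_num at hz1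
      rw [hz] at ih
      rw [show 2 * (6 + (i + 1)) = 2 * (5 + i) + 2 + 2 by omega, EO,
        if_pos (by simp [Nat.even_iff]), show 2 * (5 + i) + 2 + 1 = 2 * (5 + i) + 1 + 2 by omega, EO,
        if_neg (by simp [Nat.even_iff]), show 2 * (5 + i) + 1 + 1 = 2 * (6 + i) by omega,
        show 2 * (5 + i) + 1 + 2 = 2 * (6 + i) + 1 by omega,
        show (2 * (6 + i) + 1) / 2 = 6 + i by omega, show 6 + (i + 1) = 6 + i + 1 by omega, gg, gg,
        show 2 * (6 + i) + 1 - 1 = (6 + i) + (6 + i) by omega,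
        show 2 * (6 + i) + 2 - 1 = (6 + i) + (6 + i) + 1 by omega,
        show 2 * (6 + i) + 1 = (6 + i) + (6 + i) + 1 by omega,
        pow_succ ((1 : ℚ) / 3) (6 + i + (6 + i)), pow_succ ((1 : ℚ) / 3) (6 + i),
        pow_add ((1 : ℚ) / 3) (6 + i) (6 + i), hz]
      obtain ⟨a, b⟩ := pair_step hz0 hz1 (by norm_num) ih.1 ih.2
      exact ⟨le_of_eq_of_le (by ring) a, le_of_eq_of_le (by ring) b⟩
  obtain ⟨i, hi⟩ : ∃ i, m ≤ 2 * (6 + i) := ⟨m, by omega⟩
  refine (monotone_nat_of_le_succ EO_mono hi).trans (le_trans ?_ (key i).1)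
  refine le_mul_of_one_le_right (EO_nonneg _).1 ?_
  have : (0 : ℚ) ≤ 5 * (1 / 3) ^ (6 + i) := by positivity
  linarith

theorem KU_le (m : ℕ) : KU m ≤ 19 / 10 := by
  have key : ∀ i, KU (6 + i) * (1 + 2 * (1 / 3) ^ (6 + i)) ≤ 19 / 10 := by
    intro i
    induction i with
    | zero => norm_num [KU, gg]
    | succ i ih =>
      obtain ⟨z, hz⟩ : ∃ z, ((1 : ℚ) / 3) ^ (6 + i) = z := ⟨_, rfl⟩
      have hz0 : 0 < z := hz ▸ by positivity
      have hz1 : z ≤ (1 / 3) ^ 6 := hz ▸ pow_le_pow_of_le_one (by norm_num) (by norm_num) (by omega)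
      norm_num at hz1
      refine le_trans ?_ ih
      rw [show 6 + (i + 1) = 5 + i + 2 by omega, KU, gg, show 5 + i + 2 - 1 = 6 + i by omega,
        show 5 + i + 2 = 6 + i + 1 by omega, show 5 + i + 1 = 6 + i by omega, pow_succ, hz, mul_assoc]
      refine mul_le_mul_of_nonneg_left ?_ (KU_nonneg _)
      rw [div_mul_eq_mul_div, one_mul, div_le_iff₀ (by linarith)]
      nlinarith
  obtain ⟨i, hi⟩ : ∃ i, m ≤ 6 + i := ⟨m, by omega⟩
  refine (monotone_nat_of_le_succ (fun m => ?_) hi).trans (le_trans ?_ (key i))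
  · rcases m with _ | m
    · norm_num [KU]
    · rw [show KU (m + 1 + 1) = KU (m + 1) * gg (m + 2) from rfl]
      exact le_mul_of_one_le_right (KU_nonneg _) (gg_ge m)
  · refine le_mul_of_one_le_right (KU_nonneg _) ?_
    have : (0 : ℚ) ≤ 2 * (1 / 3) ^ (6 + i) := by positivity
    linarith

theorem qpow_sub {q : ℕ} (hq : 0 < q) {k n : ℕ} (h : k ≤ n) :
    (q : ℚ) ^ (n - k) = (q : ℚ) ^ n * (1 / (q : ℚ)) ^ k := by
  rw [pow_sub₀ _ (by positivity) h, one_div, inv_pow]

theorem SS_even_eq (q b : ℕ) : SS q (2 * b + 4) = q ^ b * (q ^ 2 + 6 * q + 1) := by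
  rw [SS, NN, NN, NN, if_neg (by omega), if_neg (by omega : ¬ 2 * b + 4 - 1 = 0),
    if_pos (by omega), if_pos (by omega), if_neg (by omega : ¬ 2 * b + 4 - 2 = 0),
    show (2 * b + 4) / 2 = b + 2 by omega, show (2 * b + 4 - 1) / 2 = b + 1 by omega,
    show (2 * b + 4 - 1 - 1) / 2 = b + 1 by omega, show (2 * b + 4 - 2) / 2 = b + 1 by omega,
    show (2 * b + 4 - 2 - 1) / 2 = b by omega]
  ring

theorem SS_odd_eq (q b : ℕ) : SS q (2 * b + 3) = q ^ b * (4 * (q + 1)) := by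
  rw [SS, NN, NN, NN, if_neg (by omega), if_neg (by omega : ¬ 2 * b + 3 - 1 = 0),
    if_pos (by omega), if_pos (by omega), if_neg (by omega : ¬ 2 * b + 3 - 2 = 0),
    show (2 * b + 3) / 2 = b + 1 by omega, show (2 * b + 3 - 1) / 2 = b + 1 by omega,
    show (2 * b + 3 - 1 - 1) / 2 = b by omega, show (2 * b + 3 - 2) / 2 = b by omega,
    show (2 * b + 3 - 2 - 1) / 2 = b by omega]
  ring

theorem SS_small (q : ℕ) : SS q 0 = 1 ∧ SS q 1 = 4 ∧ SS q 2 = q + 6 := by
  refine ⟨?_, ?_, ?_⟩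
  · simp [SS, NN]
  · simp [SS, NN]
  · simp [SS, NN]

theorem series_even {q : ℕ} {z : ℚ} (hz0 : 0 ≤ z) (hqz : (q : ℚ) * z < 1) (A : ℕ) :
    ∑ b ∈ Finset.range A, (SS q (2 * b) : ℚ) * z ^ b ≤ (1 + 6 * z + z ^ 2) / (1 - q * z) := by
  refine (Finset.sum_le_sum_of_subset_of_nonneg (Finset.range_mono (show A ≤ A + 2 by omega))
    fun _ _ _ => by positivity).trans ?_
  have h2 := geom_le' (mul_nonneg (Nat.cast_nonneg q) hz0) hqz A
  rw [Finset.sum_range_succ', Finset.sum_range_succ']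
  obtain ⟨h0, -, h1⟩ := SS_small q
  simp only [mul_zero, zero_add, mul_one, pow_zero, pow_one, h0, h1]
  rw [Finset.sum_congr rfl fun b _ => show (SS q (2 * (b + 1 + 1)) : ℚ) * z ^ (b + 1 + 1) =
    ((q : ℚ) ^ 2 + 6 * q + 1) * z ^ 2 * ((q : ℚ) * z) ^ b by
      rw [show 2 * (b + 1 + 1) = 2 * b + 4 by omega, SS_even_eq]; push_cast; ring, ← Finset.mul_sum]
  refine (add_le_add (add_le_add (mul_le_mul_of_nonneg_left h2 (by positivity)) le_rfl) le_rfl).trans
    (le_of_eq ?_)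
  have h4 : (1 - (q : ℚ) * z) ≠ 0 := by linarith
  field_simp
  push_cast
  ring

theorem series_odd {q : ℕ} {z : ℚ} (hz0 : 0 ≤ z) (hqz : (q : ℚ) * z < 1) (A : ℕ) :
    ∑ b ∈ Finset.range A, (SS q (2 * b + 1) : ℚ) * z ^ b ≤ 4 * (1 + z) / (1 - q * z) := by
  refine (Finset.sum_le_sum_of_subset_of_nonneg (Finset.range_mono (show A ≤ A + 1 by omega))
    fun _ _ _ => by positivity).trans ?_
  have h2 := geom_le' (mul_nonneg (Nat.cast_nonneg q) hz0) hqz A
  rw [Finset.sum_range_succ']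
  obtain ⟨-, h1, -⟩ := SS_small q
  simp only [mul_zero, zero_add, pow_zero, h1]
  rw [Finset.sum_congr rfl fun b _ => show (SS q (2 * (b + 1) + 1) : ℚ) * z ^ (b + 1) =
    4 * ((q : ℚ) + 1) * z * ((q : ℚ) * z) ^ b by
      rw [show 2 * (b + 1) + 1 = 2 * b + 3 by omega, SS_odd_eq]; push_cast; ring, ← Finset.mul_sum]
  refine (add_le_add (mul_le_mul_of_nonneg_left h2 (by positivity)) le_rfl).trans (le_of_eq ?_)
  have h4 : (1 - (q : ℚ) * z) ≠ 0 := by linarith
  field_simp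
  push_cast
  ring

theorem SS_le {q : ℕ} (hq : 3 ≤ q) (n : ℕ) :
    (SS q (2 * n) : ℚ) ≤ (1 + 6 * (1 / 3) + (1 / 3) ^ 2) * (q : ℚ) ^ n ∧
      (SS q (2 * n + 1) : ℚ) ≤ 4 * (1 + 1 / 3) * (q : ℚ) ^ n := by
  have h3 : (3 : ℚ) ≤ q := by exact_mod_cast hq
  obtain ⟨h0, h1, h2⟩ := SS_small q
  constructor
  · rcases n with _ | _ | n
    · rw [h0]; norm_num
    · rw [h2]
      push_cast
      linarith
    · rw [show 2 * (n + 1 + 1) = 2 * n + 4 by omega, SS_even_eq]
      push_cast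
      refine (mul_le_mul_of_nonneg_left (show (q : ℚ) ^ 2 + 6 * q + 1 ≤
        (1 + 6 * (1 / 3) + (1 / 3) ^ 2) * (q : ℚ) ^ 2 by nlinarith) (by positivity)).trans (le_of_eq ?_)
      ring
  · rcases n with _ | n
    · rw [h1]; norm_num
    · rw [show 2 * (n + 1) + 1 = 2 * n + 3 by omega, SS_odd_eq]
      push_cast
      rw [pow_succ, mul_left_comm (_ * _ : ℚ)]
      refine mul_le_mul_of_nonneg_left ?_ (by positivity)
      linarith

theorem sum_split (f : ℕ → ℚ) : ∀ A, ∑ a ∈ Finset.range (2 * A), f a =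
    (∑ b ∈ Finset.range A, f (2 * b)) + ∑ b ∈ Finset.range A, f (2 * b + 1)
  | 0 => by simp
  | A + 1 => by
    rw [show 2 * (A + 1) = 2 * A + 1 + 1 by ring, Finset.sum_range_succ, Finset.sum_range_succ,
      sum_split f A, Finset.sum_range_succ, Finset.sum_range_succ]
    ring

theorem SS_zero {q N : ℕ} : cntO q 1 N = SS q N := by
  rw [cntO, if_neg (by norm_num), Finset.sum_eq_single N]
  · simp [cntO]
  · intro a ha hne
    have : N - a * 1 ≠ 0 := by rw [Finset.mem_range] at ha; omega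
    simp [cntO, show N - a ≠ 0 by omega]
  · simp

set_option maxHeartbeats 800000 in
theorem cntO_le {q : ℕ} (hq : 3 ≤ q) : ∀ m n,
    (cntO q m (2 * n) : ℚ) ≤ (EO m).1 * (q : ℚ) ^ n ∧
      (cntO q m (2 * n + 1) : ℚ) ≤ (EO m).2 * (q : ℚ) ^ n
  | 0, n => by
    by_cases hn : n = 0 <;> simp [cntO, EO, hn]
  | 1, n => by
    rw [SS_zero, SS_zero, EO]
    exact SS_le hq n
  | m + 2, n => by
    have hq0 : 0 < q := by omega
    obtain ⟨x, hx⟩ : ∃ x : ℚ, 1 / (q : ℚ) = x := ⟨_, rfl⟩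
    have hx0 : 0 ≤ x := hx ▸ by positivity
    have hx3 : x ≤ 1 / 3 := hx ▸ one_div_le_one_div_of_le (by norm_num) (by exact_mod_cast hq)
    have hqx : (q : ℚ) * x = 1 := by rw [← hx]; field_simp
    have hp : ∀ k, x ^ k ≤ (1 / 3) ^ k := fun k => pow_le_pow_left₀ hx0 hx3 k
    obtain ⟨hE0, hO0⟩ := EO_nonneg (m + 1)
    have hsubE : ∀ k, k ≤ n →
        (cntO q (m + 1) (2 * (n - k)) : ℚ) ≤ (EO (m + 1)).1 * ((q : ℚ) ^ n * x ^ k) := fun k hk => by
      rw [← hx, ← qpow_sub hq0 hk]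
      exact (cntO_le hq (m + 1) (n - k)).1
    have hsubO : ∀ k, k ≤ n →
        (cntO q (m + 1) (2 * (n - k) + 1) : ℚ) ≤ (EO (m + 1)).2 * ((q : ℚ) ^ n * x ^ k) := fun k hk => by
      rw [← hx, ← qpow_sub hq0 hk]
      exact (cntO_le hq (m + 1) (n - k)).2
    obtain ⟨z, hz⟩ : ∃ z : ℚ, x ^ (m + 1) = z := ⟨_, rfl⟩
    have hz0 : 0 ≤ z := hz ▸ pow_nonneg hx0 _
    have hz1 : z < 1 := hz ▸ pow_lt_one₀ hx0 (by linarith) (Nat.succ_ne_zero m)
    have hgg : 1 / (1 - z) ≤ gg (m + 2) := by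
      rw [gg, show m + 2 - 1 = m + 1 by omega]
      refine one_div_le_one_div_of_le ?_ (by rw [← hz]; linarith [hp (m + 1)])
      have : ((1 : ℚ) / 3) ^ (m + 1) < 1 := pow_lt_one₀ (by norm_num) (by norm_num) (Nat.succ_ne_zero m)
      linarith
    have hggn : 0 ≤ 1 / (1 - z) := div_nonneg zero_le_one (by linarith)
    by_cases hev : Even (m + 2)
    · rw [cntO, cntO, EO, if_pos hev, if_pos hev, if_pos hev]
      have key : ∀ (N : ℕ) (K : ℚ), 0 ≤ K → (∀ e, 2 * e * (m + 2) ≤ N →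
          (cntO q (m + 1) (N - 2 * e * (m + 2)) : ℚ) ≤ K * ((q : ℚ) ^ n * x ^ (e * (m + 2)))) →
          ∑ e ∈ Finset.range (N / (2 * (m + 2)) + 1), (q : ℚ) ^ e * cntO q (m + 1) (N - 2 * e * (m + 2)) ≤
            K * gg (m + 2) * (q : ℚ) ^ n := by
        intro N K hK hsub
        calc _ ≤ ∑ e ∈ Finset.range (N / (2 * (m + 2)) + 1), K * (q : ℚ) ^ n * z ^ e := by
              refine Finset.sum_le_sum fun e he => ?_
              rw [Finset.mem_range, Nat.lt_succ_iff, Nat.le_div_iff_mul_le (by omega)] at he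
              refine (mul_le_mul_of_nonneg_left (hsub e (by rw [mul_assoc, mul_left_comm]; exact he))
                (by positivity)).trans (le_of_eq ?_)
              rw [← hz, ← pow_mul, show e * (m + 2) = (m + 1) * e + e by ring, pow_add]
              calc _ = K * (q : ℚ) ^ n * x ^ ((m + 1) * e) * ((q : ℚ) * x) ^ e := by ring
                _ = _ := by rw [hqx, one_pow, mul_one]
          _ = K * (q : ℚ) ^ n * ∑ e ∈ Finset.range (N / (2 * (m + 2)) + 1), z ^ e := (Finset.mul_sum _ _ _).symm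
          _ ≤ K * (q : ℚ) ^ n * gg (m + 2) :=
              mul_le_mul_of_nonneg_left ((geom_le' hz0 hz1 _).trans hgg) (mul_nonneg hK (by positivity))
          _ = _ := by ring
      push_cast
      refine ⟨key _ _ hE0 fun e he => ?_, key _ _ hO0 fun e he => ?_⟩
      · rw [mul_assoc, ← Nat.mul_sub]
        exact hsubE _ (by rw [mul_assoc] at he; omega)
      · rw [mul_assoc] at he
        rw [mul_assoc, show 2 * n + 1 - 2 * (e * (m + 2)) = 2 * (n - e * (m + 2)) + 1 by omega]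
        exact hsubO _ (by omega)
    · obtain ⟨i, hi⟩ : ∃ i, m + 2 = 2 * i + 1 := Nat.not_even_iff_odd.1 hev
      rw [cntO, cntO, EO, if_neg hev, if_neg hev, if_neg hev, show (m + 2) / 2 = i by omega]
      obtain ⟨e, he⟩ : ∃ e : ℚ, 1 + 6 * (1 / 3) ^ (m + 2) + ((1 / 3) ^ (m + 2)) ^ 2 = e := ⟨_, rfl⟩
      obtain ⟨f, hf⟩ : ∃ f : ℚ, 4 * (1 + (1 / 3) ^ (m + 2)) = f := ⟨_, rfl⟩
      rw [he, hf]
      have he0 : 0 ≤ e := he ▸ by positivity
      have hf0 : 0 ≤ f := hf ▸ by positivity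
      obtain ⟨w, hw⟩ : ∃ w : ℚ, x ^ (m + 2) = w := ⟨_, rfl⟩
      have hw0 : 0 ≤ w := hw ▸ pow_nonneg hx0 _
      have hqw : (q : ℚ) * w = z := by rw [← hw, ← hz, pow_succ, mul_left_comm, hqx, mul_one]
      have hqw1 : (q : ℚ) * w < 1 := hqw ▸ hz1
      have hw3 : w ≤ (1 / 3) ^ (m + 2) := hw ▸ hp _
      have hse : ∀ M, ∑ b ∈ Finset.range M, (SS q (2 * b) : ℚ) * w ^ b ≤ e * gg (m + 2) := fun M => by
        refine (series_even hw0 hqw1 M).trans ?_
        rw [hqw, div_eq_mul_one_div]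
        refine mul_le_mul ?_ hgg hggn he0
        rw [← he]
        have := pow_le_pow_left₀ hw0 hw3 2
        linarith
      have hso : ∀ M, ∑ b ∈ Finset.range M, (SS q (2 * b + 1) : ℚ) * w ^ b ≤ f * gg (m + 2) := fun M => by
        refine (series_odd hw0 hqw1 M).trans ?_
        rw [hqw, div_eq_mul_one_div]
        refine mul_le_mul ?_ hgg hggn hf0
        rw [← hf]
        linarith
      -- both parities of the part
      have key : ∀ (N : ℕ) (K L y : ℚ), 0 ≤ K → 0 ≤ L → 0 ≤ y →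
          (∀ b, 2 * b * (m + 2) ≤ N →
            (cntO q (m + 1) (N - 2 * b * (m + 2)) : ℚ) ≤ K * ((q : ℚ) ^ n * w ^ b)) →
          (∀ b, (2 * b + 1) * (m + 2) ≤ N →
            (cntO q (m + 1) (N - (2 * b + 1) * (m + 2)) : ℚ) ≤ L * ((q : ℚ) ^ n * (w ^ b * y))) →
          ∑ a ∈ Finset.range (N / (m + 2) + 1), (SS q a : ℚ) * cntO q (m + 1) (N - a * (m + 2)) ≤
            (e * K + f * y * L) * gg (m + 2) * (q : ℚ) ^ n := by
        intro N K L y hK hL hy hA hB
        obtain ⟨M, hM⟩ : ∃ M, N / (m + 2) + 1 = M := ⟨_, rfl⟩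
        rw [hM]
        have hle : ∀ a, a < M → a * (m + 2) ≤ N := fun a ha =>
          (Nat.le_div_iff_mul_le (by omega)).1 (by omega)
        let T : ℕ → ℚ := fun a => if a < M then (SS q a : ℚ) * cntO q (m + 1) (N - a * (m + 2)) else 0
        calc ∑ a ∈ Finset.range M, (SS q a : ℚ) * cntO q (m + 1) (N - a * (m + 2))
            = ∑ a ∈ Finset.range M, T a :=
              Finset.sum_congr rfl fun a ha => (if_pos (Finset.mem_range.1 ha)).symm
          _ ≤ ∑ a ∈ Finset.range (2 * M), T a := by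
              refine Finset.sum_le_sum_of_subset_of_nonneg (Finset.range_mono (by omega)) fun a _ _ => ?_
              simp only [T]
              split_ifs <;> positivity
          _ = (∑ b ∈ Finset.range M, T (2 * b)) + ∑ b ∈ Finset.range M, T (2 * b + 1) := sum_split T M
          _ ≤ (∑ b ∈ Finset.range M, K * (q : ℚ) ^ n * ((SS q (2 * b) : ℚ) * w ^ b)) +
              ∑ b ∈ Finset.range M, L * y * (q : ℚ) ^ n * ((SS q (2 * b + 1) : ℚ) * w ^ b) := by
              refine add_le_add (Finset.sum_le_sum fun b _ => ?_) (Finset.sum_le_sum fun b _ => ?_)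
              · simp only [T]
                split_ifs with hlt
                · exact (mul_le_mul_of_nonneg_left (hA b (hle _ hlt)) (by positivity)).trans
                    (le_of_eq (by ring))
                · positivity
              · simp only [T]
                split_ifs with hlt
                · exact (mul_le_mul_of_nonneg_left (hB b (hle _ hlt)) (by positivity)).trans
                    (le_of_eq (by ring))
                · positivity
          _ ≤ K * (q : ℚ) ^ n * (e * gg (m + 2)) + L * y * (q : ℚ) ^ n * (f * gg (m + 2)) := by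
              rw [← Finset.mul_sum, ← Finset.mul_sum]
              exact add_le_add (mul_le_mul_of_nonneg_left (hse M) (by positivity))
                (mul_le_mul_of_nonneg_left (hso M) (by positivity))
          _ = _ := by ring
      push_cast
      refine ⟨(key _ _ _ (x ^ (i + 1)) hE0 hO0 (pow_nonneg hx0 _) (fun b hb => ?_) fun b hb => ?_).trans ?_,
        (key _ _ _ (x ^ i) hO0 hE0 (pow_nonneg hx0 _) (fun b hb => ?_) fun b hb => ?_).trans ?_⟩
      · rw [mul_assoc] at hb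
        rw [mul_assoc, ← Nat.mul_sub, ← hw, ← pow_mul, mul_comm (m + 2)]
        exact hsubE _ (by omega)
      · have e1 : (2 * b + 1) * (m + 2) = 2 * (b * (m + 2)) + 2 * i + 1 := by rw [hi]; ring
        rw [e1] at hb
        rw [e1, show 2 * n - (2 * (b * (m + 2)) + 2 * i + 1) =
          2 * (n - (b * (m + 2) + (i + 1))) + 1 by omega, ← hw, ← pow_mul, mul_comm (m + 2), ← pow_add]
        exact hsubO _ (by omega)
      · exact mul_le_mul_of_nonneg_right (mul_le_mul_of_nonneg_right (add_le_add le_rfl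
          (mul_le_mul_of_nonneg_right (mul_le_mul_of_nonneg_left (hp _) hf0) hO0))
          (zero_le_one.trans (gg_ge m))) (by positivity)
      · rw [mul_assoc] at hb
        rw [mul_assoc, show 2 * n + 1 - 2 * (b * (m + 2)) = 2 * (n - b * (m + 2)) + 1 by omega, ← hw,
          ← pow_mul, mul_comm (m + 2)]
        exact hsubO _ (by omega)
      · have e1 : (2 * b + 1) * (m + 2) = 2 * (b * (m + 2)) + 2 * i + 1 := by rw [hi]; ring
        rw [e1] at hb
        rw [e1, show 2 * n + 1 - (2 * (b * (m + 2)) + 2 * i + 1) =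
          2 * (n - (b * (m + 2) + i)) by omega, ← hw, ← pow_mul, mul_comm (m + 2), ← pow_add]
        exact hsubE _ (by omega)
      · exact mul_le_mul_of_nonneg_right (mul_le_mul_of_nonneg_right (add_le_add le_rfl
          (mul_le_mul_of_nonneg_right (mul_le_mul_of_nonneg_left (hp _) hf0) hE0))
          (zero_le_one.trans (gg_ge m))) (by positivity)

theorem cntU_le {q : ℕ} (hq : 3 ≤ q) : ∀ m n, (cntU q m n : ℚ) ≤ KU m * (q : ℚ) ^ n
  | 0, n => by by_cases hn : n = 0 <;> simp [cntU, KU, hn]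
  | 1, n => by
    have hrec : cntU q 1 n = ∑ e ∈ Finset.range (n + 1), q ^ e * cntU q 0 (n - e) := by simp [cntU]
    rw [hrec, Finset.sum_eq_single n]
    · rw [Nat.sub_self, show cntU q 0 0 = 1 from rfl, mul_one, KU, one_mul]
      push_cast
      exact le_rfl
    · intro a ha hne
      have : n - a ≠ 0 := by rw [Finset.mem_range] at ha; omega
      simp [cntU, this]
    · simp
  | m + 2, n => by
    have hq0 : 0 < q := by omega
    obtain ⟨x, hx⟩ : ∃ x : ℚ, 1 / (q : ℚ) = x := ⟨_, rfl⟩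
    have hx0 : 0 ≤ x := hx ▸ by positivity
    have hx3 : x ≤ 1 / 3 := hx ▸ one_div_le_one_div_of_le (by norm_num) (by exact_mod_cast hq)
    have hqx : (q : ℚ) * x = 1 := by rw [← hx]; field_simp
    have hz1 : x ^ (m + 1) < 1 := pow_lt_one₀ hx0 (by linarith) (Nat.succ_ne_zero m)
    have hgg : 1 / (1 - x ^ (m + 1)) ≤ gg (m + 2) := by
      rw [gg, show m + 2 - 1 = m + 1 by omega]
      have h3 : ((1 : ℚ) / 3) ^ (m + 1) < 1 := pow_lt_one₀ (by norm_num) (by norm_num) (Nat.succ_ne_zero m)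
      exact one_div_le_one_div_of_le (by linarith) (by linarith [pow_le_pow_left₀ hx0 hx3 (m + 1)])
    rw [cntU, KU]
    push_cast
    calc ∑ e ∈ Finset.range (n / (m + 2) + 1), (q : ℚ) ^ e * cntU q (m + 1) (n - e * (m + 2))
        ≤ ∑ e ∈ Finset.range (n / (m + 2) + 1), KU (m + 1) * (q : ℚ) ^ n * (x ^ (m + 1)) ^ e := by
          refine Finset.sum_le_sum fun e he => ?_
          rw [Finset.mem_range, Nat.lt_succ_iff, Nat.le_div_iff_mul_le (by omega)] at he
          have h := cntU_le hq (m + 1) (n - e * (m + 2))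
          rw [qpow_sub hq0 he, hx] at h
          refine (mul_le_mul_of_nonneg_left h (by positivity)).trans (le_of_eq ?_)
          rw [← pow_mul, show e * (m + 2) = (m + 1) * e + e by ring, pow_add]
          calc _ = KU (m + 1) * (q : ℚ) ^ n * x ^ ((m + 1) * e) * ((q : ℚ) * x) ^ e := by ring
            _ = _ := by rw [hqx, one_pow, mul_one]
      _ = KU (m + 1) * (q : ℚ) ^ n * ∑ e ∈ Finset.range (n / (m + 2) + 1), (x ^ (m + 1)) ^ e :=
          (Finset.mul_sum _ _ _).symm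
      _ ≤ KU (m + 1) * (q : ℚ) ^ n * gg (m + 2) :=
          mul_le_mul_of_nonneg_left ((geom_le' (pow_nonneg hx0 _) hz1 _).trans hgg)
            (mul_nonneg (KU_nonneg _) (by positivity))
      _ = _ := by ring

/-- Twice the classes of one type are at most this. -/
theorem total_bound {q : ℕ} (hq : 3 ≤ q) (m n : ℕ) :
    cntO q m (2 * n) + cntU q m n ≤ 19 * q ^ n := by
  have h1 := (cntO_le hq m n).1.trans (mul_le_mul_of_nonneg_right (EO_le m) (by positivity))
  have h2 := (cntU_le hq m n).trans (mul_le_mul_of_nonneg_right (KU_le m) (by positivity))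
  have h3 : (0 : ℚ) ≤ (q : ℚ) ^ n := by positivity
  have h4 : ((cntO q m (2 * n) + cntU q m n : ℕ) : ℚ) ≤ ((19 * q ^ n : ℕ) : ℚ) := by
    push_cast
    linarith
  exact_mod_cast h4

end Cfsg.Agent.FormCount
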