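import Cfsg.Agent.Lib.Classical.FormCount.SpMain

/-!
Weighted counting of the codes of orthogonal matrices.
-/

set_option autoImplicit false
set_option linter.style.haveILetI false
set_option linter.unusedSectionVars false

namespace Cfsg.Agent.FormCount

open Polynomial Cfsg.Agent.GLCount Cfsg.Agent.SLWeight

/-- The weighted coefficient of `u ^ N`. -/
def cntO (q : ℕ) : ℕ → ℕ → ℕ
  | 0, N => if N = 0 then 1 else 0
  | m + 1, N => if Even (m + 1) then
      ∑ e ∈ Finset.range (N / (2 * (m + 1)) + 1), q ^ e * cntO q m (N - 2 * e * (m + 1))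
    else ∑ a ∈ Finset.range (N / (m + 1) + 1), SS q a * cntO q m (N - a * (m + 1))

/-- The codes without signs. -/
def cntU (q : ℕ) : ℕ → ℕ → ℕ
  | 0, n => if n = 0 then 1 else 0
  | m + 1, n => ∑ e ∈ Finset.range (n / (m + 1) + 1), q ^ e * cntU q m (n - e * (m + 1))

variable {F : Type*} [Field F]

open Classical in
/-- The exponent of the weight. -/
noncomputable def wexpO : List F[X] → ℕ
  | [] => 0
  | p :: l => (if Even (l.length + 1) then 0 else sroots p) + wexpO l

/-- The conditions on the codes. -/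
def GoodO : List F[X] → Prop
  | [] => True
  | p :: l => GUCount.dual (RingEquiv.refl F) p = p ∧
      (Even (l.length + 1) → Even p.natDegree ∧ p.coeff 0 = 1) ∧ GoodO l

variable [Fintype F] [DecidableEq F]

open Classical in
/-- The admissible codes. -/
noncomputable def seqsO (m n : ℕ) : Finset (List F[X]) := (seqs F m n).filter GoodO

open Classical in
/-- The self-dual polynomials of even degree and constant term one. -/
noncomputable def evn (a : ℕ) : Finset F[X] :=
  (sdp (F := F) a).filter fun p => Even p.natDegree ∧ p.coeff 0 = 1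

theorem sum_evn (h2 : (2 : F) ≠ 0) (m N : ℕ) (T : ℕ → ℕ) :
    ∑ a ∈ Finset.range (N / (m + 1) + 1), (evn (F := F) a).card * T (N - a * (m + 1)) ≤
      ∑ e ∈ Finset.range (N / (2 * (m + 1)) + 1),
        Fintype.card F ^ e * T (N - 2 * e * (m + 1)) := by
  classical
  calc ∑ a ∈ Finset.range (N / (m + 1) + 1), (evn (F := F) a).card * T (N - a * (m + 1))
      ≤ ∑ a ∈ (Finset.range (N / (2 * (m + 1)) + 1)).image (2 * ·),
          (evn (F := F) a).card * T (N - a * (m + 1)) := by
        refine Finset.sum_le_sum_of_ne_zero fun a ha hne => ?_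
        obtain ⟨p, hp⟩ : (evn (F := F) a).Nonempty :=
          Finset.card_pos.1 (Nat.pos_of_ne_zero fun h => hne (by rw [h, zero_mul]))
        obtain ⟨hp1, hp2, -⟩ := Finset.mem_filter.1 hp
        rw [(mem_sdp.1 hp1).2.1] at hp2
        obtain ⟨e, rfl⟩ := hp2
        rw [Finset.mem_range, Nat.lt_succ_iff, Nat.le_div_iff_mul_le (by omega)] at ha
        refine Finset.mem_image.2 ⟨e, ?_, two_mul e⟩
        rw [Finset.mem_range, Nat.lt_succ_iff, Nat.le_div_iff_mul_le (by omega)]
        have : e * (2 * (m + 1)) = (e + e) * (m + 1) := by ring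
        omega
    _ = ∑ e ∈ Finset.range (N / (2 * (m + 1)) + 1),
          (evn (F := F) (2 * e)).card * T (N - 2 * e * (m + 1)) :=
        Finset.sum_image fun a _ b _ h => by simpa using h
    _ ≤ _ := Finset.sum_le_sum fun e _ => Nat.mul_le_mul_right _ (count_even_one h2 e _ fun p hp => by
        obtain ⟨hp1, -, hp3⟩ := Finset.mem_filter.1 hp
        exact ⟨mem_sdp.1 hp1, hp3⟩)

theorem seqsO_succ (m N : ℕ) : seqsO (F := F) (m + 1) N ⊆
    (Finset.range (N / (m + 1) + 1)).biUnion fun a =>
      (((polys F a).filter fun p => GUCount.dual (RingEquiv.refl F) p = p ∧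
        (Even (m + 1) → Even p.natDegree ∧ p.coeff 0 = 1)) ×ˢ seqsO (F := F) m (N - a * (m + 1))).image
        fun x => x.1 :: x.2 := by
  classical
  intro l hl
  rw [seqsO, Finset.mem_filter, seqs, Finset.mem_biUnion] at hl
  obtain ⟨⟨a, ha, hl⟩, hgood⟩ := hl
  obtain ⟨⟨p, l'⟩, hx, rfl⟩ := Finset.mem_image.1 hl
  rw [Finset.mem_product] at hx
  obtain ⟨hg1, hg2, hg3⟩ := hgood
  rw [length_seqs m _ hx.2] at hg2
  refine Finset.mem_biUnion.2 ⟨a, ha, Finset.mem_image.2 ⟨(p, l'), Finset.mem_product.2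
    ⟨Finset.mem_filter.2 ⟨hx.1, hg1, hg2⟩, Finset.mem_filter.2 ⟨hx.2, hg3⟩⟩, rfl⟩⟩

theorem weightO_le (h2 : (2 : F) ≠ 0) : ∀ m N,
    ∑ l ∈ seqsO (F := F) m N, 2 ^ wexpO l ≤ cntO (Fintype.card F) m N
  | 0, N => by
    classical
    by_cases hn : N = 0
    · subst hn
      simp [seqsO, seqs, GoodO, wexpO, cntO, Finset.filter_singleton]
    · simp [seqsO, seqs, cntO, hn]
  | m + 1, N => by
    classical
    refine (Finset.sum_le_sum_of_subset (seqsO_succ m N)).trans ((sum_biUnion_le' _ _ _).trans ?_)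
    have hlen : ∀ n, ∀ l ∈ seqsO (F := F) m n, l.length = m := fun n l hl =>
      length_seqs m _ (Finset.mem_filter.1 hl).1
    refine le_trans (Finset.sum_le_sum fun a _ => (Finset.sum_image_le_of_nonneg fun _ _ => Nat.zero_le _).trans
      (le_of_eq (Finset.sum_product _ _ _))) ?_
    rw [cntO]
    by_cases hev : Even (m + 1)
    · rw [if_pos hev]
      refine le_trans (Finset.sum_le_sum fun a _ => ?_) (sum_evn h2 m N fun n => cntO (Fintype.card F) m n)
      refine le_trans (Finset.sum_le_sum (g := fun _ => cntO (Fintype.card F) m (N - a * (m + 1)))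
        fun p _ => ?_) ?_
      · refine le_trans (le_of_eq (Finset.sum_congr rfl fun l hl => ?_)) (weightO_le h2 m _)
        rw [wexpO, hlen _ l hl, if_pos hev, zero_add]
      · rw [Finset.sum_const, smul_eq_mul]
        refine Nat.mul_le_mul_right _ (Finset.card_le_card fun p hp => ?_)
        obtain ⟨hp1, hp2, hp3⟩ := Finset.mem_filter.1 hp
        exact Finset.mem_filter.2 ⟨Finset.mem_filter.2 ⟨hp1, hp2⟩, hp3 hev⟩
    · rw [if_neg hev]
      refine Finset.sum_le_sum fun a _ => ?_
      refine le_trans (Finset.sum_le_sum (g := fun p => 2 ^ sroots p * cntO (Fintype.card F) m (N - a * (m + 1)))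
        fun p _ => ?_) ?_
      · refine le_trans (le_of_eq ?_) (Nat.mul_le_mul_left _ (weightO_le h2 m _))
        rw [Finset.mul_sum]
        refine Finset.sum_congr rfl fun l hl => ?_
        rw [wexpO, hlen _ l hl, if_neg hev, pow_add]
      · rw [← Finset.sum_mul]
        refine Nat.mul_le_mul_right _ ((Finset.sum_le_sum_of_subset fun p hp => ?_).trans (sum_sdp h2 a))
        obtain ⟨hp1, hp2, -⟩ := Finset.mem_filter.1 hp
        exact Finset.mem_filter.2 ⟨hp1, hp2⟩

theorem zeroO_le (h2 : (2 : F) ≠ 0) : ∀ m n,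
    ((seqsO (F := F) m (2 * n)).filter fun l => wexpO l = 0).card ≤ cntU (Fintype.card F) m n
  | 0, n => by
    classical
    refine (Finset.card_filter_le _ _).trans ((Finset.card_filter_le _ _).trans ?_)
    by_cases hn : n = 0
    · subst hn
      simp [seqs, cntU]
    · simp [seqs, cntU, hn]
  | m + 1, n => by
    classical
    rw [cntU]
    let T : ℕ → ℕ := fun k => ((seqsO (F := F) m k).filter fun l => wexpO l = 0).card
    have hsub : (seqsO (F := F) (m + 1) (2 * n)).filter (fun l => wexpO l = 0) ⊆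
        (Finset.range (2 * n / (m + 1) + 1)).biUnion fun a =>
          (evn (F := F) a ×ˢ (seqsO (F := F) m (2 * n - a * (m + 1))).filter fun l => wexpO l = 0).image
            fun x => x.1 :: x.2 := by
      intro l hl
      rw [Finset.mem_filter] at hl
      obtain ⟨hl, hw⟩ := hl
      obtain ⟨a, ha, hl⟩ := Finset.mem_biUnion.1 (seqsO_succ m (2 * n) hl)
      obtain ⟨⟨p, l'⟩, hx, rfl⟩ := Finset.mem_image.1 hl
      rw [Finset.mem_product, Finset.mem_filter] at hx
      obtain ⟨⟨hp1, hp2, hp3⟩, hl'⟩ := hx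
      rw [wexpO, length_seqs m _ (Finset.mem_filter.1 hl').1] at hw
      refine Finset.mem_biUnion.2 ⟨a, ha, Finset.mem_image.2 ⟨(p, l'), Finset.mem_product.2
        ⟨Finset.mem_filter.2 ⟨Finset.mem_filter.2 ⟨hp1, hp2⟩, ?_⟩,
          Finset.mem_filter.2 ⟨hl', (Nat.add_eq_zero_iff.1 hw).2⟩⟩, rfl⟩⟩
      by_cases hev : Even (m + 1)
      · exact hp3 hev
      · rw [if_neg hev, Nat.add_eq_zero_iff] at hw
        obtain ⟨hw, -⟩ := hw
        simp only [sroots, Finset.card_eq_zero, Finset.filter_eq_empty_iff, Finset.mem_insert,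
          Finset.mem_singleton, forall_eq_or_imp, forall_eq] at hw
        exact sd_even h2 hp2 hw.1 hw.2
    refine (Finset.card_le_card hsub).trans (Finset.card_biUnion_le.trans ?_)
    refine le_trans (Finset.sum_le_sum (g := fun a => (evn (F := F) a).card * T (2 * n - a * (m + 1)))
      fun a _ => Finset.card_image_le.trans (le_of_eq (Finset.card_product _ _))) ?_
    refine (sum_evn h2 m (2 * n) T).trans (le_of_eq_of_le ?_ (Finset.sum_le_sum fun e _ =>
      Nat.mul_le_mul_left _ (zeroO_le h2 m (n - e * (m + 1)))))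
    rw [Nat.mul_div_mul_left _ _ (by norm_num : 0 < 2)]
    refine Finset.sum_congr rfl fun e _ => ?_
    rw [mul_assoc, ← Nat.mul_sub]

end Cfsg.Agent.FormCount
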