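import Cfsg.Agent.Lib.Classical.FormCount.OUpper

/-!
Characteristic polynomials realised in an orthogonal group, and the lower bound for the classes.
-/

set_option autoImplicit false
set_option linter.style.haveILetI false
set_option linter.unusedSectionVars false

namespace Cfsg.Agent.FormCount

open Polynomial Module Matrix
open LinearMap (BilinForm)

universe u

variable {F : Type u} [Field F] [Fintype F] [DecidableEq F]

theorem dchar_basis' {A : Type u} [AddCommGroup A] [Module F A] [Module.Finite F A] {κ : Type*} [Fintype κ]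
    [DecidableEq κ] (b : Basis κ F A) (β : BilinForm F A) :
    dchar β = quadraticChar F (LinearMap.BilinForm.toMatrix b β).det := by
  rw [dchar_basis b β]
  congr!

/-- The palindromic polynomials of degree `2 n`. -/
def Pal (n : ℕ) (f : F[X]) : Prop :=
  f.Monic ∧ f.natDegree = 2 * n ∧ f.coeff 0 = 1 ∧ ∀ i ≤ 2 * n, f.coeff (2 * n - i) = f.coeff i

theorem pal_dual {n : ℕ} {f : F[X]} (h : Pal n f) : GUCount.dual (RingEquiv.refl F) f = f := by
  obtain ⟨hm, hd, h0, hs⟩ := h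
  have h0' : f.coeff 0 ≠ 0 := by rw [h0]; exact one_ne_zero
  ext i
  rcases le_or_gt i f.natDegree with hi | hi
  · rw [GUCount.dual_coeff _ _ hi]
    simp only [RingEquiv.refl_apply, h0, inv_one, one_mul]
    rw [hd, hs i (hd ▸ hi)]
  · rw [coeff_eq_zero_of_natDegree_lt hi,
      coeff_eq_zero_of_natDegree_lt (by rwa [GUCount.natDegree_dual h0'])]

theorem pal_of_sdp {n : ℕ} {f : F[X]} (h : SDP (2 * n) f) (h0 : f.coeff 0 = 1) : Pal n f := by
  obtain ⟨hm, hd, -, hdual⟩ := h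
  refine ⟨hm, hd, h0, fun i hi => ?_⟩
  have := GUCount.SD_of_dual hm hdual i (hd ▸ hi)
  rwa [hd, h0, one_mul] at this

theorem pal_root {n : ℕ} {f : F[X]} (h2 : (2 : F) ≠ 0) (h : Pal (n + 1) f) {s : F} (hs : s * s = 1)
    (hr : f.eval s = 0) : ∃ r, Pal n r ∧ f = (X - C s) ^ 2 * r := by
  classical
  have hsdp : SDP (2 * n + 1 + 1) f := ⟨h.1, h.2.1, by rw [h.2.2.1]; exact one_ne_zero, pal_dual h⟩
  obtain ⟨-, h3⟩ := card_sdp_root hs ({f} : Finset F[X]) fun p hp => by
    rw [Finset.mem_singleton] at hp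
    rw [hp]
    exact ⟨hsdp, hr⟩
  obtain ⟨hr1, p, hp, hpr⟩ := h3 (f /ₘ (X - C s)) (by simp)
  rw [Finset.mem_singleton] at hp
  rw [hp] at hpr
  obtain ⟨r₁, hr₁⟩ : ∃ r₁, f /ₘ (X - C s) = r₁ := ⟨_, rfl⟩
  rw [hr₁] at hr1 hpr
  have hc : r₁.coeff 0 = -s := by
    have h1 := h.2.2.1
    rw [hpr, mul_coeff_zero, coeff_sub, coeff_X_zero, coeff_C_zero, zero_sub] at h1
    linear_combination (-s) * h1 - r₁.coeff 0 * hs
  have hev : r₁.eval s = 0 := by
    have h1 := eval_dual (p := r₁) hs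
    rw [hr1.2.2.2, hr1.2.1, pow_succ, pow_mul, sq, hs, one_pow, one_mul, hc,
      inv_eq_of_mul_eq_one_right (show -s * -s = 1 by rw [neg_mul_neg, hs])] at h1
    have h4 : r₁.eval s * (2 * s) = 0 := by linear_combination h1
    exact (mul_eq_zero.1 h4).resolve_right (mul_ne_zero h2 fun e => by simp [e] at hs)
  obtain ⟨-, h5⟩ := card_sdp_root hs ({r₁} : Finset F[X]) fun p hp => by
    rw [Finset.mem_singleton] at hp
    rw [hp]
    exact ⟨hr1, hev⟩
  obtain ⟨hr2, p', hp', hpr'⟩ := h5 (r₁ /ₘ (X - C s)) (by simp)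
  rw [Finset.mem_singleton] at hp'
  rw [hp'] at hpr'
  refine ⟨_, pal_of_sdp hr2 ?_, by rw [hpr, sq, mul_assoc, ← hpr']⟩
  rw [hpr', mul_coeff_zero, coeff_sub, coeff_X_zero, coeff_C_zero, zero_sub] at hc
  exact mul_left_cancel₀ (neg_ne_zero.2 fun e => by simp [e] at hs) (hc.trans (mul_one _).symm)

/-- A form with an isometry gives a system. -/
theorem exists_sys_of {V : Type u} [AddCommGroup V] [Module F V] [Module.Finite F V] {d : ℕ}
    (hV : finrank F V = d) (β : BilinForm F V) (g : V ≃ₗ[F] V) (hg : ∀ x y, β (g x) (g y) = β x y)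
    (hsym : ∀ x y, β y x = β x y) (hnd : ∀ x, (∀ y, β x y = 0) → x = 0) :
    ∃ S : Sys F 1 d, S.g.toLinearMap.charpoly = g.toLinearMap.charpoly ∧ S.dc = dchar β := by
  let E : (Fin d → F) ≃ₗ[F] V := LinearEquiv.ofFinrankEq _ _ (by rw [Module.finrank_fin_fun, hV])
  let S : Sys F 1 d :=
    { B := LinearMap.BilinForm.comp β E.toLinearMap E.toLinearMap
      g := (E.trans g).trans E.symm
      hg := fun x y => by
        show β (E (E.symm (g (E x)))) (E (E.symm (g (E y)))) = β (E x) (E y)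
        rw [E.apply_symm_apply, E.apply_symm_apply, hg]
      hsym := fun x y => by rw [one_mul]; exact hsym _ _
      hnd := fun x hx => E.injective (by
        rw [map_zero]
        refine hnd _ fun v => ?_
        obtain ⟨y, rfl⟩ := E.surjective v
        exact hx y) }
  refine ⟨S, ?_, dchar_comp E β⟩
  rw [← LinearEquiv.charpoly_conj E.symm g.toLinearMap]
  rfl

theorem qchar_surj (h2 : (2 : F) ≠ 0) {δ : ℤ} (hδ : δ * δ = 1) :
    ∃ c : F, c ≠ 0 ∧ quadraticChar F c = δ := by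
  rcases mul_self_eq_one_iff.1 hδ with h | h
  · exact ⟨1, one_ne_zero, by rw [h, map_one]⟩
  · obtain ⟨c, hc⟩ := quadraticChar_exists_neg_one (F := F) (fun h' => h2 (by
      have h6 := ringChar.of_eq h'
      exact_mod_cast CharP.cast_eq_zero F 2))
    exact ⟨c, fun e => by simp [e] at hc, by rw [h, hc]⟩

/-- Polynomials without the roots `±1` are realised with the forced discriminant. -/
theorem exists_sys_gen {n : ℕ} {f : F[X]} (hf : Pal n f) (h1 : f.eval 1 ≠ 0) (h3 : f.eval (-1) ≠ 0) :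
    ∃ S : Sys F 1 (2 * n), S.g.toLinearMap.charpoly = f ∧
      S.dc = quadraticChar F (f.eval 1 * f.eval (-1)) := by
  obtain ⟨g, hg⟩ := SympClasses.exists_charpoly_eq hf.1 hf.2.1 hf.2.2.1 hf.2.2.2
  obtain ⟨A, hA⟩ : ∃ A : Matrix (Fin n ⊕ Fin n) (Fin n ⊕ Fin n) F, g.1 = A := ⟨_, rfl⟩
  obtain ⟨A', hA'⟩ : ∃ A' : Matrix (Fin n ⊕ Fin n) (Fin n ⊕ Fin n) F, (g⁻¹).1 = A' := ⟨_, rfl⟩
  have hAA : A * A' = 1 := by rw [← hA, ← hA', ← Submonoid.coe_mul, mul_inv_cancel]; rfl
  have hA'A : A' * A = 1 := mul_eq_one_comm.1 hAA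
  obtain ⟨J, hJ⟩ : ∃ J, Matrix.J (Fin n) F = J := ⟨_, rfl⟩
  have hJT : Jᵀ = -J := hJ ▸ Matrix.J_transpose (Fin n) F
  have hmem : Aᵀ * J * A = J := by rw [← hA, ← hJ]; exact SymplecticGroup.mem_iff'.1 g.2
  have hAJ : Aᵀ * J = J * A' := by
    calc Aᵀ * J = Aᵀ * J * (A * A') := by rw [hAA, mul_one]
      _ = Aᵀ * J * A * A' := by noncomm_ring
      _ = J * A' := by rw [hmem]
  obtain ⟨K, hK⟩ : ∃ K, J * (A - A') = K := ⟨_, rfl⟩
  have hKs : Kᵀ = K := by
    have e1 : (J * A)ᵀ = -(J * A') := by rw [Matrix.transpose_mul, hJT, mul_neg, hAJ]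
    have e2 : (J * A')ᵀ = -(J * A) := by
      conv_lhs => rw [← neg_neg (J * A'), ← e1]
      rw [Matrix.transpose_neg, Matrix.transpose_transpose]
    rw [← hK, mul_sub, Matrix.transpose_sub, e1, e2]
    abel
  have hinv : Aᵀ * K * A = K := by
    rw [← hK, ← mul_assoc, hAJ, mul_assoc, mul_assoc, sub_mul, hA'A, mul_sub]
    rw [mul_sub, ← mul_assoc A' A, hA'A, one_mul, mul_one, mul_sub]
  have hdet1 : A.det = 1 := hA ▸ SymplecticGroup.det_eq_one g.2
  have hdetJ : J.det = 1 := hJ ▸ SymplecticGroup.det_eq_one (SymplecticGroup.J_mem (Fin n) F)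
  have hdetK : K.det = f.eval 1 * f.eval (-1) := by
    have e1 : f.eval 1 = ((1 : Matrix (Fin n ⊕ Fin n) (Fin n ⊕ Fin n) F) - A).det := by
      rw [← hg, hA, Matrix.eval_charpoly, map_one]
    have e2 : f.eval (-1) = (-(1 : Matrix (Fin n ⊕ Fin n) (Fin n ⊕ Fin n) F) - A).det := by
      rw [← hg, hA, Matrix.eval_charpoly, map_neg, map_one]
    have e3 : A * (A - A') = (1 - A) * (-1 - A) := by rw [mul_sub, hAA]; noncomm_ring
    have e4 := congrArg Matrix.det e3
    rw [Matrix.det_mul, Matrix.det_mul, hdet1, one_mul, ← e1, ← e2] at e4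
    rw [← hK, Matrix.det_mul, hdetJ, one_mul, e4]
  obtain ⟨β, hβ⟩ : ∃ β, Matrix.toBilin' K = β := ⟨_, rfl⟩
  have hβa : ∀ x y, β x y = x ⬝ᵥ (K *ᵥ y) := fun x y => by rw [← hβ, Matrix.toBilin'_apply']
  let E : (Fin n ⊕ Fin n → F) ≃ₗ[F] (Fin n ⊕ Fin n → F) := ClassicalSp.toEquiv g
  have hEa : ∀ x, E x = A *ᵥ x := fun x => by rw [← hA]; rfl
  obtain ⟨S, hS1, hS2⟩ := exists_sys_of (d := 2 * n) (by simp [two_mul]) β E
    (fun x y => by
      rw [hβa, hβa, hEa, hEa, ← Matrix.vecMul_transpose, ← Matrix.dotProduct_mulVec,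
        Matrix.mulVec_mulVec, Matrix.mulVec_mulVec, hinv])
    (fun x y => by
      rw [hβa, hβa, Matrix.dotProduct_mulVec, dotProduct_comm, ← Matrix.mulVec_transpose, hKs])
    (fun x hx => ((LinearMap.BilinForm.nondegenerate_toBilin'_iff_det_ne_zero).2
      (show K.det ≠ 0 by rw [hdetK]; exact mul_ne_zero h1 h3)).1 x fun y => by rw [hβ]; exact hx y)
  refine ⟨S, ?_, ?_⟩
  · rw [hS1, ← hg, hA, ← Matrix.charpoly_toLin' A]
    congr 1
    exact LinearMap.ext fun x => by rw [LinearEquiv.coe_coe, hEa, Matrix.toLin'_apply]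
  · rw [hS2, dchar_basis' (Pi.basisFun F _), ← hdetK, LinearMap.BilinForm.toMatrix_basisFun, ← hβ,
      LinearMap.BilinForm.toMatrix'_toBilin']

/-- With a root `±1` both discriminants occur. -/
theorem exists_sys (h2 : (2 : F) ≠ 0) : ∀ (n : ℕ) (f : F[X]), Pal n f → ∀ δ : ℤ, δ * δ = 1 →
    (f.eval 1 * f.eval (-1) = 0 ∨ quadraticChar F (f.eval 1 * f.eval (-1)) = δ) →
    ∃ S : Sys F 1 (2 * n), S.g.toLinearMap.charpoly = f ∧ S.dc = δ
  | 0, f, hf, δ, _, h => by
    have h1 : f = 1 := hf.1.natDegree_eq_zero.1 (by rw [hf.2.1])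
    subst h1
    rw [eval_one, eval_one, mul_one] at h
    obtain ⟨S, hS1, hS2⟩ := exists_sys_gen (n := 0) hf (by simp) (by simp)
    refine ⟨S, hS1, ?_⟩
    rw [hS2, eval_one, eval_one, mul_one]
    exact h.resolve_left one_ne_zero
  | n + 1, f, hf, δ, hδ, h => by
    by_cases hz : f.eval 1 * f.eval (-1) = 0
    · obtain ⟨s, hs, hr⟩ : ∃ s : F, s * s = 1 ∧ f.eval s = 0 := by
        rcases mul_eq_zero.1 hz with h' | h'
        · exact ⟨1, one_mul 1, h'⟩
        · exact ⟨-1, by ring, h'⟩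
      obtain ⟨r, hr1, hr2⟩ := pal_root h2 hf hs hr
      obtain ⟨η, hη, hη'⟩ : ∃ η : ℤ, η * η = 1 ∧
          (r.eval 1 * r.eval (-1) = 0 ∨ quadraticChar F (r.eval 1 * r.eval (-1)) = η) := by
        by_cases hz' : r.eval 1 * r.eval (-1) = 0
        · exact ⟨1, one_mul 1, Or.inl hz'⟩
        · exact ⟨_, by rw [← sq, quadraticChar_sq_one hz'], Or.inr rfl⟩
      obtain ⟨R, hR1, hR2⟩ := exists_sys h2 n r hr1 η hη hη'
      obtain ⟨c, hc0, hc⟩ := qchar_surj h2 (show η * δ * (η * δ) = 1 by rw [mul_mul_mul_comm, hη, hδ, one_mul])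
      obtain ⟨β, hβ⟩ : ∃ β, Matrix.toBilin' (Matrix.diagonal ![1, c]) = β := ⟨_, rfl⟩
      have hβa : ∀ x y, β x y = x ⬝ᵥ (Matrix.diagonal ![1, c] *ᵥ y) := fun x y => by
        rw [← hβ, Matrix.toBilin'_apply']
      have hs0 : s ≠ 0 := fun e => by simp [e] at hs
      let E : ((Fin 2 → F) × (Fin (2 * n) → F)) ≃ₗ[F] ((Fin 2 → F) × (Fin (2 * n) → F)) :=
        (LinearEquiv.smulOfUnit (Units.mk0 s hs0)).prodCongr R.g
      obtain ⟨S, hS1, hS2⟩ := exists_sys_of (d := 2 * (n + 1))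
        (by rw [Module.finrank_prod, Module.finrank_fin_fun, Module.finrank_fin_fun]; omega)
        (pairForm β R.B) E
        (fun x y => by
          show β (s • x.1) (s • y.1) + R.B (R.g x.2) (R.g y.2) = β x.1 y.1 + R.B x.2 y.2
          rw [R.hg, map_smul, map_smul, LinearMap.smul_apply, smul_smul, hs, one_smul])
        (fun x y => by
          show β y.1 x.1 + R.B y.2 x.2 = β x.1 y.1 + R.B x.2 y.2
          rw [R.hsym x.2 y.2, one_mul, hβa, hβa, Matrix.dotProduct_mulVec, dotProduct_comm,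
            ← Matrix.mulVec_transpose, Matrix.diagonal_transpose])
        (fun x hx => by
          refine Prod.ext ?_ (R.hnd _ fun y => ?_)
          · refine ((LinearMap.BilinForm.nondegenerate_toBilin'_iff_det_ne_zero).2
              (show (Matrix.diagonal ![(1 : F), c]).det ≠ 0 by
                rw [Matrix.det_diagonal, Fin.prod_univ_two]; simpa using hc0)).1 x.1 fun y => ?_
            have := hx (y, 0)
            simpa [pairForm, ← hβ] using this
          · have := hx (0, y)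
            simpa [pairForm] using this)
      refine ⟨S, ?_, ?_⟩
      · rw [hS1, hr2, ← hR1]
        have hE : E.toLinearMap = (Matrix.toLin' (Matrix.diagonal fun _ : Fin 2 => s)).prodMap R.g.toLinearMap := by
          refine LinearMap.ext fun x => Prod.ext ?_ rfl
          show s • x.1 = Matrix.toLin' (Matrix.diagonal fun _ : Fin 2 => s) x.1
          funext k
          rw [Matrix.toLin'_apply, Matrix.mulVec_diagonal]
          rfl
        rw [hE, LinearMap.charpoly_prodMap, Matrix.charpoly_toLin', Matrix.charpoly_diagonal,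
          Finset.prod_const, Finset.card_univ, Fintype.card_fin]
      · rw [hS2, dchar_pair, show dchar R.B = η from hR2, dchar_basis' (Pi.basisFun F (Fin 2)),
          LinearMap.BilinForm.toMatrix_basisFun, ← hβ, LinearMap.BilinForm.toMatrix'_toBilin',
          Matrix.det_diagonal, Fin.prod_univ_two]
        simp only [Matrix.cons_val_zero, Matrix.cons_val_one, one_mul, hc]
        linear_combination δ * hη
    · obtain ⟨S, hS1, hS2⟩ := exists_sys_gen hf (left_ne_zero_of_mul hz) (right_ne_zero_of_mul hz)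
      exact ⟨S, hS1, hS2.trans (h.resolve_left hz)⟩

/-- Forms with the same discriminant are isometric. -/
theorem exists_form_iso (h2 : (2 : F) ≠ 0) {d : ℕ} (hd : 0 < d) (S T : Sys F 1 d) (h : S.dc = T.dc) :
    ∃ φ : (Fin d → F) ≃ₗ[F] (Fin d → F), ∀ x y, T.B (φ x) (φ y) = S.B x y := by
  classical
  let W : Sys F 1 d → Sys F 1 d := fun S =>
    { B := S.B, g := LinearEquiv.refl F _, hg := fun _ _ => rfl, hsym := S.hsym, hnd := S.hnd }
  have hsimW : ∀ S T, Sys.Sim (W S) (W T) := fun S T =>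
    Sys.sim_of_equiv (LinearEquiv.refl F _) fun _ => rfl
  have hpol : ∀ (P : F[X]) x, (W S).pol P x = P.eval 1 • x := by
    intro P x
    induction P using Polynomial.induction_on' generalizing x with
    | add a b ha hb => rw [Sys.pol_add, ha, hb, eval_add, add_smul]
    | monomial i c =>
      rw [Sys.pol, aeval_monomial, eval_monomial, one_pow, mul_one, ← Algebra.smul_def,
        LinearMap.smul_apply]
      congr 1
      induction i with
      | zero => rfl
      | succ i ih => rw [pow_succ, Module.End.mul_apply]; exact ih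
  have hk0 : ∀ P : F[X], P.eval 1 ≠ 0 → (W S).kdim P = 0 := fun P hP => by
    rw [Sys.kdim, show LinearMap.ker ((W S).pol P) = ⊥ from (Submodule.eq_bot_iff _).2 fun x hx => by
      rw [LinearMap.mem_ker, hpol] at hx
      exact (smul_eq_zero.1 hx).resolve_left hP, finrank_bot]
  have hk1 : ∀ P : F[X], P.eval 1 = 0 → (W S).kdim P = d := fun P hP => by
    rw [Sys.kdim, show LinearMap.ker ((W S).pol P) = ⊤ from LinearMap.ker_eq_top.2 (LinearMap.ext fun x => by
      rw [hpol, hP, zero_smul, LinearMap.zero_apply]), finrank_top, Module.finrank_fin_fun]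
  have hsub : signed d (W S) ⊆ {((1 : F), 1)} := by
    rintro ⟨s, i⟩ hi
    simp only [signed, Finset.mem_filter, Finset.mem_product, Finset.mem_insert, Finset.mem_singleton,
      Finset.mem_Icc] at hi
    obtain ⟨⟨hs, hi1, -⟩, -, hm⟩ := hi
    obtain ⟨k, rfl⟩ : ∃ k, i = k + 1 := ⟨i - 1, by omega⟩
    rw [Finset.mem_singleton]
    rcases hs with rfl | rfl
    · rcases k with _ | k
      · rfl
      · rw [mult, Nat.add_sub_cancel, hk1 _ (by simp), hk1 _ (by simp), hk1 _ (by simp)] at hm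
        omega
    · rw [mult, Nat.add_sub_cancel, hk0 _ (by simp [one_add_one_eq_two, h2]),
        hk0 _ (by simp [one_add_one_eq_two, h2]), hk0 _ (by simp [one_add_one_eq_two, h2])] at hm
      omega
  have hmem : ((1 : F), 1) ∈ signed d (W S) := by
    simp only [signed, Finset.mem_filter, Finset.mem_product, Finset.mem_insert, Finset.mem_singleton,
      Finset.mem_Icc, true_or, le_refl, true_and, Nat.sub_self, pow_zero, one_mul]
    refine ⟨hd, ?_⟩
    rw [mult, hk1 _ (by simp), hk0 _ (by simp), hk1 _ (by simp)]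
    omega
  have hcard := (Finset.card_le_card hsub).trans_eq (Finset.card_singleton _)
  obtain ⟨a, b, hab, hiso⟩ := pigeonD h2 rfl d d le_rfl (ULift.{u} (Fin 2))
    (fun z => if z.down = 0 then W S else W T) ⟨0⟩
    (fun z => by
      by_cases hz : z.down = 0
      · simp only [if_pos hz, if_true]; exact hsimW S S
      · simp only [if_neg hz, if_true]; exact hsimW T S)
    (fun z => by
      by_cases hz : z.down = 0
      · simp only [if_pos hz, if_true]
      · simp only [if_neg hz, if_true]; exact h.symm)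
    (by simpa using ⟨_, hmem⟩)
    (by
      rw [Fintype.card_ulift, Fintype.card_fin, if_pos rfl]
      have := Nat.pow_le_pow_right two_pos hcard
      omega)
  obtain ⟨a⟩ := a
  obtain ⟨b⟩ := b
  obtain ⟨φ, hφ, -⟩ : Sys.Iso (W S) (W T) ∨ Sys.Iso (W T) (W S) := by
    fin_cases a <;> fin_cases b <;> simp at hab hiso ⊢
    · exact Or.inl hiso
    · exact Or.inr hiso
  · exact ⟨φ, hφ⟩
  rename_i hiso'
  obtain ⟨φ, hφ, -⟩ := hiso'
  exact ⟨φ.symm, fun x y => by rw [← hφ (φ.symm x) (φ.symm y), φ.apply_symm_apply, φ.apply_symm_apply]⟩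

theorem card_pal {n : ℕ} (hn : 1 ≤ n) : Nat.card {f : F[X] // Pal n f} = Fintype.card F ^ n := by
  obtain ⟨K, hK⟩ : ∃ K, 2 * n = K + 1 := ⟨2 * n - 1, by omega⟩
  rw [Nat.card_congr (Equiv.subtypeEquivRight (q := fun f : F[X] =>
      f.Monic ∧ f.natDegree = K + 1 ∧ f.coeff 0 = 1 ∧
        ∀ i, 1 ≤ i → i ≤ K → f.coeff (K + 1 - i) = id (f.coeff i)) fun f => ?_)]
  · refine (SelfRecip.card_selfrecip id (fun _ => rfl) K 1).trans ?_
    rw [Nat.card_congr (Equiv.subtypeUnivEquiv (p := fun x : F => id x = x) fun _ => rfl),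
      Nat.card_eq_fintype_card (α := F), ← pow_add]
    congr 1
    omega
  rw [Pal, hK]
  refine ⟨fun h => ⟨h.1, h.2.1, h.2.2.1, fun i _ hi => h.2.2.2 i (by omega)⟩,
    fun h => ⟨h.1, h.2.1, h.2.2.1, fun i hi => ?_⟩⟩
  have htop : f.coeff (K + 1) = 1 := h.2.1 ▸ h.1.coeff_natDegree
  rcases Nat.eq_zero_or_pos i with rfl | hi0
  · rw [Nat.sub_zero, h.2.2.1, htop]
  rcases Nat.lt_or_ge K i with hKi | hKi
  · obtain rfl : i = K + 1 := by omega
    rw [Nat.sub_self, h.2.2.1, htop]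
  exact h.2.2.2 i hi0 hKi

/-- At least half of the palindromic polynomials are compatible with a given discriminant. -/
theorem card_good (h2 : (2 : F) ≠ 0) {n : ℕ} (hn : 2 ≤ n) {δ : ℤ} (hδ : δ * δ = 1) :
    Fintype.card F ^ n ≤ 2 * Nat.card {f : F[X] // Pal n f ∧
      (f.eval 1 * f.eval (-1) = 0 ∨ quadraticChar F (f.eval 1 * f.eval (-1)) = δ)} := by
  classical
  obtain ⟨d, hd0, hd⟩ := qchar_surj h2 (show (-1 : ℤ) * -1 = 1 by norm_num)
  obtain ⟨k, rfl⟩ : ∃ k, n = k + 1 := ⟨n - 1, by omega⟩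
  obtain ⟨w, hw⟩ : ∃ w : F[X], w = C (2⁻¹ : F) * X ^ (k + 1) + C ((4 : F)⁻¹) * (X ^ k + X ^ (k + 2)) :=
    ⟨_, rfl⟩
  have h4 : (4 : F) ≠ 0 := by
    rw [show (4 : F) = 2 * 2 by norm_num]
    exact mul_ne_zero h2 h2
  have hw1 : w.eval 1 = 1 := by
    rw [hw]
    simp only [eval_add, eval_mul, eval_C, eval_pow, eval_X, one_pow, mul_one]
    field_simp
    ring
  have hw2 : w.eval (-1) = 0 := by
    rw [hw]
    simp only [eval_add, eval_mul, eval_C, eval_pow, eval_X, pow_succ]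
    field_simp
    ring
  have hwdeg : w.natDegree ≤ k + 2 := by
    rw [hw]
    compute_degree
  have hwc : ∀ i, w.coeff i = (if i = k + 1 then (2⁻¹ : F) else 0) +
      (if i = k ∨ i = k + 2 then (4 : F)⁻¹ else 0) := by
    intro i
    rw [hw, coeff_add, coeff_C_mul, coeff_C_mul, coeff_add, coeff_X_pow, coeff_X_pow, coeff_X_pow]
    by_cases e1 : i = k <;> by_cases e2 : i = k + 2 <;> simp [e1, e2]
  have hshift : ∀ (f : F[X]) (a : F), Pal (k + 1) f → Pal (k + 1) (f + C a * w) := by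
    rintro f a ⟨hm, hdeg, h0, hsym⟩
    have hlt : (C a * w).natDegree < f.natDegree := lt_of_le_of_lt
      ((natDegree_C_mul_le _ _).trans hwdeg) (by omega)
    refine ⟨hm.add_of_left (degree_lt_degree hlt), by rw [natDegree_add_eq_left_of_natDegree_lt hlt, hdeg],
      ?_, fun i hi => ?_⟩
    · rw [coeff_add, coeff_C_mul, h0, hwc, if_neg (by omega), if_neg (by omega), add_zero, mul_zero, add_zero]
    · rw [coeff_add, coeff_add, coeff_C_mul, coeff_C_mul, hsym i hi, hwc, hwc]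
      congr 2
      congr 1
      · exact if_congr (by omega) rfl rfl
      · exact if_congr (by omega) rfl rfl
  obtain ⟨G, hG⟩ : ∃ G : Set F[X], G = {f | Pal (k + 1) f ∧
      (f.eval 1 * f.eval (-1) = 0 ∨ quadraticChar F (f.eval 1 * f.eval (-1)) = δ)} := ⟨_, rfl⟩
  obtain ⟨P, hP⟩ : ∃ P : Set F[X], P = {f | Pal (k + 1) f} := ⟨_, rfl⟩
  have hPc : P.ncard = Fintype.card F ^ (k + 1) := by
    rw [hP, ← Nat.card_coe_set_eq]
    exact card_pal (by omega)
  have hPf : P.Finite := Set.finite_of_ncard_ne_zero (by rw [hPc]; exact pow_ne_zero _ Fintype.card_ne_zero)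
  have hGP : G ⊆ P := fun f hf => by
    rw [hG] at hf
    rw [hP]
    exact hf.1
  have hbad : (P \ G).ncard ≤ G.ncard := by
    refine Set.ncard_le_ncard_of_injOn (fun f => f + C ((d - 1) * f.eval 1) * w) (fun f hf => ?_)
      (fun f _ f' _ h => ?_) (hPf.subset hGP)
    · simp only [hP, hG, Set.mem_sdiff, Set.mem_ofPred_eq, not_and, not_or] at hf
      obtain ⟨hf, hf'⟩ := hf
      obtain ⟨hz, hne⟩ := hf' hf
      show f + C ((d - 1) * f.eval 1) * w ∈ G
      rw [hG]
      refine ⟨hshift f _ hf, Or.inr ?_⟩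
      rw [eval_add, eval_add, eval_mul, eval_mul, eval_C, hw1, hw2, mul_zero, add_zero, mul_one,
        show f.eval 1 + (d - 1) * f.eval 1 = d * f.eval 1 by ring, mul_assoc, map_mul, hd]
      rcases quadraticChar_dichotomy hz with e | e <;> rw [e] at hne ⊢ <;>
        rcases mul_self_eq_one_iff.1 hδ with r | r <;> rw [r] at hne ⊢ <;> simp_all
    · have e1 := congrArg (Polynomial.eval (1 : F)) h
      simp only [eval_add, eval_mul, eval_C, hw1, mul_one] at e1
      have e2 : f.eval 1 = f'.eval 1 := mul_left_cancel₀ hd0 (by linear_combination e1)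
      simp only [e2] at h
      exact add_right_cancel h
  have hsplit := Set.ncard_sdiff_add_ncard_of_subset hGP hPf
  have hcard : Nat.card {f : F[X] // Pal (k + 1) f ∧
      (f.eval 1 * f.eval (-1) = 0 ∨ quadraticChar F (f.eval 1 * f.eval (-1)) = δ)} = G.ncard := by
    rw [hG, ← Nat.card_coe_set_eq]
    rfl
  rw [hcard]
  omega

open QuadraticMap in
theorem lower_bound {ι : Type} [Fintype ι] [DecidableEq ι] {d n : ℕ} (e : ι ≃ Fin d)
    (Q : QuadraticForm F (ι → F)) (hQ : (polarBilin Q).Nondegenerate) (h2 : (2 : F) ≠ 0) (hn : 2 ≤ n)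
    (hd : d = 2 * n) :
    Fintype.card F ^ n ≤ 2 * Nat.card (ConjClasses ↥(Cfsg.isometryGroup F ⇑Q)) := by
  classical
  subst hd
  obtain ⟨δ, hδ⟩ : ∃ δ, (sysO e Q hQ 1).dc = δ := ⟨_, rfl⟩
  have hδ1 : δ * δ = 1 := hδ ▸ Sys.dc_sq _
  refine (card_good h2 hn hδ1).trans (Nat.mul_le_mul_left 2 ?_)
  haveI : Finite (ConjClasses ↥(Cfsg.isometryGroup F ⇑Q)) := inferInstance
  have key : ∀ f : {f : F[X] // Pal n f ∧ (f.eval 1 * f.eval (-1) = 0 ∨
      quadraticChar F (f.eval 1 * f.eval (-1)) = δ)}, ∃ t : ↥(Cfsg.isometryGroup F ⇑Q),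
      t.1.1.charpoly = f.1 := by
    rintro ⟨f, hf, hf'⟩
    obtain ⟨S, hS1, hS2⟩ := exists_sys h2 n f hf δ hδ1 hf'
    obtain ⟨φ, hφ⟩ := exists_form_iso h2 (by omega) S (sysO e Q hQ 1) (hS2.trans hδ.symm)
    obtain ⟨ψ, hψ⟩ : ∃ ψ, ψ = (φ.symm.trans S.g).trans φ := ⟨_, rfl⟩
    have hψB : ∀ x y, polar Q (oidx e (ψ x)) (oidx e (ψ y)) = polar Q (oidx e x) (oidx e y) := by
      intro x y
      rw [hψ]
      show (sysO e Q hQ 1).B (φ (S.g (φ.symm x))) (φ (S.g (φ.symm y))) = (sysO e Q hQ 1).B x y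
      rw [hφ, S.hg, ← hφ, φ.apply_symm_apply, φ.apply_symm_apply]
    obtain ⟨t, ht⟩ := exists_mem e Q h2 ψ hψB
    refine ⟨t, ?_⟩
    rw [← Matrix.charpoly_toLin']
    have hconj : Matrix.toLin' t.1.1 = (φ.trans (oidx e)).conj S.g.toLinearMap := by
      refine LinearMap.ext fun v => ?_
      obtain ⟨x, rfl⟩ := (oidx (F := F) e).surjective v
      rw [Matrix.toLin'_apply, ht, hψ]
      simp [LinearEquiv.conj_apply]
    rw [hconj, LinearEquiv.charpoly_conj, hS1]
  choose t ht using key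
  refine Nat.card_le_card_of_injective (fun f => ConjClasses.mk (t f)) fun f f' h => Subtype.ext ?_
  obtain ⟨c, hc⟩ := isConj_iff.1 (ConjClasses.mk_eq_mk_iff_isConj.1 h)
  rw [← ht f, ← ht f', ← hc]
  simp only [Subgroup.coe_mul, Subgroup.coe_inv, Units.val_mul, Matrix.coe_units_inv]
  exact (Matrix.charpoly_units_conj c.1 (t f).1.1).symm

end Cfsg.Agent.FormCount
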