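import Cfsg.Agent.Lib.Classical.FormCount.OArith
import Cfsg.Agent.Lib.Classical.FormCount.InductD
import Cfsg.Agent.Lib.Orthogonal.Matrix

/-!
The classes of an orthogonal group over a field of odd order are counted by weighted codes.
-/

set_option autoImplicit false
set_option linter.style.haveILetI false
set_option linter.unusedSectionVars false

namespace Cfsg.Agent.FormCount

open Polynomial Module Matrix QuadraticMap
open Cfsg.Agent.GLCount Cfsg.Agent.SLBound
open LinearMap (BilinForm)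

universe u

variable {F : Type u} [Field F] [Fintype F] [DecidableEq F]

theorem code_facts_O {N : ℕ} (h2 : (2 : F) ≠ 0) (S : Sys F 1 N) (G : Matrix.GeneralLinearGroup (Fin N) F)
    (hS : S.g.toLinearMap = GLCount.lin G.1) :
    codeOf G ∈ seqsO N N ∧ (signed N S).card ≤ wexpO (codeOf G) := by
  classical
  obtain ⟨ι, hι, q, e, hq, h0, -, -, ⟨Φ⟩, hc⟩ := codeOf_spec G
  have hne : (-1 : F) ≠ 1 := fun h => h2 (by linear_combination -h)
  refine ⟨Finset.mem_filter.2 ⟨codeOf_mem G, ?_⟩, ?_⟩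
  · rw [hc]
    have hg : ∀ m, GoodO (GLCount.lst (code q e) m) := by
      intro m
      induction m with
      | zero => trivial
      | succ m ih =>
        have hlen : ∀ k, (GLCount.lst (code q e) k).length = k := fun k => by
          induction k <;> simp [GLCount.lst, *]
        refine ⟨code_dual S G hS hq h0 Φ m, ?_, ih⟩
        rw [hlen]
        intro hev
        refine code_even S G hS hq h0 Φ h2 (one_mul 1) m ?_
        rcases Nat.even_or_odd m with h | h
        · exact absurd hev (Nat.not_even_iff_odd.2 h.add_one)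
        · rw [h.neg_one_pow, mul_one]
    exact hg N
  have hw : ∀ m, wexpO (GLCount.lst (code q e) m) =
      ∑ j ∈ Finset.range m, if Even (j + 1) then 0 else sroots (code q e j) := by
    intro m
    induction m with
    | zero => rfl
    | succ m ih =>
      have hlen : ∀ k, (GLCount.lst (code q e) k).length = k := fun k => by
        induction k <;> simp [GLCount.lst, *]
      rw [GLCount.lst, wexpO, hlen, ih, Finset.sum_range_succ, add_comm]
  rw [hc, hw]
  refine le_trans (Finset.card_le_card (t := (Finset.range N).biUnion fun j =>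
    if Even (j + 1) then ∅ else (({1, -1} : Finset F).filter fun s => (code q e j).eval s = 0).image
      (fun s => (s, j + 1))) ?_)
    (Finset.card_biUnion_le.trans (Finset.sum_le_sum fun j _ => ?_))
  · rintro ⟨s, i⟩ hi
    simp only [signed, Finset.mem_filter, Finset.mem_product, Finset.mem_Icc] at hi
    obtain ⟨⟨hs, hi1, hi2⟩, hpar, hm⟩ := hi
    obtain ⟨j, rfl⟩ : ∃ j, i = j + 1 := ⟨i - 1, by omega⟩
    have hev : ¬ Even (j + 1) := by
      intro hev
      rcases Nat.even_or_odd j with h | h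
      · exact Nat.not_even_iff_odd.2 h.add_one hev
      · rw [Nat.add_sub_cancel, h.neg_one_pow, mul_one] at hpar
        exact hne hpar
    refine Finset.mem_biUnion.2 ⟨j, Finset.mem_range.2 (by omega), ?_⟩
    rw [if_neg hev, Finset.mem_image]
    exact ⟨s, Finset.mem_filter.2 ⟨by simpa using hs, eval_code_zero S G hS hq Φ s j hm⟩, rfl⟩
  · split_ifs
    · simp
    · exact Finset.card_image_le.trans (le_of_eq (by unfold sroots; congr!))

section Group

variable {ι : Type} [Fintype ι] [DecidableEq ι] {d : ℕ} (e : ι ≃ Fin d) (Q : QuadraticForm F (ι → F))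

/-- The index change. -/
noncomputable def oidx : (Fin d → F) ≃ₗ[F] (ι → F) := LinearEquiv.funCongrLeft F F e

/-- An orthogonal matrix as a point of the general linear group. -/
noncomputable def oglOf : ↥(Cfsg.isometryGroup F ⇑Q) →* Matrix.GeneralLinearGroup (Fin d) F :=
  MonoidHom.toHomUnits
    { toFun := fun g => Matrix.reindexAlgEquiv F F e g.1.1
      map_one' := map_one _
      map_mul' := fun _ _ => map_mul _ _ _ }

theorem oidx_lin (g : ↥(Cfsg.isometryGroup F ⇑Q)) (x : Fin d → F) :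
    oidx e (GLCount.lin (oglOf e Q g).1 x) = g.1.1 *ᵥ oidx e x := by
  funext i
  show ((Matrix.reindexAlgEquiv F F e g.1.1) *ᵥ x) (e i) = _
  rw [Matrix.coe_reindexAlgEquiv, Matrix.reindex_apply, Matrix.submatrix_mulVec_equiv]
  simp only [Function.comp_apply, Equiv.symm_symm, Equiv.symm_apply_apply]
  rfl

variable (hQ : (polarBilin Q).Nondegenerate)

/-- The system of an orthogonal matrix. -/
noncomputable def sysO (g : ↥(Cfsg.isometryGroup F ⇑Q)) : Sys F 1 d where
  B := LinearMap.BilinForm.comp (polarBilin Q : BilinForm F (ι → F)) (oidx e).toLinearMap (oidx e).toLinearMap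
  g := LinearEquiv.ofLinearMap (GLCount.lin (oglOf e Q g).1) (GLCount.lin ((oglOf e Q g)⁻¹).1)
    (by
      show GLCount.lin (oglOf e Q g).1 * GLCount.lin ((oglOf e Q g)⁻¹).1 = 1
      rw [GLCount.lin, GLCount.lin, ← map_mul, ← Units.val_mul, mul_inv_cancel, Units.val_one, map_one])
    (by
      show GLCount.lin ((oglOf e Q g)⁻¹).1 * GLCount.lin (oglOf e Q g).1 = 1
      rw [GLCount.lin, GLCount.lin, ← map_mul, ← Units.val_mul, inv_mul_cancel, Units.val_one, map_one])
  hg x y := by
    show polar Q (oidx e (GLCount.lin (oglOf e Q g).1 x)) (oidx e (GLCount.lin (oglOf e Q g).1 y)) =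
      polar Q (oidx e x) (oidx e y)
    rw [oidx_lin, oidx_lin]
    simp only [polar, ← Matrix.mulVec_add, Orth.mem_isometryGroup.1 g.2]
  hsym x y := by
    show polar Q (oidx e y) (oidx e x) = 1 * polar Q (oidx e x) (oidx e y)
    rw [one_mul, polar_comm]
  hnd x hx := by
    apply (oidx e).injective
    rw [map_zero]
    refine hQ.1 _ fun v => ?_
    obtain ⟨y, rfl⟩ := (oidx (F := F) e).surjective v
    exact hx y

theorem sim_of_code_O {g h : ↥(Cfsg.isometryGroup F ⇑Q)}
    (hc : codeOf (oglOf e Q g) = codeOf (oglOf e Q h)) : Sys.Sim (sysO e Q hQ g) (sysO e Q hQ h) := by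
  obtain ⟨c, hcc⟩ := isConj_iff.1 (isConj_of_codeOf hc)
  rw [mul_inv_eq_iff_eq_mul] at hcc
  refine Sys.sim_of_equiv (LinearEquiv.ofLinearMap (GLCount.lin c.1) (GLCount.lin (c⁻¹).1)
    (by
      show GLCount.lin c.1 * GLCount.lin (c⁻¹).1 = 1
      rw [GLCount.lin, GLCount.lin, ← map_mul, ← Units.val_mul, mul_inv_cancel, Units.val_one, map_one])
    (by
      show GLCount.lin (c⁻¹).1 * GLCount.lin c.1 = 1
      rw [GLCount.lin, GLCount.lin, ← map_mul, ← Units.val_mul, inv_mul_cancel, Units.val_one, map_one]))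
    fun x => ?_
  show GLCount.lin c.1 (GLCount.lin (oglOf e Q g).1 x) =
    GLCount.lin (oglOf e Q h).1 (GLCount.lin c.1 x)
  rw [GLCount.lin, GLCount.lin, GLCount.lin, ← Module.End.mul_apply, ← Module.End.mul_apply, ← map_mul,
    ← map_mul, ← Units.val_mul, hcc, Units.val_mul]

/-- An isometry of the polar form is a point of the group. -/
theorem exists_mem (h2 : (2 : F) ≠ 0) (φ : (Fin d → F) ≃ₗ[F] (Fin d → F))
    (hφ : ∀ x y, polar Q (oidx e (φ x)) (oidx e (φ y)) = polar Q (oidx e x) (oidx e y)) :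
    ∃ t : ↥(Cfsg.isometryGroup F ⇑Q), ∀ x, t.1.1 *ᵥ oidx e x = oidx e (φ x) := by
  obtain ⟨T, hT⟩ : ∃ T, T = (Orth.glEquiv ι F).symm (((oidx e).symm.trans φ).trans (oidx e)) := ⟨_, rfl⟩
  have hTx : ∀ x, T.1 *ᵥ oidx e x = oidx e (φ x) := fun x => by
    rw [← Orth.glEquiv_apply, hT, MulEquiv.apply_symm_apply]
    simp
  refine ⟨⟨T, Orth.mem_isometryGroup.2 fun v => ?_⟩, hTx⟩
  obtain ⟨x, rfl⟩ := (oidx (F := F) e).surjective v
  have h := hφ x x
  rw [QuadraticMap.polar_self, QuadraticMap.polar_self, two_smul, two_smul, ← two_mul, ← two_mul] at h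
  rw [hTx]
  exact mul_left_cancel₀ h2 h

theorem isConj_of_iso_O (h2 : (2 : F) ≠ 0) {g h : ↥(Cfsg.isometryGroup F ⇑Q)}
    (hiso : Sys.Iso (sysO e Q hQ g) (sysO e Q hQ h)) : IsConj g h := by
  obtain ⟨φ, hφB, hφg⟩ := hiso
  obtain ⟨t, ht⟩ := exists_mem e Q h2 φ hφB
  refine isConj_iff.2 ⟨t, ?_⟩
  rw [mul_inv_eq_iff_eq_mul]
  refine Subtype.ext (Units.ext (Matrix.ext_iff_mulVec.2 fun v => ?_))
  obtain ⟨x, rfl⟩ := (oidx (F := F) e).surjective v
  show (t.1.1 * g.1.1) *ᵥ oidx e x = (h.1.1 * t.1.1) *ᵥ oidx e x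
  rw [← Matrix.mulVec_mulVec, ← Matrix.mulVec_mulVec, ← oidx_lin, ht, ht, ← oidx_lin]
  exact congrArg (oidx e) (hφg x)

include e hQ in
theorem two_card_classes_le (h2 : (2 : F) ≠ 0) {n : ℕ} (hd : d = 2 * n) :
    2 * Nat.card (ConjClasses ↥(Cfsg.isometryGroup F ⇑Q)) ≤
      cntO (Fintype.card F) d (2 * n) + cntU (Fintype.card F) d n := by
  classical
  haveI := Fintype.ofFinite (ConjClasses ↥(Cfsg.isometryGroup F ⇑Q))
  let rep : ConjClasses ↥(Cfsg.isometryGroup F ⇑Q) → ↥(Cfsg.isometryGroup F ⇑Q) := fun C => C.out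
  have hrep : ∀ C, ConjClasses.mk (rep C) = C := fun C => Quotient.out_eq C
  let ψ : ConjClasses ↥(Cfsg.isometryGroup F ⇑Q) → List F[X] := fun C => codeOf (oglOf e Q (rep C))
  have hψ : ∀ C, ψ C ∈ seqsO (F := F) d (2 * n) := fun C => by
    rw [← hd]
    exact (code_facts_O h2 (sysO e Q hQ (rep C)) _ rfl).1
  rw [Nat.card_eq_fintype_card, ← Finset.card_univ,
    Finset.card_eq_sum_card_fiberwise (f := ψ) (t := seqsO (F := F) d (2 * n)) fun C _ => hψ C,
    Finset.mul_sum]
  refine le_trans (Finset.sum_le_sum (g := fun l => 2 ^ wexpO l + if wexpO l = 0 then 1 else 0)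
    fun l _ => ?_) ?_
  swap
  · rw [Finset.sum_add_distrib, Finset.sum_boole, Nat.cast_id]
    exact Nat.add_le_add (weightO_le h2 d (2 * n)) (zeroO_le h2 d n)
  by_contra hlt
  rw [not_le] at hlt
  have hpos : 0 < (Finset.univ.filter fun C => ψ C = l).card := by
    rcases Nat.eq_zero_or_pos (Finset.univ.filter fun C => ψ C = l).card with h | h
    · rw [h, mul_zero] at hlt
      exact absurd hlt (Nat.not_lt_zero _)
    · exact h
  obtain ⟨C₀, hC₀⟩ := Finset.card_pos.1 hpos
  rw [Finset.mem_filter] at hC₀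
  have hw := (code_facts_O h2 (sysO e Q hQ (rep C₀)) _ rfl).2
  rw [show codeOf (oglOf e Q (rep C₀)) = l from hC₀.2] at hw
  let κ := {C : ConjClasses ↥(Cfsg.isometryGroup F ⇑Q) // C ∈ Finset.univ.filter fun C => ψ C = l}
  obtain ⟨a, b, hab, hiso⟩ : ∃ a b : κ, a ≠ b ∧
      Sys.Iso (sysO e Q hQ (rep a.1)) (sysO e Q hQ (rep b.1)) := by
    have hsim : ∀ C : κ, Sys.Sim (sysO e Q hQ (rep C.1)) (sysO e Q hQ (rep C₀)) := fun C =>
      sim_of_code_O e Q hQ ((Finset.mem_filter.1 C.2).2.trans hC₀.2.symm)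
    rcases (signed d (sysO e Q hQ (rep C₀))).eq_empty_or_nonempty with h0 | h0
    · refine pigeon h2 (one_mul 1) d d le_rfl κ (fun C => sysO e Q hQ (rep C.1))
        ⟨C₀, Finset.mem_filter.2 hC₀⟩ hsim ?_
      rw [h0, Finset.card_empty, pow_zero, Fintype.card_coe]
      have h1 : 1 ≤ 2 ^ wexpO l := Nat.one_le_two_pow
      by_cases hz : wexpO l = 0
      · rw [if_pos hz, hz, pow_zero] at hlt
        omega
      · rw [if_neg hz, add_zero] at hlt
        have h3 : 2 ≤ 2 ^ wexpO l := Nat.le_self_pow hz 2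
        omega
    · refine pigeonD h2 rfl d d le_rfl κ (fun C => sysO e Q hQ (rep C.1))
        ⟨C₀, Finset.mem_filter.2 hC₀⟩ hsim (fun _ => rfl) h0 ?_
      show 2 ^ (signed d (sysO e Q hQ (rep C₀))).card < _
      rw [Fintype.card_coe]
      have := Nat.pow_le_pow_right two_pos hw
      have := h0.card_pos
      rw [if_neg (by omega)] at hlt
      omega
  refine hab (Subtype.ext ?_)
  rw [← hrep a.1, ← hrep b.1, ConjClasses.mk_eq_mk_iff_isConj]
  exact isConj_of_iso_O e Q hQ h2 hiso

end Group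

end Cfsg.Agent.FormCount
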