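import Cfsg.Agent.Lib.Classical.FormCount.OArith

/-!
Bounds on the weighted coefficients in odd dimension, and the comparison of `q` with `3`.
-/

set_option autoImplicit false

namespace Cfsg.Agent.FormCount

/-- The codes whose parts of odd size have only the roots `±1`. -/
def cntW (q : ℕ) : ℕ → ℕ → ℕ
  | 0, N => if N = 0 then 1 else 0
  | m + 1, N => if Even (m + 1) then
      ∑ e ∈ Finset.range (N / (2 * (m + 1)) + 1), q ^ e * cntW q m (N - 2 * e * (m + 1))
    else ∑ a ∈ Finset.range (N / (m + 1) + 1),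
      (if a = 0 then 1 else 4 * a) * cntW q m (N - a * (m + 1))

theorem step_two {z K L A B : ℚ} (hz0 : 0 < z) (hz : z ≤ 1 / 729) (hA : 0 ≤ A) (hB : 0 ≤ B)
    (hBA : B ≤ 2 * A) (hAB : A ≤ 2 / 3 * B) (hK : K * (1 + 5 * z) ≤ A) (hL : L * (1 + 5 * z) ≤ B) :
    ((1 + 6 * (z * z / 3) + (z * z / 3) ^ 2) * K + 4 * (1 + z * z / 3) * (z / 3) * L) *
        (1 / (1 - z * z)) * (1 / (1 - z * z / 3)) * (1 + 5 * (z / 3)) ≤ A ∧
    ((1 + 6 * (z * z / 3) + (z * z / 3) ^ 2) * L + 4 * (1 + z * z / 3) * z * K) *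
        (1 / (1 - z * z)) * (1 / (1 - z * z / 3)) * (1 + 5 * (z / 3)) ≤ B := by
  have hzz : z * z ≤ z / 729 := by nlinarith
  have hd : 0 < (1 - z * z) * (1 - z * z / 3) := by nlinarith
  obtain ⟨e, he⟩ : ∃ e, 1 + 6 * (z * z / 3) + (z * z / 3) ^ 2 = e := ⟨_, rfl⟩
  obtain ⟨f, hf⟩ : ∃ f, 4 * (1 + z * z / 3) = f := ⟨_, rfl⟩
  have he1 : e ≤ 1 + z / 100 := by rw [← he]; nlinarith
  have hf1 : f ≤ 4 + 1 / 100 := by rw [← hf]; nlinarith
  have he0 : 0 ≤ e := by rw [← he]; positivity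
  have hf0 : 0 ≤ f := by rw [← hf]; positivity
  have hw : 0 < 1 + 5 * z := by linarith
  have hK' : K ≤ A / (1 + 5 * z) := by rw [le_div_iff₀ hw]; exact hK
  have hL' : L ≤ B / (1 + 5 * z) := by rw [le_div_iff₀ hw]; exact hL
  have key : (e + f * z * (2 / 3)) * (1 + 5 * (z / 3)) ≤ (1 + 5 * z) * ((1 - z * z) * (1 - z * z / 3)) := by
    have h1 : f * z ≤ (4 + 1 / 100) * z := mul_le_mul_of_nonneg_right hf1 hz0.le
    have h2 : (e + f * z * (2 / 3)) * (1 + 5 * (z / 3)) ≤ 1 + 44 / 10 * z := by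
      refine (mul_le_mul_of_nonneg_right (show e + f * z * (2 / 3) ≤ 1 + 269 / 100 * z by linarith)
        (by positivity)).trans ?_
      nlinarith
    have h3 : 1 - 2 * (z * z) ≤ (1 - z * z) * (1 - z * z / 3) := by nlinarith
    refine h2.trans (le_trans ?_ (mul_le_mul_of_nonneg_left h3 hw.le))
    nlinarith
  rw [he, hf]
  constructor
  · rw [mul_assoc _ (1 / (1 - z * z)) _, one_div_mul_one_div, mul_one_div, div_mul_eq_mul_div, div_le_iff₀ hd]
    refine le_trans (mul_le_mul_of_nonneg_right (add_le_add (mul_le_mul_of_nonneg_left hK' he0)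
      (mul_le_mul_of_nonneg_left hL' (by positivity))) (by positivity)) ?_
    rw [show (e * (A / (1 + 5 * z)) + f * (z / 3) * (B / (1 + 5 * z))) * (1 + 5 * (z / 3)) =
      (e * A + f * z * (B / 3)) * (1 + 5 * (z / 3)) / (1 + 5 * z) by ring, div_le_iff₀ hw]
    have h4 : e * A + f * z * (B / 3) ≤ A * (e + f * z * (2 / 3)) := by
      have h5 := mul_le_mul_of_nonneg_left (show B / 3 ≤ A * (2 / 3) by linarith)
        (mul_nonneg hf0 hz0.le)
      linarith
    refine (mul_le_mul_of_nonneg_right h4 (by positivity)).trans ?_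
    calc A * (e + f * z * (2 / 3)) * (1 + 5 * (z / 3))
        = A * ((e + f * z * (2 / 3)) * (1 + 5 * (z / 3))) := by ring
      _ ≤ A * ((1 + 5 * z) * ((1 - z * z) * (1 - z * z / 3))) := mul_le_mul_of_nonneg_left key hA
      _ = _ := by ring
  · rw [mul_assoc _ (1 / (1 - z * z)) _, one_div_mul_one_div, mul_one_div, div_mul_eq_mul_div, div_le_iff₀ hd]
    refine le_trans (mul_le_mul_of_nonneg_right (add_le_add (mul_le_mul_of_nonneg_left hL' he0)
      (mul_le_mul_of_nonneg_left hK' (by positivity))) (by positivity)) ?_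
    rw [show (e * (B / (1 + 5 * z)) + f * z * (A / (1 + 5 * z))) * (1 + 5 * (z / 3)) =
      (e * B + f * z * A) * (1 + 5 * (z / 3)) / (1 + 5 * z) by ring, div_le_iff₀ hw]
    have h4 : e * B + f * z * A ≤ B * (e + f * z * (2 / 3)) := by
      have h5 := mul_le_mul_of_nonneg_left hAB (mul_nonneg hf0 hz0.le)
      linarith
    refine (mul_le_mul_of_nonneg_right h4 (by positivity)).trans ?_
    calc B * (e + f * z * (2 / 3)) * (1 + 5 * (z / 3))
        = B * ((e + f * z * (2 / 3)) * (1 + 5 * (z / 3))) := by ring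
      _ ≤ B * ((1 + 5 * z) * ((1 - z * z) * (1 - z * z / 3))) := mul_le_mul_of_nonneg_left key hB
      _ = _ := by ring

theorem EO_mono_snd (m : ℕ) : (EO m).2 ≤ (EO (m + 1)).2 := by
  rcases m with _ | m
  · norm_num [EO]
  · obtain ⟨h1, h2⟩ := EO_nonneg (m + 1)
    have := gg_ge m
    rw [show EO (m + 1 + 1) = _ from EO.eq_3 m]
    split_ifs
    · exact le_mul_of_one_le_right h2 this
    · refine le_trans ?_ (le_mul_of_one_le_right (by positivity) this)
      refine le_add_of_le_of_nonneg (le_mul_of_one_le_left h2 ?_) (by positivity)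
      have h5 : (0 : ℚ) ≤ (1 / 3) ^ (m + 2) := by positivity
      nlinarith

theorem EO_snd_le (m : ℕ) : (EO m).2 ≤ 141 / 5 := by
  have key : ∀ i, (EO (2 * (7 + i))).1 * (1 + 5 * (1 / 3) ^ (7 + i)) ≤ 17 ∧
      (EO (2 * (7 + i))).2 * (1 + 5 * (1 / 3) ^ (7 + i)) ≤ 141 / 5 := by
    intro i
    induction i with
    | zero => norm_num [EO, gg, Nat.even_iff]
    | succ i ih =>
      obtain ⟨z, hz⟩ : ∃ z, ((1 : ℚ) / 3) ^ (7 + i) = z := ⟨_, rfl⟩
      have hz0 : 0 < z := hz ▸ by positivity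
      have hz1 : z ≤ (1 / 3) ^ 6 := hz ▸ pow_le_pow_of_le_one (by norm_num) (by norm_num) (by omega)
      norm_num at hz1
      rw [hz] at ih
      rw [show 2 * (7 + (i + 1)) = 2 * (6 + i) + 2 + 2 by omega, EO,
        if_pos (by simp [Nat.even_iff]), show 2 * (6 + i) + 2 + 1 = 2 * (6 + i) + 1 + 2 by omega, EO,
        if_neg (by simp [Nat.even_iff]), show 2 * (6 + i) + 1 + 1 = 2 * (7 + i) by omega,
        show 2 * (6 + i) + 1 + 2 = 2 * (7 + i) + 1 by omega,
        show (2 * (7 + i) + 1) / 2 = 7 + i by omega, show 7 + (i + 1) = 7 + i + 1 by omega, gg, gg,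
        show 2 * (7 + i) + 1 - 1 = (7 + i) + (7 + i) by omega,
        show 2 * (7 + i) + 2 - 1 = (7 + i) + (7 + i) + 1 by omega,
        show 2 * (7 + i) + 1 = (7 + i) + (7 + i) + 1 by omega,
        pow_succ ((1 : ℚ) / 3) (7 + i + (7 + i)), pow_succ ((1 : ℚ) / 3) (7 + i),
        pow_add ((1 : ℚ) / 3) (7 + i) (7 + i), hz]
      obtain ⟨a, b⟩ := step_two hz0 hz1 (by norm_num) (by norm_num) (by norm_num) (by norm_num) ih.1 ih.2
      exact ⟨le_of_eq_of_le (by ring) a, le_of_eq_of_le (by ring) b⟩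
  obtain ⟨i, hi⟩ : ∃ i, m ≤ 2 * (7 + i) := ⟨m, by omega⟩
  refine (monotone_nat_of_le_succ EO_mono_snd hi).trans (le_trans ?_ (key i).2)
  refine le_mul_of_one_le_right (EO_nonneg _).2 ?_
  have : (0 : ℚ) ≤ 5 * (1 / 3) ^ (7 + i) := by positivity
  linarith

/-- Products of the bounds for `(X ± 1)`-parts and for the parts of even size, at `3` and `2/3`. -/
def KW : ℕ → ℚ
  | 0 => 1
  | m + 1 => KW m * (if Even (m + 1) then 1 / (1 - 3 * ((2 : ℚ) / 3) ^ (2 * (m + 1)))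
      else ((1 + ((2 : ℚ) / 3) ^ (m + 1)) / (1 - ((2 : ℚ) / 3) ^ (m + 1))) ^ 2)

theorem KW_fac_ge (m : ℕ) :
    1 ≤ (if Even (m + 1) then 1 / (1 - 3 * ((2 : ℚ) / 3) ^ (2 * (m + 1)))
      else ((1 + ((2 : ℚ) / 3) ^ (m + 1)) / (1 - ((2 : ℚ) / 3) ^ (m + 1))) ^ 2) := by
  split_ifs with h
  · have h2 : 2 ≤ m + 1 := by obtain ⟨i, hi⟩ := h; omega
    have h3 : ((2 : ℚ) / 3) ^ (2 * (m + 1)) ≤ (2 / 3) ^ 4 :=
      pow_le_pow_of_le_one (by norm_num) (by norm_num) (by omega)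
    have h0 : (0 : ℚ) ≤ (2 / 3) ^ (2 * (m + 1)) := by positivity
    norm_num at h3
    rw [one_le_div (by linarith)]
    linarith
  · have h3 : ((2 : ℚ) / 3) ^ (m + 1) < 1 := pow_lt_one₀ (by norm_num) (by norm_num) (Nat.succ_ne_zero m)
    have h0 : (0 : ℚ) ≤ (2 / 3) ^ (m + 1) := by positivity
    refine one_le_pow₀ ?_
    rw [one_le_div (by linarith)]
    linarith

theorem KW_pos : ∀ m, 0 ≤ KW m
  | 0 => by norm_num [KW]
  | m + 1 => by
    rw [KW]
    exact mul_nonneg (KW_pos m) (zero_le_one.trans (KW_fac_ge m))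

theorem KW_le (m : ℕ) : KW m ≤ 640 := by
  have key : ∀ i, KW (2 * (10 + i)) * (1 + 15 * ((2 : ℚ) / 3) ^ (2 * (10 + i))) ≤ 640 := by
    intro i
    induction i with
    | zero => norm_num [KW, Nat.even_iff]
    | succ i ih =>
      obtain ⟨z, hz⟩ : ∃ z, ((2 : ℚ) / 3) ^ (2 * (10 + i)) = z := ⟨_, rfl⟩
      have hz0 : 0 ≤ z := hz ▸ by positivity
      have hz1 : z ≤ (2 / 3) ^ 20 := hz ▸ pow_le_pow_of_le_one (by norm_num) (by norm_num) (by omega)
      norm_num at hz1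
      refine le_trans ?_ ih
      rw [show 2 * (10 + (i + 1)) = 2 * (10 + i) + 1 + 1 by omega, KW, KW,
        if_neg (by simp [Nat.even_iff]), if_pos (by simp [Nat.even_iff]),
        show 2 * (2 * (10 + i) + 1 + 1) = 2 * (10 + i) + 2 * (10 + i) + 4 by omega,
        show 2 * (10 + i) + 1 + 1 = 2 * (10 + i) + 2 by omega, pow_add _ (2 * (10 + i) + 2 * (10 + i)) 4,
        pow_add _ (2 * (10 + i)) (2 * (10 + i)), pow_add _ (2 * (10 + i)) 2, pow_succ _ (2 * (10 + i)), hz,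
        mul_assoc, mul_assoc]
      refine mul_le_mul_of_nonneg_left ?_ (KW_pos _)
      obtain ⟨w, hw⟩ : ∃ w, z * (2 / 3) = w := ⟨_, rfl⟩
      rw [hw]
      have hw0 : 0 ≤ w := by rw [← hw]; positivity
      have hd1 : 0 < 1 - w := by linarith
      have hd2 : 0 < 1 - 3 * (z * z * (2 / 3) ^ 4) := by nlinarith
      have e : ((1 + w) / (1 - w)) ^ 2 * (1 / (1 - 3 * (z * z * (2 / 3) ^ 4)) * (1 + 15 * (z * (2 / 3) ^ 2))) =
          (1 + w) ^ 2 * (1 + 15 * (z * (2 / 3) ^ 2)) / ((1 - w) ^ 2 * (1 - 3 * (z * z * (2 / 3) ^ 4))) := by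
        field_simp
      rw [e, div_le_iff₀ (by positivity), ← hw]
      have hzz : z * z ≤ z / 1000 := by nlinarith
      calc (1 + z * (2 / 3)) ^ 2 * (1 + 15 * (z * (2 / 3) ^ 2)) ≤ 1 + 87 / 10 * z := by
            have e2 : (1 + z * (2 / 3)) ^ 2 * (1 + 15 * (z * (2 / 3) ^ 2)) =
                1 + 8 * z + z * z * (28 / 3 + 80 / 27 * z) := by ring
            rw [e2]
            nlinarith
        _ ≤ (1 + 15 * z) * (1 - 2 * z) := by nlinarith
        _ ≤ (1 + 15 * z) * ((1 - z * (2 / 3)) ^ 2 * (1 - 3 * (z * z * (2 / 3) ^ 4))) := by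
            refine mul_le_mul_of_nonneg_left ?_ (by positivity)
            nlinarith
  obtain ⟨i, hi⟩ : ∃ i, m ≤ 2 * (10 + i) := ⟨m, by omega⟩
  refine (monotone_nat_of_le_succ (fun m => ?_) hi).trans (le_trans ?_ (key i))
  · rw [KW]
    exact le_mul_of_one_le_right (KW_pos m) (KW_fac_ge m)
  · refine le_mul_of_one_le_right (KW_pos _) ?_
    have : (0 : ℚ) ≤ 15 * (2 / 3) ^ (2 * (10 + i)) := by positivity
    linarith

theorem sq_series {y : ℚ} (h0 : 0 ≤ y) (h1 : y < 1) (A : ℕ) :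
    ∑ a ∈ Finset.range A, ((if a = 0 then 1 else 4 * a : ℕ) : ℚ) * y ^ a ≤ ((1 + y) / (1 - y)) ^ 2 := by
  have hS : ∀ A : ℕ, (∑ a ∈ Finset.range (A + 1), ((if a = 0 then 1 else 4 * a : ℕ) : ℚ) * y ^ a) * (1 - y) ^ 2 =
      (1 + y) ^ 2 - 4 * (A + 1) * y ^ (A + 1) + 4 * A * y ^ (A + 2) := by
    intro A
    induction A with
    | zero => norm_num; ring
    | succ A ih =>
      rw [Finset.sum_range_succ, add_mul, ih, if_neg (Nat.succ_ne_zero A)]
      push_cast
      ring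
  refine (Finset.sum_le_sum_of_subset_of_nonneg (Finset.range_mono (show A ≤ A + 1 by omega))
    fun _ _ _ => by positivity).trans ?_
  rw [div_pow, le_div_iff₀ (pow_pos (by linarith) 2), hS]
  have h2 : y ^ (A + 2) ≤ y ^ (A + 1) := pow_le_pow_of_le_one h0 h1.le (by omega)
  have h3 : (0 : ℚ) ≤ y ^ (A + 1) := by positivity
  have h4 : (A : ℚ) * y ^ (A + 2) ≤ A * y ^ (A + 1) := mul_le_mul_of_nonneg_left h2 (Nat.cast_nonneg A)
  linarith

theorem cntW_three : ∀ m N, (cntW 3 m N : ℚ) ≤ KW m * (3 / 2) ^ N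
  | 0, N => by
    by_cases h : N = 0
    · simp [cntW, KW, h]
    · simp only [cntW, KW, if_neg h, Nat.cast_zero]
      positivity
  | m + 1, N => by
    have hsub : ∀ k, k ≤ N →
        (cntW 3 m (N - k) : ℚ) ≤ KW m * ((3 / 2) ^ N * (2 / 3) ^ k) := fun k hk => by
      refine (cntW_three m (N - k)).trans (le_of_eq ?_)
      rw [pow_sub₀ _ (by norm_num) hk, ← inv_pow]
      norm_num
    rw [cntW, KW]
    by_cases hev : Even (m + 1)
    · rw [if_pos hev, if_pos hev]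
      have h2 : 2 ≤ m + 1 := by obtain ⟨i, hi⟩ := hev; omega
      have h3 : ((2 : ℚ) / 3) ^ (2 * (m + 1)) ≤ (2 / 3) ^ 4 :=
        pow_le_pow_of_le_one (by norm_num) (by norm_num) (by omega)
      norm_num at h3
      have h0 : (0 : ℚ) ≤ (2 / 3) ^ (2 * (m + 1)) := by positivity
      push_cast
      calc ∑ e ∈ Finset.range (N / (2 * (m + 1)) + 1), (3 : ℚ) ^ e * cntW 3 m (N - 2 * e * (m + 1))
          ≤ ∑ e ∈ Finset.range (N / (2 * (m + 1)) + 1),
              KW m * (3 / 2) ^ N * (3 * (2 / 3) ^ (2 * (m + 1))) ^ e := by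
            refine Finset.sum_le_sum fun e he => ?_
            rw [Finset.mem_range, Nat.lt_succ_iff, Nat.le_div_iff_mul_le (by omega)] at he
            refine (mul_le_mul_of_nonneg_left (hsub _ (by rw [mul_assoc, mul_left_comm]; exact he))
              (by positivity)).trans (le_of_eq ?_)
            rw [mul_pow, ← pow_mul, show 2 * e * (m + 1) = 2 * (m + 1) * e by ring]
            ring
        _ = KW m * (3 / 2) ^ N * ∑ e ∈ Finset.range (N / (2 * (m + 1)) + 1),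
              (3 * ((2 : ℚ) / 3) ^ (2 * (m + 1))) ^ e := (Finset.mul_sum _ _ _).symm
        _ ≤ KW m * (3 / 2) ^ N * (1 / (1 - 3 * (2 / 3) ^ (2 * (m + 1)))) :=
            mul_le_mul_of_nonneg_left (geom_le' (by positivity) (by linarith) _)
              (mul_nonneg (KW_pos m) (by positivity))
        _ = _ := by ring
    · rw [if_neg hev, if_neg hev, Nat.cast_sum]
      calc ∑ a ∈ Finset.range (N / (m + 1) + 1),
            (((if a = 0 then 1 else 4 * a) * cntW 3 m (N - a * (m + 1)) : ℕ) : ℚ)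
          ≤ ∑ a ∈ Finset.range (N / (m + 1) + 1),
              KW m * (3 / 2) ^ N * (((if a = 0 then 1 else 4 * a : ℕ) : ℚ) * ((2 / 3) ^ (m + 1)) ^ a) := by
            refine Finset.sum_le_sum fun a ha => ?_
            rw [Finset.mem_range, Nat.lt_succ_iff, Nat.le_div_iff_mul_le (by omega)] at ha
            rw [Nat.cast_mul]
            refine (mul_le_mul_of_nonneg_left (hsub _ ha) (by positivity)).trans (le_of_eq ?_)
            rw [← pow_mul, mul_comm (m + 1) a]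
            ring
        _ = KW m * (3 / 2) ^ N * ∑ a ∈ Finset.range (N / (m + 1) + 1),
              ((if a = 0 then 1 else 4 * a : ℕ) : ℚ) * (((2 : ℚ) / 3) ^ (m + 1)) ^ a :=
            (Finset.mul_sum _ _ _).symm
        _ ≤ KW m * (3 / 2) ^ N * ((1 + (2 / 3) ^ (m + 1)) / (1 - (2 / 3) ^ (m + 1))) ^ 2 :=
            mul_le_mul_of_nonneg_left (sq_series (by positivity)
              (pow_lt_one₀ (by norm_num) (by norm_num) (Nat.succ_ne_zero m)) _)
              (mul_nonneg (KW_pos m) (by positivity))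
        _ = _ := by ring

/-! ### Comparing with `q = 3` -/

theorem scale {q a b k l : ℕ} (hq : 3 ≤ q) (h : a * 3 ^ k ≤ b * q ^ k) (hkl : k ≤ l) :
    a * 3 ^ l ≤ b * q ^ l := by
  obtain ⟨t, rfl⟩ := Nat.exists_eq_add_of_le hkl
  rw [pow_add, pow_add, ← mul_assoc, ← mul_assoc]
  exact Nat.mul_le_mul h (Nat.pow_le_pow_left hq t)

theorem mul_scale {q a b c d k l r : ℕ} (hq : 3 ≤ q) (h1 : a * 3 ^ k ≤ b * q ^ k) (h2 : c * 3 ^ l ≤ d * q ^ l)
    (hkl : k + l ≤ r) : a * c * 3 ^ r ≤ b * d * q ^ r := by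
  refine scale hq ?_ hkl
  calc a * c * 3 ^ (k + l) = a * 3 ^ k * (c * 3 ^ l) := by ring
    _ ≤ b * q ^ k * (d * q ^ l) := Nat.mul_le_mul h1 h2
    _ = _ := by ring

theorem NN_cmp {q : ℕ} (hq : 3 ≤ q) (a r : ℕ) (hr : a / 2 ≤ r) : NN q a * 3 ^ r ≤ NN 3 a * q ^ r := by
  rw [NN, NN]
  split_ifs with h
  · rw [one_mul, one_mul]
    exact Nat.pow_le_pow_left hq r
  · rw [add_mul, add_mul]
    exact Nat.add_le_add (scale hq (le_of_eq (mul_comm _ _)) hr) (scale hq (le_of_eq (mul_comm _ _)) (by omega))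

theorem SS_cmp {q : ℕ} (hq : 3 ≤ q) (a : ℕ) : SS q a * 3 ^ (a / 2) ≤ SS 3 a * q ^ (a / 2) := by
  rw [SS, SS, add_mul, add_mul, add_mul, add_mul]
  refine Nat.add_le_add (Nat.add_le_add (NN_cmp hq a _ le_rfl) ?_) ?_
  · split_ifs
    · rw [mul_assoc, mul_assoc]
      exact Nat.mul_le_mul_left 2 (NN_cmp hq _ _ (by omega))
    · simp
  · split_ifs
    · exact NN_cmp hq _ _ (by omega)
    · simp

theorem cntO_cmp {q : ℕ} (hq : 3 ≤ q) : ∀ m N, cntO q m N * 3 ^ (N / 2) ≤ cntO 3 m N * q ^ (N / 2)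
  | 0, N => by
    by_cases h : N = 0 <;> simp [cntO, h]
  | m + 1, N => by
    rw [cntO, cntO]
    by_cases hev : Even (m + 1)
    · rw [if_pos hev, if_pos hev, Finset.sum_mul, Finset.sum_mul]
      refine Finset.sum_le_sum fun e he => ?_
      rw [Finset.mem_range, Nat.lt_succ_iff, Nat.le_div_iff_mul_le (by omega)] at he
      refine mul_scale hq (le_of_eq (mul_comm (q ^ e) (3 ^ e))) (cntO_cmp hq m _) ?_
      have h1 : e ≤ e * (m + 1) := Nat.le_mul_of_pos_right e (by omega)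
      rw [show e * (2 * (m + 1)) = 2 * (e * (m + 1)) by ring] at he
      rw [show 2 * e * (m + 1) = 2 * (e * (m + 1)) by ring]
      omega
    · rw [if_neg hev, if_neg hev, Finset.sum_mul, Finset.sum_mul]
      refine Finset.sum_le_sum fun a ha => ?_
      rw [Finset.mem_range, Nat.lt_succ_iff, Nat.le_div_iff_mul_le (by omega)] at ha
      refine mul_scale hq (SS_cmp hq a) (cntO_cmp hq m _) ?_
      have h1 : a ≤ a * (m + 1) := Nat.le_mul_of_pos_right a (by omega)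
      omega

theorem cntW_cmp {q : ℕ} (hq : 3 ≤ q) : ∀ m N, cntW q m N * 3 ^ (N / 2) ≤ cntW 3 m N * q ^ (N / 2)
  | 0, N => by
    by_cases h : N = 0 <;> simp [cntW, h]
  | m + 1, N => by
    rw [cntW, cntW]
    by_cases hev : Even (m + 1)
    · rw [if_pos hev, if_pos hev, Finset.sum_mul, Finset.sum_mul]
      refine Finset.sum_le_sum fun e he => ?_
      rw [Finset.mem_range, Nat.lt_succ_iff, Nat.le_div_iff_mul_le (by omega)] at he
      refine mul_scale hq (le_of_eq (mul_comm (q ^ e) (3 ^ e))) (cntW_cmp hq m _) ?_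
      have h1 : e ≤ e * (m + 1) := Nat.le_mul_of_pos_right e (by omega)
      rw [show e * (2 * (m + 1)) = 2 * (e * (m + 1)) by ring] at he
      rw [show 2 * e * (m + 1) = 2 * (e * (m + 1)) by ring]
      omega
    · rw [if_neg hev, if_neg hev, Finset.sum_mul, Finset.sum_mul]
      refine Finset.sum_le_sum fun a ha => ?_
      refine mul_scale hq (k := 0) (le_of_eq (by rw [pow_zero, pow_zero])) (cntW_cmp hq m _) ?_
      omega

/-- The tail: from `n = 24` on. -/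
theorem odd_tail {q : ℕ} (hq : 3 ≤ q) {n : ℕ} (hn : 24 ≤ n) :
    5 * (cntO q (2 * n + 1) (2 * n + 1) + cntW q (2 * n + 1) (2 * n + 1)) ≤ 146 * q ^ n := by
  have hT := (cntO_le hq (2 * n + 1) n).2.trans (mul_le_mul_of_nonneg_right (EO_snd_le _) (by positivity))
  have h3 : (cntW 3 (2 * n + 1) (2 * n + 1) : ℚ) ≤ (3 : ℚ) ^ n := by
    refine (cntW_three _ _).trans ((mul_le_mul_of_nonneg_right (KW_le _) (by positivity)).trans ?_)
    obtain ⟨k, rfl⟩ := Nat.exists_eq_add_of_le hn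
    rw [show 2 * (24 + k) + 1 = 49 + 2 * k by omega, pow_add, pow_mul, pow_add (3 : ℚ), ← mul_assoc]
    refine mul_le_mul (by norm_num) (pow_le_pow_left₀ (by norm_num) (by norm_num) k) (by positivity)
      (by positivity)
  have h3' : cntW 3 (2 * n + 1) (2 * n + 1) ≤ 3 ^ n := by exact_mod_cast h3
  have hW : cntW q (2 * n + 1) (2 * n + 1) ≤ q ^ n := by
    have h := cntW_cmp hq (2 * n + 1) (2 * n + 1)
    rw [show (2 * n + 1) / 2 = n by omega] at h
    refine Nat.le_of_mul_le_mul_right ?_ (pow_pos (show 0 < 3 by norm_num) n)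
    exact h.trans ((Nat.mul_le_mul_right _ h3').trans (le_of_eq (mul_comm _ _)))
  have hT' : ((5 * cntO q (2 * n + 1) (2 * n + 1) : ℕ) : ℚ) ≤ ((141 * q ^ n : ℕ) : ℚ) := by
    push_cast
    linarith
  have hT'' : 5 * cntO q (2 * n + 1) (2 * n + 1) ≤ 141 * q ^ n := by exact_mod_cast hT'
  omega

/-- From a table at `q = 3` to all `q`. -/
theorem odd_small {q : ℕ} (hq : 3 ≤ q) {n : ℕ}
    (h : 5 * (cntO 3 (2 * n + 1) (2 * n + 1) + cntW 3 (2 * n + 1) (2 * n + 1)) ≤ 146 * 3 ^ n) :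
    5 * (cntO q (2 * n + 1) (2 * n + 1) + cntW q (2 * n + 1) (2 * n + 1)) ≤ 146 * q ^ n := by
  have h1 := cntO_cmp hq (2 * n + 1) (2 * n + 1)
  have h2 := cntW_cmp hq (2 * n + 1) (2 * n + 1)
  rw [show (2 * n + 1) / 2 = n by omega] at h1 h2
  refine Nat.le_of_mul_le_mul_right ?_ (pow_pos (show 0 < 3 by norm_num) n)
  calc 5 * (cntO q (2 * n + 1) (2 * n + 1) + cntW q (2 * n + 1) (2 * n + 1)) * 3 ^ n
      = 5 * (cntO q (2 * n + 1) (2 * n + 1) * 3 ^ n + cntW q (2 * n + 1) (2 * n + 1) * 3 ^ n) := by ring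
    _ ≤ 5 * (cntO 3 (2 * n + 1) (2 * n + 1) * q ^ n + cntW 3 (2 * n + 1) (2 * n + 1) * q ^ n) :=
        Nat.mul_le_mul_left 5 (Nat.add_le_add h1 h2)
    _ = 5 * (cntO 3 (2 * n + 1) (2 * n + 1) + cntW 3 (2 * n + 1) (2 * n + 1)) * q ^ n := by ring
    _ ≤ 146 * 3 ^ n * q ^ n := Nat.mul_le_mul_right _ h
    _ = _ := by ring

end Cfsg.Agent.FormCount
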