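import Cfsg.Agent.Lib.Classical.FormCount.OCount
import Cfsg.Agent.Lib.Classical.FormCount.OOddArith

/-!
Weighted counting of the codes whose parts of odd size have only the roots `±1`.
-/

set_option autoImplicit false
set_option linter.style.haveILetI false
set_option linter.unusedSectionVars false

namespace Cfsg.Agent.FormCount

open Polynomial Cfsg.Agent.GLCount Cfsg.Agent.SLWeight

variable {F : Type*} [Field F]

/-- A product of powers of `X - 1` and `X + 1`. -/
def PM (p : F[X]) : Prop := ∃ a b : ℕ, p = (X - 1) ^ a * (X + 1) ^ b

/-- The parts of odd size have only the roots `±1`. -/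
def EvT : List F[X] → Prop
  | [] => True
  | p :: l => (¬ Even (l.length + 1) → PM p) ∧ EvT l

variable [Fintype F] [DecidableEq F]

open Classical in
theorem sum_pm (h2 : (2 : F) ≠ 0) (a : ℕ) :
    ∑ p ∈ (polys F a).filter PM, 2 ^ sroots p ≤ if a = 0 then 1 else 4 * a := by
  classical
  let f : ℕ → F[X] := fun i => (X - 1) ^ i * (X + 1) ^ (a - i)
  have hsub : (polys F a).filter PM ⊆ (Finset.range (a + 1)).image f := by
    intro p hp
    rw [Finset.mem_filter] at hp
    obtain ⟨hp, i, j, rfl⟩ := hp
    have h1 : ((X : F[X]) - 1).Monic := by simpa using monic_X_sub_C (1 : F)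
    have h3 : ((X : F[X]) + 1).Monic := by simpa using monic_X_add_C (1 : F)
    have hd : a = i + j := by
      rw [← (polys_spec hp).2.1, (h1.pow i).natDegree_mul (h3.pow j), natDegree_pow, natDegree_pow,
        show ((X : F[X]) - 1).natDegree = 1 by simpa using natDegree_X_sub_C (1 : F),
        show ((X : F[X]) + 1).natDegree = 1 by simpa using natDegree_X_add_C (1 : F), mul_one, mul_one]
    exact Finset.mem_image.2 ⟨i, Finset.mem_range.2 (by omega),
      by simp only [f]; rw [show a - i = j by omega]⟩
  refine ((Finset.sum_le_sum_of_subset hsub).trans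
    (Finset.sum_image_le_of_nonneg fun _ _ => Nat.zero_le _)).trans ?_
  split_ifs with ha
  · subst ha
    simp [f, sroots]
  have hne : (1 : F) + 1 ≠ 0 := by rw [one_add_one_eq_two]; exact h2
  have hne' : (-1 : F) - 1 ≠ 0 := fun h => h2 (by linear_combination -h)
  have hw : ∀ i, 2 ^ sroots (f i) + ((if i = 0 then 2 else 0) + (if i = a then 2 else 0)) ≤ 4 := by
    intro i
    have hle : sroots (f i) ≤ 2 := by
      unfold sroots
      convert (Finset.card_filter_le ({1, -1} : Finset F) fun s => (f i).eval s = 0).trans
        Finset.card_le_two using 3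
      all_goals (ext; simp)
    by_cases h0 : i = 0
    · have h1 : sroots (f i) ≤ 1 := by
        refine le_of_le_of_eq (Finset.card_le_card (t := {-1}) fun s hs => ?_) (Finset.card_singleton _)
        simp only [Finset.mem_filter, Finset.mem_insert, Finset.mem_singleton] at hs
        rcases hs with ⟨rfl | rfl, he⟩
        · simp [f, h0, hne] at he
        · exact Finset.mem_singleton_self _
      rw [if_pos h0, if_neg (by omega)]
      have := Nat.pow_le_pow_right two_pos h1
      omega
    rw [if_neg h0]
    by_cases hi : i = a
    · have h1 : sroots (f i) ≤ 1 := by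
        refine le_of_le_of_eq (Finset.card_le_card (t := {1}) fun s hs => ?_) (Finset.card_singleton _)
        simp only [Finset.mem_filter, Finset.mem_insert, Finset.mem_singleton] at hs
        rcases hs with ⟨rfl | rfl, he⟩
        · exact Finset.mem_singleton_self _
        · simp [f, hi, hne'] at he
      rw [if_pos hi]
      have := Nat.pow_le_pow_right two_pos h1
      omega
    · rw [if_neg hi]
      have := Nat.pow_le_pow_right two_pos hle
      omega
  have := Finset.sum_le_sum fun i (_ : i ∈ Finset.range (a + 1)) => hw i
  rw [Finset.sum_add_distrib, Finset.sum_add_distrib, Finset.sum_ite_eq', Finset.sum_ite_eq',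
    if_pos (Finset.mem_range.2 (by omega)), if_pos (Finset.mem_range.2 (by omega)), Finset.sum_const,
    Finset.card_range, smul_eq_mul] at this
  omega

open Classical in
/-- The weight of a code whose parts of odd size have only the roots `±1`. -/
noncomputable def wT (l : List F[X]) : ℕ := if EvT l then 2 ^ wexpO l else 0

theorem weightW_le (h2 : (2 : F) ≠ 0) : ∀ m N,
    ∑ l ∈ seqsO (F := F) m N, wT l ≤ cntW (Fintype.card F) m N
  | 0, N => by
    classical
    by_cases hn : N = 0
    · subst hn
      simp [seqsO, seqs, GoodO, wexpO, wT, EvT, cntW, Finset.filter_singleton]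
    · simp [seqsO, seqs, cntW, hn]
  | m + 1, N => by
    classical
    refine (Finset.sum_le_sum_of_subset (seqsO_succ m N)).trans ((sum_biUnion_le' _ _ _).trans ?_)
    have hlen : ∀ n, ∀ l ∈ seqsO (F := F) m n, l.length = m := fun n l hl =>
      length_seqs m _ (Finset.mem_filter.1 hl).1
    refine le_trans (Finset.sum_le_sum fun a _ => (Finset.sum_image_le_of_nonneg fun _ _ => Nat.zero_le _).trans
      (le_of_eq (Finset.sum_product _ _ _))) ?_
    rw [cntW]
    by_cases hev : Even (m + 1)
    · rw [if_pos hev]
      refine le_trans (Finset.sum_le_sum fun a _ => ?_) (sum_evn h2 m N fun n => cntW (Fintype.card F) m n)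
      refine le_trans (Finset.sum_le_sum (g := fun _ => cntW (Fintype.card F) m (N - a * (m + 1)))
        fun p _ => ?_) ?_
      · refine le_trans (le_of_eq (Finset.sum_congr rfl fun l hl => ?_)) (weightW_le h2 m _)
        simp only [wT, EvT, wexpO, hlen _ l hl, hev, not_true_eq_false, IsEmpty.forall_iff, true_and,
          if_true, zero_add]
      · rw [Finset.sum_const, smul_eq_mul]
        refine Nat.mul_le_mul_right _ (Finset.card_le_card fun p hp => ?_)
        obtain ⟨hp1, hp2, hp3⟩ := Finset.mem_filter.1 hp
        exact Finset.mem_filter.2 ⟨Finset.mem_filter.2 ⟨hp1, hp2⟩, hp3 hev⟩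
    · rw [if_neg hev]
      refine Finset.sum_le_sum fun a _ => ?_
      refine le_trans (Finset.sum_le_sum
        (g := fun p => (if PM p then 2 ^ sroots p else 0) * cntW (Fintype.card F) m (N - a * (m + 1)))
        fun p _ => ?_) ?_
      · refine le_trans (le_of_eq ?_) (Nat.mul_le_mul_left _ (weightW_le h2 m _))
        rw [Finset.mul_sum]
        refine Finset.sum_congr rfl fun l hl => ?_
        simp only [wT, EvT, wexpO, hlen _ l hl, hev, not_false_eq_true, forall_const, if_false, pow_add]
        by_cases h1 : PM p <;> by_cases h3 : EvT l <;> simp [h1, h3]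
      · rw [← Finset.sum_mul, ← Finset.sum_filter, Finset.filter_filter]
        refine Nat.mul_le_mul_right _ ((Finset.sum_le_sum_of_subset fun p hp => ?_).trans (sum_pm h2 a))
        obtain ⟨hp1, -, hp2⟩ := Finset.mem_filter.1 hp
        exact Finset.mem_filter.2 ⟨hp1, hp2⟩

end Cfsg.Agent.FormCount
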