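import Mathlib

/-!
Classes of a subgroup of index two, and of a subgroup of index four complemented by a central element.
-/

set_option autoImplicit false

namespace Cfsg.Agent.FormCount

variable {G : Type*} [Group G]

open Classical in
theorem classes_double [Finite G] [Fintype (ConjClasses G)] (H K : Subgroup G) [H.Normal] [K.Normal]
    (hHK : H ≤ K) (z : G) (hz : ∀ a, Commute z a) (hzK : z ∉ K) (hK2 : ∀ a, a ∉ K → a * z ∈ K)
    (hidx : ∀ a ∈ K, ∀ b ∈ K, a ∉ H → b ∉ H → a * b⁻¹ ∈ H) :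
    2 * Nat.card (ConjClasses H) ≤
      ∑ D : ConjClasses G, (if ∃ h ∈ K, h ∉ H ∧ Commute h D.out then 1 else 2) := by
  classical
  have := Fintype.ofFinite (ConjClasses H)
  let el : ConjClasses H × Bool → G := fun x => if x.2 then z * (x.1.out : G) else (x.1.out : G)
  let Φ : ConjClasses H × Bool → ConjClasses G := fun x => ConjClasses.mk (el x)
  have hconj : ∀ a u : G, u * a * u⁻¹ ∈ K ↔ a ∈ K := fun a u =>
    ⟨fun h => by simpa [mul_assoc] using Subgroup.Normal.conj_mem ‹_› _ h u⁻¹,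
      fun h => Subgroup.Normal.conj_mem ‹_› _ h u⟩
  have hel : ∀ x, el x ∈ K ↔ x.2 = false := by
    rintro ⟨C, _ | _⟩
    · exact iff_of_true (hHK C.out.2) rfl
    · refine iff_of_false (fun h => hzK ?_) (by simp)
      have := K.mul_mem h (K.inv_mem (hHK C.out.2))
      simpa [el] using this
  -- two members of a fibre differ by a conjugation inside `K`
  have hrel : ∀ x y, Φ x = Φ y → x.2 = y.2 ∧ ∃ t ∈ K, t * (x.1.out : G) * t⁻¹ = (y.1.out : G) := by
    intro x y h
    obtain ⟨u, hu⟩ := isConj_iff.1 (ConjClasses.mk_eq_mk_iff_isConj.1 h)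
    have h2 : x.2 = y.2 := by
      have := hconj (el x) u
      rw [hu, hel, hel] at this
      revert this
      cases x.2 <;> cases y.2 <;> simp
    have h3 : u * (x.1.out : G) * u⁻¹ = (y.1.out : G) := by
      simp only [el, h2] at hu
      cases hy : y.2 <;> rw [hy] at hu
      · simpa using hu
      · simp only [if_true] at hu
        rwa [← mul_assoc u, ← (hz u).eq, mul_assoc z, mul_assoc z, mul_right_inj] at hu
    refine ⟨h2, ?_⟩
    by_cases hu' : u ∈ K
    · exact ⟨u, hu', h3⟩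
    · refine ⟨u * z, hK2 u hu', ?_⟩
      rw [mul_assoc u z, (hz (x.1.out : G)).eq, ← mul_assoc u, mul_inv_rev, mul_assoc (u * (x.1.out : G)) z,
        mul_inv_cancel_left, h3]
  have hH : ∀ x y, x.2 = y.2 → ∀ t ∈ H, t * (x.1.out : G) * t⁻¹ = (y.1.out : G) →
      (x : ConjClasses H × Bool) = y := by
    intro x y h2 t ht h
    refine Prod.ext ?_ h2
    rw [← Quotient.out_eq x.1, ← Quotient.out_eq y.1]
    exact ConjClasses.mk_eq_mk_iff_isConj.2 (isConj_iff.2 ⟨⟨t, ht⟩, Subtype.ext h⟩)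
  have hdiff : ∀ x y, Φ x = Φ y → x ≠ y → ∃ t ∈ K, t ∉ H ∧ t * (x.1.out : G) * t⁻¹ = (y.1.out : G) :=
    fun x y h hne =>
      let ⟨h2, t, ht, ht'⟩ := hrel x y h
      ⟨t, ht, fun htH => hne (hH x y h2 t htH ht'), ht'⟩
  rw [Nat.card_eq_fintype_card, mul_comm, ← Fintype.card_bool, ← Fintype.card_prod, ← Finset.card_univ,
    Finset.card_eq_sum_card_fiberwise (f := Φ) (t := Finset.univ) fun _ _ => Finset.mem_univ _]
  refine Finset.sum_le_sum fun D _ => ?_
  split_ifs with hD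
  · refine Finset.card_le_one.2 fun x hx y hy => ?_
    rw [Finset.mem_filter] at hx hy
    by_contra hne
    obtain ⟨t, ht, htH, ht'⟩ := hdiff x y (hx.2.trans hy.2.symm) hne
    obtain ⟨h, hh, hhH, hc⟩ := hD
    obtain ⟨c, hc'⟩ := isConj_iff.1 (ConjClasses.mk_eq_mk_iff_isConj.1
      (hx.2.trans (Quotient.out_eq D).symm : ConjClasses.mk (el x) = ConjClasses.mk D.out))
    have hk : Commute (c⁻¹ * h * c) (el x) := by
      have e : el x = c⁻¹ * D.out * c := by rw [← hc']; group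
      rw [e, Commute, SemiconjBy]
      have := hc.eq
      calc c⁻¹ * h * c * (c⁻¹ * D.out * c) = c⁻¹ * (h * D.out) * c := by group
        _ = c⁻¹ * (D.out * h) * c := by rw [this]
        _ = _ := by group
    have hk' : Commute (c⁻¹ * h * c) (x.1.out : G) := by
      cases hb : x.2 <;> simp only [el, hb] at hk
      · simpa using hk
      · simp only [if_true] at hk
        have := (Commute.inv_right (hz (c⁻¹ * h * c)).symm).mul_right hk
        simpa using this
    have hkK : c⁻¹ * h * c ∈ K := by simpa using Subgroup.Normal.conj_mem ‹K.Normal› _ hh c⁻¹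
    have hkH : c⁻¹ * h * c ∉ H := fun h' => hhH (by
      simpa [mul_assoc] using Subgroup.Normal.conj_mem ‹H.Normal› _ h' c)
    refine hne (hH x y (hrel x y (hx.2.trans hy.2.symm)).1 _ (hidx t ht _ hkK htH hkH) ?_)
    obtain ⟨k, hk0⟩ : ∃ k, c⁻¹ * h * c = k := ⟨_, rfl⟩
    rw [hk0] at hk' ⊢
    calc t * k⁻¹ * (x.1.out : G) * (t * k⁻¹)⁻¹ = t * (k⁻¹ * ((x.1.out : G) * k)) * t⁻¹ := by group
      _ = _ := by rw [← hk'.eq, inv_mul_cancel_left, ht']
  · by_contra hlt
    obtain ⟨x, y, w, hx, hy, hw, hxy, hxw, hyw⟩ := Finset.two_lt_card_iff.1 (not_le.1 hlt)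
    rw [Finset.mem_filter] at hx hy hw
    obtain ⟨t, ht, htH, ht'⟩ := hdiff x y (hx.2.trans hy.2.symm) hxy
    obtain ⟨s, hs, hsH, hs'⟩ := hdiff x w (hx.2.trans hw.2.symm) hxw
    refine hyw (hH y w (hrel y w (hy.2.trans hw.2.symm)).1 _ (hidx s hs t ht hsH htH) ?_)
    rw [← ht', ← hs', mul_inv_rev, inv_inv]
    group

theorem comm_pairs_le (A H K : Subgroup G) [Finite G]
    (hidx : ∀ a ∈ K, ∀ b ∈ K, a ∉ H → b ∉ H → a * b⁻¹ ∈ H) :
    Nat.card {p : A × K // Commute (p.1 : G) p.2} ≤ 2 * Nat.card {p : A × H // Commute (p.1 : G) p.2} := by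
  classical
  have h0 : ∀ a : A, ∃ b0 : G, Commute (a : G) b0 ∧
      ∀ b ∈ K, Commute (a : G) b → b ∉ H → b * b0⁻¹ ∈ H := by
    intro a
    by_cases h : ∃ b ∈ K, Commute (a : G) b ∧ b ∉ H
    · obtain ⟨b0, hb0, hc, hn⟩ := h
      exact ⟨b0, hc, fun b hb _ hbn => hidx b hb b0 hb0 hbn hn⟩
    · exact ⟨1, Commute.one_right _, fun b hb hc hbn => absurd ⟨b, hb, hc, hbn⟩ h⟩
  choose b0 hb0 hb0' using h0
  refine le_of_le_of_eq (Nat.card_le_card_of_injective (β := Bool × {p : A × H // Commute (p.1 : G) p.2})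
    (fun p => if h : (p.1.2 : G) ∈ H then (false, ⟨(p.1.1, ⟨_, h⟩), p.2⟩)
      else (true, ⟨(p.1.1, ⟨_, hb0' p.1.1 _ p.1.2.2 p.2 h⟩), p.2.mul_right (hb0 _).inv_right⟩)) ?_) ?_
  · intro p p' h
    dsimp only at h
    split_ifs at h <;> simp only [Prod.mk.injEq, Subtype.mk.injEq, reduceCtorEq, false_and, true_and] at h
    · exact Subtype.ext (Prod.ext h.1 (Subtype.ext h.2))
    · obtain ⟨h1, h3⟩ := h
      rw [h1, mul_left_inj] at h3
      exact Subtype.ext (Prod.ext h1 (Subtype.ext h3))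
  · rw [Nat.card_prod, Nat.card_eq_fintype_card (α := Bool), Fintype.card_bool]

theorem classes_le_two [Finite G] {H K : Subgroup G} (hHK : H ≤ K)
    (hidx : ∀ a ∈ K, ∀ b ∈ K, a ∉ H → b ∉ H → a * b⁻¹ ∈ H) (hne : ∃ b ∈ K, b ∉ H) :
    Nat.card (ConjClasses K) ≤ 2 * Nat.card (ConjClasses H) := by
  classical
  have hpairs : ∀ A : Subgroup G, Nat.card {p : A × A // Commute (p.1 : G) p.2} =
      Nat.card (ConjClasses A) * Nat.card A := fun A => by
    rw [← card_comm_eq_card_conjClasses_mul_card]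
    exact Nat.card_congr (Equiv.subtypeEquivRight fun p =>
      ⟨fun h => Subtype.ext h, fun h => congrArg Subtype.val h⟩)
  have hswap : Nat.card {p : K × H // Commute (p.1 : G) p.2} = Nat.card {p : H × K // Commute (p.1 : G) p.2} :=
    Nat.card_congr ⟨fun p => ⟨(p.1.2, p.1.1), p.2.symm⟩, fun p => ⟨(p.1.2, p.1.1), p.2.symm⟩,
      fun _ => rfl, fun _ => rfl⟩
  have h4 : Nat.card (ConjClasses K) * Nat.card K ≤ 2 * (2 * (Nat.card (ConjClasses H) * Nat.card H)) := by
    rw [← hpairs, ← hpairs]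
    refine (comm_pairs_le K H K hidx).trans (Nat.mul_le_mul_left 2 ?_)
    rw [hswap]
    exact comm_pairs_le H H K hidx
  have hK : 2 * Nat.card H ≤ Nat.card K := by
    obtain ⟨b, hb, hbn⟩ := hne
    rw [show 2 * Nat.card H = Nat.card (Bool × H) by
      rw [Nat.card_prod, Nat.card_eq_fintype_card (α := Bool), Fintype.card_bool]]
    refine Nat.card_le_card_of_injective (fun x => if x.1 then ⟨x.2 * b, K.mul_mem (hHK x.2.2) hb⟩
      else (⟨x.2, hHK x.2.2⟩ : K)) fun x x' h => ?_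
    obtain ⟨s, ⟨a, ha⟩⟩ := x
    obtain ⟨s', ⟨a', ha'⟩⟩ := x'
    cases s <;> cases s' <;> simp at h <;>
      first
        | (subst h; rfl)
        | exact absurd (h ▸ ha : a' * b ∈ H) fun h' => hbn ((H.mul_mem_cancel_left ha').1 h')
        | exact absurd (h.symm ▸ ha' : a * b ∈ H) fun h' => hbn ((H.mul_mem_cancel_left ha).1 h')
  refine Nat.le_of_mul_le_mul_right (le_trans (Nat.mul_le_mul_left _ hK) (le_of_le_of_eq h4 ?_))
    (Nat.mul_pos two_pos Nat.card_pos)
  ring

end Cfsg.Agent.FormCount
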