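import Cfsg.Agent.Lib.Classical.FormCount.HermUnit
import Cfsg.Agent.Lib.Classical.FormCount.Disc

/-!
Commuting products of reflections with non-square norm product.
-/

set_option autoImplicit false
set_option linter.style.haveILetI false
set_option linter.unusedSectionVars false

namespace Cfsg.Agent.FormCount

open Polynomial Module
open LinearMap (BilinForm)

universe u

variable {F : Type u} [Field F] [Fintype F]

section Refl

variable {V : Type u} [AddCommGroup V] [Module F V]

/-- The reflection in a vector. -/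
noncomputable def refl' (β : BilinForm F V) (v x : V) : V := x - (2 * β x v / β v v) • v

/-- The product of the reflections in a list of vectors. -/
noncomputable def rfold (β : BilinForm F V) (l : List V) (x : V) : V := l.foldr (refl' β) x

open Classical in
/-- A product of an even number of reflections with non-square norm product commutes with `γ`. -/
def Twist (β : BilinForm F V) (γ : V → V) : Prop :=
  ∃ l : List V, Even l.length ∧ (∀ v ∈ l, β v v ≠ 0) ∧
    quadraticChar F ((l.map fun v => β v v).prod) = -1 ∧ ∀ x, γ (rfold β l x) = rfold β l (γ x)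

theorem rfold_cons (β : BilinForm F V) (v : V) (l : List V) (x : V) :
    rfold β (v :: l) x = refl' β v (rfold β l x) := rfl

theorem rfold_append (β : BilinForm F V) (l l' : List V) (x : V) :
    rfold β (l ++ l') x = rfold β l (rfold β l' x) := List.foldr_append

theorem rfold_orth (β : BilinForm F V) {n : ℕ} (b : Fin n → V)
    (horth : ∀ i k, i ≠ k → β (b i) (b k) = 0) (x : V) :
    rfold β (List.ofFn b) x = x - ∑ i, (2 * β x (b i) / β (b i) (b i)) • b i := by
  induction n with
  | zero => simp [rfold]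
  | succ n ih =>
    have hz : β (∑ i : Fin n, (2 * β x (b i.succ) / β (b i.succ) (b i.succ)) • b i.succ) (b 0) = 0 := by
      rw [map_sum, LinearMap.sum_apply]
      refine Finset.sum_eq_zero fun i _ => ?_
      rw [map_smul, LinearMap.smul_apply, horth _ _ (Fin.succ_ne_zero i), smul_zero]
    rw [List.ofFn_succ, rfold_cons, ih (fun i => b i.succ) (fun i k h => horth _ _ fun e => h (Fin.succ_injective _ e)),
      refl', map_sub, LinearMap.sub_apply, hz, sub_zero, Fin.sum_univ_succ]
    abel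

/-- A map negating an orthogonal family and fixing its orthogonal is the product of its reflections. -/
theorem rfold_eq {β : BilinForm F V} (hsym : ∀ x y, β y x = β x y) {n : ℕ} (b : Fin n → V)
    (horth : ∀ i k, i ≠ k → β (b i) (b k) = 0) (hne : ∀ i, β (b i) (b i) ≠ 0) (T : V →ₗ[F] V)
    (hT : ∀ i, T (b i) = -b i) (hfix : ∀ y, (∀ i, β (b i) y = 0) → T y = y) (x : V) :
    rfold β (List.ofFn b) x = T x := by
  obtain ⟨c, hc⟩ : ∃ c : Fin n → F, c = fun i => β x (b i) / β (b i) (b i) := ⟨_, rfl⟩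
  obtain ⟨y, hy⟩ : ∃ y, y = x - ∑ i, c i • b i := ⟨_, rfl⟩
  have hyo : ∀ k, β (b k) y = 0 := by
    intro k
    rw [hy, map_sub, map_sum, Finset.sum_eq_single k (fun i _ hi => by
      rw [map_smul, horth _ _ hi.symm, smul_zero]) (fun h => absurd (Finset.mem_univ k) h),
      map_smul, smul_eq_mul, hc, div_mul_cancel₀ _ (hne k), hsym x, sub_self]
  have hx : x = y + ∑ i, c i • b i := by rw [hy, sub_add_cancel]
  have hdouble : ∑ i, (2 * β x (b i) / β (b i) (b i)) • b i = ∑ i, c i • b i + ∑ i, c i • b i := by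
    rw [← Finset.sum_add_distrib]
    refine Finset.sum_congr rfl fun i _ => ?_
    rw [← add_smul, hc, ← two_mul, mul_div_assoc]
  have hTS : T (∑ i, c i • b i) = -∑ i, c i • b i := by
    rw [map_sum, ← Finset.sum_neg_distrib]
    exact Finset.sum_congr rfl fun i _ => by rw [map_smul, hT, smul_neg]
  rw [rfold_orth β b horth, hdouble]
  conv_rhs => rw [hx, map_add, hfix y hyo, hTS]
  rw [hy]
  abel

theorem refl'_map {W : Type u} [AddCommGroup W] [Module F W] {β : BilinForm F V} {η : BilinForm F W}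
    (L : V →ₗ[F] W) (hL : ∀ a b, η (L a) (L b) = β a b) {w : W}
    (hw' : ∀ a, η w (L a) = 0) (v a : V) : refl' η (L v) (L a + w) = L (refl' β v a) + w := by
  rw [refl', refl', map_add, LinearMap.add_apply, hL, hL, hw' v, add_zero, map_sub, map_smul]
  abel

theorem twist_lift {W : Type u} [AddCommGroup W] [Module F W] {β : BilinForm F V} {η : BilinForm F W}
    {γ : V → V} {δ : W → W} (L : V →ₗ[F] W) (hL : ∀ a b, η (L a) (L b) = β a b)
    (hsplit : ∀ x, ∃ a w, x = L a + w ∧ (∀ c, η (L c) w = 0) ∧ (∀ c, η w (L c) = 0) ∧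
      ∃ w', δ x = L (γ a) + w' ∧ (∀ c, η (L c) w' = 0) ∧ (∀ c, η w' (L c) = 0) ∧
        ∀ a', δ (L a' + w) = L (γ a') + w')
    (h : Twist β γ) : Twist η δ := by
  obtain ⟨l, hl1, hl2, hl3, hl4⟩ := h
  refine ⟨l.map L, by simpa using hl1, fun v hv => ?_, ?_, fun x => ?_⟩
  · obtain ⟨a, ha, rfl⟩ := List.mem_map.1 hv
    rw [hL]
    exact hl2 a ha
  · rw [List.map_map, show (fun v => η v v) ∘ L = fun v => β v v from funext fun a => hL a a]
    exact hl3
  · obtain ⟨a, w, rfl, hw, hw', w', hδ, hu, hu', hall⟩ := hsplit x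
    have key : ∀ (l : List V) (a : V) (w : W), (∀ c, η (L c) w = 0) → (∀ c, η w (L c) = 0) →
        rfold η (l.map L) (L a + w) = L (rfold β l a) + w := by
      intro l
      induction l with
      | nil => intro a w _ _; rfl
      | cons v l ih =>
        intro a w h1 h2
        rw [List.map_cons, rfold_cons, rfold_cons, ih a w h1 h2, refl'_map L hL h2]
    rw [key l a w hw hw', hδ, key l _ w' hu hu', hall, hl4]

theorem list_prod_basis [DecidableEq F] {A : Type u} [AddCommGroup A] [Module F A] [Module.Finite F A]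
    {n : ℕ} (β : BilinForm F A) (b : Basis (Fin n) F A) (horth : ∀ i k, i ≠ k → β (b i) (b k) = 0) :
    quadraticChar F (((List.ofFn b).map fun v => β v v).prod) = dchar β := by
  rw [dchar_basis b β]
  have : LinearMap.BilinForm.toMatrix b β = Matrix.diagonal fun i => β (b i) (b i) := by
    ext i k
    rw [LinearMap.BilinForm.toMatrix_apply]
    rcases eq_or_ne i k with rfl | h
    · rw [Matrix.diagonal_apply_eq]
    · rw [Matrix.diagonal_apply_ne _ h, horth i k h]
  rw [this, Matrix.det_diagonal, List.map_ofFn, List.prod_ofFn]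
  congr!

end Refl

theorem twist_model (h2 : (2 : F) ≠ 0) {p : F[X]} {j : ℕ} (hp : Irreducible p) (hm : p.Monic)
    (h0 : p.coeff 0 ≠ 0) (hj : Odd j) {f : F[X]} (hf : f.Monic) (hfe : f = Sys.hermPoly p j)
    {τ : AdjoinRoot f →ₐ[F] AdjoinRoot f} (hτ : τ (AdjoinRoot.root f) * AdjoinRoot.root f = 1)
    (hττ : ∀ x, τ (τ x) = x) (hδ : IsUnit (AdjoinRoot.root f - τ (AdjoinRoot.root f)))
    {φ : AdjoinRoot f →ₗ[F] F} (hφ : Nondeg φ) (hφs : ∀ c, φ (τ c) = φ c) :
    Twist (formOf τ φ) (gam f) := by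
  classical
  haveI : Invertible (2 : F) := invertibleOfNonzero h2
  haveI : Module.Finite F (AdjoinRoot f) := hf.finite_adjoinRoot
  haveI : Finite (AdjoinRoot f) := Module.finite_of_finite F
  obtain ⟨z, hzu, hzd⟩ := exists_fixed_unit h2 hp hm h0 hj hf hfe hτ hττ hδ
  obtain ⟨y, hy⟩ := InvolRing.exists_norm (τ := τ.toRingHom) hττ hδ z.2 hzu
  replace hy : τ y * y = z.1 := hy
  have hyu : IsUnit y := isUnit_of_mul_isUnit_right (hy.symm ▸ hzu : IsUnit (τ y * y))
  obtain ⟨yi, hyi⟩ := hyu.exists_right_inv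
  obtain ⟨β, hβ⟩ : ∃ β, β = formOf τ φ := ⟨_, rfl⟩
  have hβa : ∀ a b, β a b = φ (τ a * b) := fun a b => by rw [hβ]; rfl
  have hsym : ∀ a b, β b a = β a b := fun a b => by
    rw [hβa, hβa, ← hφs (τ a * b), map_mul τ, hττ, mul_comm]
  -- orthogonal to the fixed elements means skew
  have hskew : ∀ y : AdjoinRoot f, (∀ a : fixAlg τ, φ (a.1 * y) = 0) → τ y = -y := by
    intro y hy'
    refine eq_neg_of_add_eq_zero_left (hφ _ fun c => ?_)
    have hu : τ (τ y + y) = τ y + y := by rw [map_add τ, hττ, add_comm]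
    have hc : (⟨c + τ c, by rw [mem_fixAlg, map_add τ, hττ, add_comm]⟩ : fixAlg τ).1 = c + τ c := rfl
    have h1 : ∀ a : fixAlg τ, φ ((τ y + y) * a.1) = 0 := fun a => by
      rw [add_mul, map_add, mul_comm y, hy', add_zero, ← hφs, map_mul τ, hττ, mem_fixAlg.1 a.2, mul_comm, hy']
    have h3 := h1 ⟨c + τ c, by rw [mem_fixAlg, map_add τ, hττ, add_comm]⟩
    rw [hc, mul_add, map_add] at h3
    have h4 : φ ((τ y + y) * τ c) = φ ((τ y + y) * c) := by
      rw [← hφs ((τ y + y) * τ c), map_mul τ, hu, hττ]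
    rw [h4] at h3
    exact (mul_eq_zero.1 (by linear_combination h3 : (2 : F) * φ ((τ y + y) * c) = 0)).resolve_left h2
  let L1 : fixAlg τ →ₗ[F] AdjoinRoot f := (fixAlg τ).val.toLinearMap
  let L2 : fixAlg τ →ₗ[F] AdjoinRoot f := (LinearMap.mulRight F y).comp L1
  obtain ⟨B1, hB1⟩ : ∃ B1, B1 = LinearMap.BilinForm.comp β L1 L1 := ⟨_, rfl⟩
  obtain ⟨B2, hB2⟩ : ∃ B2, B2 = LinearMap.BilinForm.comp β L2 L2 := ⟨_, rfl⟩
  have hB1a : ∀ a b, B1 a b = φ (a.1 * b.1) := fun a b => by
    rw [hB1]
    show β a.1 b.1 = _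
    rw [hβa, mem_fixAlg.1 a.2]
  have hB2a : ∀ a b, B2 a b = φ (a.1 * (z.1 * b.1)) := fun a b => by
    rw [hB2]
    show β (a.1 * y) (b.1 * y) = _
    rw [hβa, map_mul τ, mem_fixAlg.1 a.2, ← hy]
    congr 1
    ring
  have hnd1 : ∀ a, (∀ b, B1 a b = 0) → a = 0 := fun a ha => by
    have h := hskew a.1 fun b => by rw [mul_comm, ← hB1a]; exact ha b
    rw [mem_fixAlg.1 a.2, eq_neg_iff_add_eq_zero, ← two_mul, ← map_ofNat (algebraMap F (AdjoinRoot f)) 2] at h
    exact Subtype.ext (((IsUnit.mk0 _ h2).map (algebraMap F (AdjoinRoot f))).mul_right_eq_zero.1 h)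
  have hs1 : LinearMap.IsSymm B1 := ⟨fun a b => by rw [RingHom.id_apply, hB1a, hB1a, mul_comm]⟩
  have hs2 : LinearMap.IsSymm B2 := ⟨fun a b => by rw [RingHom.id_apply, hB2a, hB2a]; congr 1; ring⟩
  have hnd2 : ∀ a, (∀ b, B2 a b = 0) → a = 0 := fun a ha => by
    have h1 : z * a = 0 := hnd1 _ fun b => by
      rw [hB1a, Subalgebra.coe_mul, show z.1 * a.1 * b.1 = a.1 * (z.1 * b.1) by ring, ← hB2a]
      exact ha b
    exact Subtype.ext (hzu.mul_right_eq_zero.1 (congrArg Subtype.val h1))
  obtain ⟨b1, hb1⟩ := LinearMap.BilinForm.exists_orthogonal_basis (B := B1) hs1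
  obtain ⟨b2, hb2⟩ := LinearMap.BilinForm.exists_orthogonal_basis (B := B2) hs2
  have ho1 : ∀ i k, i ≠ k → B1 (b1 i) (b1 k) = 0 := fun i k h => hb1 h
  have ho2 : ∀ i k, i ≠ k → B2 (b2 i) (b2 k) = 0 := fun i k h => hb2 h
  have hne : ∀ {B : BilinForm F (fixAlg τ)} {n : ℕ} (b : Basis (Fin n) F (fixAlg τ)),
      (∀ a, (∀ c, B a c = 0) → a = 0) → (∀ i k, i ≠ k → B (b i) (b k) = 0) → ∀ i, B (b i) (b i) ≠ 0 := by
    intro B n b hnd ho i hi
    refine b.ne_zero i (hnd _ fun c => ?_)
    rw [show B (b i) = 0 from b.ext fun k => by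
      rcases eq_or_ne i k with rfl | h
      · exact hi
      · exact ho i k h, LinearMap.zero_apply]
  refine ⟨List.ofFn (fun i => L2 (b2 i)) ++ List.ofFn (fun i => L1 (b1 i)), ?_, ?_, ?_, ?_⟩
  · simp
  · intro v hv
    rw [List.mem_append, List.mem_ofFn', List.mem_ofFn'] at hv
    rw [← hβ]
    rcases hv with ⟨i, rfl⟩ | ⟨i, rfl⟩
    · have := hne b2 hnd2 ho2 i
      rw [hB2] at this
      exact this
    · have := hne b1 hnd1 ho1 i
      rw [hB1] at this
      exact this
  · rw [← hβ, List.map_append, List.prod_append, map_mul, List.map_ofFn, List.map_ofFn]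
    have e2 := list_prod_basis B2 b2 ho2
    have e1 := list_prod_basis B1 b1 ho1
    rw [List.map_ofFn] at e1 e2
    rw [hB2] at e2
    rw [hB1] at e1
    refine (congrArg₂ (· * ·) e2 e1).trans ?_
    rw [← hB1, ← hB2]
    have hM : LinearMap.BilinForm.toMatrix (Module.finBasis F (fixAlg τ)) B2 =
        LinearMap.BilinForm.toMatrix (Module.finBasis F (fixAlg τ)) B1 *
          LinearMap.toMatrix (Module.finBasis F (fixAlg τ)) (Module.finBasis F (fixAlg τ))
            (LinearMap.mulLeft F z) := by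
      rw [← LinearMap.BilinForm.toMatrix_compRight]
      congr 1
      refine LinearMap.ext₂ fun a c => ?_
      rw [LinearMap.BilinForm.compRight_apply, hB1a, hB2a]
      rfl
    have hd : dchar B2 = dchar B1 * quadraticChar F (LinearMap.det (LinearMap.mulLeft F z)) := by
      rw [dchar, dchar, hM, Matrix.det_mul, map_mul, LinearMap.det_toMatrix]
    rw [hd, quadraticChar_neg_one_iff_not_isSquare.2 hzd, mul_right_comm,
      dchar_sq ⟨hnd1, fun c hc => hnd1 c fun a => by rw [hB1a, mul_comm, ← hB1a]; exact hc a⟩, one_mul]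
  · intro x
    rw [← hβ]
    have hyy : τ yi * τ y = 1 := by rw [← map_mul, mul_comm, hyi, map_one]
    let T1 : AdjoinRoot f →ₗ[F] AdjoinRoot f := -τ.toLinearMap
    let T2 : AdjoinRoot f →ₗ[F] AdjoinRoot f := (LinearMap.mulRight F (-(τ yi * y))).comp τ.toLinearMap
    have hT2 : ∀ w, T2 w = τ w * -(τ yi * y) := fun _ => rfl
    have hT1 : ∀ w, T1 w = -τ w := fun _ => rfl
    have h1 : ∀ w, rfold β (List.ofFn fun i => L1 (b1 i)) w = T1 w := by
      refine rfold_eq hsym _ (fun i k h => ?_) (fun i => ?_) T1 (fun i => ?_) fun w hw => ?_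
      · have := ho1 i k h; rw [hB1] at this; exact this
      · have := hne b1 hnd1 ho1 i; rw [hB1] at this; exact this
      · rw [hT1]
        exact congrArg Neg.neg (mem_fixAlg.1 (b1 i).2)
      · have hall : ∀ a : fixAlg τ, φ (a.1 * w) = 0 := fun a => by
          have hlin : ((φ.comp (LinearMap.mulRight F w)).comp L1) = 0 := b1.ext fun i => by
            have := hw i
            rw [hβa, show τ (L1 (b1 i)) = L1 (b1 i) from mem_fixAlg.1 (b1 i).2] at this
            exact this
          exact LinearMap.congr_fun hlin a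
        rw [hT1, hskew w hall, neg_neg]
    have h2' : ∀ w, rfold β (List.ofFn fun i => L2 (b2 i)) w = T2 w := by
      refine rfold_eq hsym _ (fun i k h => ?_) (fun i => ?_) T2 (fun i => ?_) fun w hw => ?_
      · have := ho2 i k h; rw [hB2] at this; exact this
      · have := hne b2 hnd2 ho2 i; rw [hB2] at this; exact this
      · rw [hT2]
        show τ ((b2 i).1 * y) * -(τ yi * y) = -((b2 i).1 * y)
        rw [map_mul τ, mem_fixAlg.1 (b2 i).2]
        linear_combination (-((b2 i).1 * y)) * hyy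
      · have hall : ∀ a : fixAlg τ, φ (a.1 * (τ y * w)) = 0 := fun a => by
          have hlin : ((φ.comp (LinearMap.mulRight F (τ y * w))).comp L1) = 0 := b2.ext fun i => by
            have := hw i
            rw [hβa, show τ (L2 (b2 i)) = L1 (b2 i) * τ y by
              show τ ((b2 i).1 * y) = _
              rw [map_mul τ, mem_fixAlg.1 (b2 i).2]; rfl, mul_assoc] at this
            exact this
          exact LinearMap.congr_fun hlin a
        have h3 := hskew _ hall
        rw [map_mul τ, hττ] at h3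
        rw [hT2]
        linear_combination (-(τ yi)) * h3 + w * hyy
    rw [rfold_append, rfold_append, h1, h1, h2', h2', hT1, hT1, hT2, hT2, map_neg, map_neg, hττ, hττ]
    show AdjoinRoot.root f * _ = -(AdjoinRoot.root f * x) * _
    ring

theorem ker_gam_pow {f p r : F[X]} (hp : p.Monic) (hf : f.Monic) (k : ℕ) (hfr : f = p ^ k * r) :
    finrank F (LinearMap.ker (aeval (gam f) (p ^ k))) = k * p.natDegree := by
  haveI : Module.Finite F (AdjoinRoot f) := hf.finite_adjoinRoot
  have hpk : (p ^ k).Monic := hp.pow k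
  haveI : Module.Finite F (AdjoinRoot (p ^ k)) := hpk.finite_adjoinRoot
  let Φ : AdjoinRoot (p ^ k) →ₗ[F] AdjoinRoot f :=
    { toFun := fun c => AdjoinRoot.mk f (AdjoinRoot.modByMonicHom hpk c * r)
      map_add' := fun a b => by rw [map_add, add_mul, map_add]
      map_smul' := fun a b => by
        rw [map_smul, smul_mul_assoc, ← AdjoinRoot.smul_mk, RingHom.id_apply] }
  have hr0 : r ≠ 0 := fun h => hf.ne_zero (by rw [hfr, h, mul_zero])
  have hinj : Function.Injective Φ := (injective_iff_map_eq_zero Φ).2 fun c hc => by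
    have h1 : AdjoinRoot.mk f (AdjoinRoot.modByMonicHom hpk c * r) = 0 := hc
    obtain ⟨P, rfl⟩ := AdjoinRoot.mk_surjective (g := p ^ k) c
    rw [AdjoinRoot.modByMonicHom_mk, AdjoinRoot.mk_eq_zero] at h1
    conv at h1 => lhs; rw [hfr]
    rw [AdjoinRoot.mk_eq_zero, ← dvd_iff_dvd_of_dvd_sub (dvd_modByMonic_sub P (p ^ k))]
    exact (mul_dvd_mul_iff_right hr0).1 h1
  have hrange : LinearMap.range Φ = LinearMap.ker (aeval (gam f) (p ^ k)) := by
    rw [aeval_gam]
    ext w
    rw [LinearMap.mem_range, LinearMap.mem_ker, LinearMap.mulLeft_apply]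
    constructor
    · rintro ⟨c, rfl⟩
      show AdjoinRoot.mk f (p ^ k) * AdjoinRoot.mk f _ = 0
      rw [← map_mul, AdjoinRoot.mk_eq_zero]
      exact ⟨AdjoinRoot.modByMonicHom hpk c, by rw [hfr]; ring⟩
    · intro hw
      obtain ⟨W, rfl⟩ := AdjoinRoot.mk_surjective (g := f) w
      rw [← map_mul, AdjoinRoot.mk_eq_zero] at hw
      conv at hw => lhs; rw [hfr]
      obtain ⟨Q, hQ⟩ := (mul_dvd_mul_iff_left hpk.ne_zero).1 hw
      refine ⟨AdjoinRoot.mk (p ^ k) Q, ?_⟩
      show AdjoinRoot.mk f (AdjoinRoot.modByMonicHom hpk (AdjoinRoot.mk (p ^ k) Q) * r) = _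
      rw [AdjoinRoot.modByMonicHom_mk, AdjoinRoot.mk_eq_mk, hQ, mul_comm r Q, ← sub_mul]
      conv => lhs; rw [hfr]
      exact mul_dvd_mul_right (dvd_modByMonic_sub Q (p ^ k)) r
  rw [← hrange, LinearMap.finrank_range_of_inj hinj, (AdjoinRoot.powerBasis' hpk).finrank,
    AdjoinRoot.powerBasis'_dim, natDegree_pow]

theorem exists_twist (h2 : (2 : F) ≠ 0) {p : F[X]} (hp : Irreducible p) (hm : p.Monic) (h0 : p.coeff 0 ≠ 0)
    (hco : IsCoprime p (X ^ 2 - 1)) {i : ℕ} (hi : Odd i) :
    ∀ (d : ℕ) (S : Sys F 1 d),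
      S.kdim (p ^ (i - 1)) + S.kdim (p ^ (i + 1)) < 2 * S.kdim (p ^ i) → Twist S.B S.g := by
  intro d
  induction d using Nat.strong_induction_on with
  | _ d ih =>
    intro S hmult
    obtain ⟨x₀, hx₀, hx0⟩ : ∃ x, S.pol p x = 0 ∧ x ≠ 0 := by
      by_contra hne
      push Not at hne
      have hinj : ∀ k x, S.pol (p ^ k) x = 0 → x = 0 := by
        intro k
        induction k with
        | zero => intro x hx; rwa [pow_zero, S.pol_one] at hx
        | succ k ih' => intro x hx; rw [pow_succ', S.pol_mul] at hx; exact ih' _ (hne _ hx)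
      have hbot : LinearMap.ker (S.pol (p ^ i)) = ⊥ := (Submodule.eq_bot_iff _).2 fun x hx => hinj i x hx
      have : S.kdim (p ^ i) = 0 := by rw [Sys.kdim, hbot, finrank_bot]
      omega
    obtain ⟨J, hJ, hlt, hstab⟩ := S.exists_top hx₀ hx0
    have hiJ : i ≤ J := by
      by_contra hlt'
      rw [not_le] at hlt'
      have hall : ∀ t, LinearMap.ker (S.pol (p ^ (J + t))) = LinearMap.ker (S.pol (p ^ J)) := by
        intro t
        induction t with
        | zero => rfl
        | succ t iht =>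
          refine le_antisymm (fun z hz => ?_) (S.ker_le (pow_dvd_pow p (by omega)))
          rw [← hstab, LinearMap.mem_ker, pow_succ, S.pol_mul]
          have h1 : S.pol p z ∈ LinearMap.ker (S.pol (p ^ (J + t))) := by
            rw [LinearMap.mem_ker, ← S.pol_mul, ← pow_succ]
            exact hz
          rwa [iht, LinearMap.mem_ker] at h1
      have hk : ∀ k, J ≤ k → S.kdim (p ^ k) = S.kdim (p ^ J) := fun k hk => by
        obtain ⟨t, rfl⟩ := Nat.exists_eq_add_of_le hk
        rw [Sys.kdim, hall, Sys.kdim]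
      rw [hk (i - 1) (by omega), hk (i + 1) (by omega), hk i (by omega)] at hmult
      omega
    obtain ⟨f, hf, hfe, hdeg, hf0, hfd, hf1, x, hx, hnd⟩ :=
      S.exists_herm (one_mul 1) hp hm h0 hco hJ hlt hstab
    obtain ⟨τ, hτ, hττ⟩ := exists_tau hf hf0 hfd
    haveI : Module.Finite F (AdjoinRoot f) := hf.finite_adjoinRoot
    haveI : Finite (AdjoinRoot f) := Module.finite_of_finite F
    obtain ⟨L, hL, hLg⟩ := S.embeds_form hf hτ hx (fun _ => rfl)
    obtain ⟨d', hd', R, hk, ψ, hψ, hψg⟩ := S.exists_rest _ _ L hL hLg (formOf_nd hττ hnd)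
    rw [(AdjoinRoot.powerBasis' hf).finrank, AdjoinRoot.powerBasis'_dim] at hd'
    rcases eq_or_lt_of_le hiJ with hEq | hLt
    · subst hEq
      have hδ : IsUnit (AdjoinRoot.root f - τ (AdjoinRoot.root f)) := by
        obtain ⟨a, b, hab⟩ := hf1
        have h1 := congrArg (AdjoinRoot.mk f) hab
        simp only [map_add, map_mul, AdjoinRoot.mk_self, mul_zero, zero_add, map_sub, map_pow,
          AdjoinRoot.mk_X, map_one] at h1
        refine IsUnit.of_mul_eq_one (AdjoinRoot.mk f b * AdjoinRoot.root f) ?_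
        linear_combination h1 - (AdjoinRoot.mk f b) * hτ
      have hT := twist_model h2 hp hm h0 hi hf hfe hτ hττ hδ hnd
        (fun c => by rw [S.fn_symm hf hτ (one_mul 1) hx c, one_mul])
      refine twist_lift (ψ.toLinearMap.comp (LinearMap.inl F _ _)) (fun a b => ?_) (fun v => ?_) hT
      · show S.B (ψ (a, 0)) (ψ (b, 0)) = _
        rw [hψ]
        simp [pairForm]
      · obtain ⟨⟨a, r⟩, rfl⟩ := ψ.surjective v
        have ho : ∀ (c : AdjoinRoot f) (r : Fin d' → F),
            S.B (ψ (c, 0)) (ψ (0, r)) = 0 ∧ S.B (ψ (0, r)) (ψ (c, 0)) = 0 := fun c r => by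
          rw [hψ, hψ]
          simp [pairForm]
        refine ⟨a, ψ (0, r), ?_, fun c => (ho c r).1, fun c => (ho c r).2, ψ (0, R.g r), ?_,
          fun c => (ho c _).1, fun c => (ho c _).2, fun a' => ?_⟩
        · show ψ (a, r) = ψ (a, 0) + ψ (0, r)
          rw [← map_add]; simp
        · show S.g (ψ (a, r)) = ψ (gam f a, 0) + ψ (0, R.g r)
          rw [hψg, ← map_add]; simp
        · show S.g (ψ (a', 0) + ψ (0, r)) = ψ (gam f a', 0) + ψ (0, R.g r)
          rw [map_add, hψg, hψg, ← map_add, ← map_add]; simp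
    · obtain ⟨r₀, hr₀⟩ : ∃ r₀, f = p ^ J * r₀ := by
        rw [hfe, Sys.hermPoly]
        split_ifs
        · exact ⟨1, (mul_one _).symm⟩
        · exact ⟨_, rfl⟩
      have hg : ∀ k, k ≤ J → finrank F (LinearMap.ker (aeval (gam f) (p ^ k))) = k * p.natDegree :=
        fun k hk => ker_gam_pow hm hf k (r := p ^ (J - k) * r₀)
          (by rw [← mul_assoc, ← pow_add, show k + (J - k) = J by omega]; exact hr₀)
      have hR : R.kdim (p ^ (i - 1)) + R.kdim (p ^ (i + 1)) < 2 * R.kdim (p ^ i) := by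
        have e1 := hk (p ^ (i - 1))
        have e2 := hk (p ^ i)
        have e3 := hk (p ^ (i + 1))
        rw [hg _ (by omega)] at e1 e2 e3
        have hpos := hi.pos
        have e4 : (i - 1) * p.natDegree + (i + 1) * p.natDegree = 2 * (i * p.natDegree) := by
          rw [← add_mul, show i - 1 + (i + 1) = 2 * i by omega, mul_assoc]
        omega
      have hT := ih d' (by omega) R hR
      refine twist_lift (ψ.toLinearMap.comp (LinearMap.inr F _ _)) (fun a b => ?_) (fun v => ?_) hT
      · show S.B (ψ (0, a)) (ψ (0, b)) = _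
        rw [hψ]
        simp [pairForm]
      · obtain ⟨⟨a, r⟩, rfl⟩ := ψ.surjective v
        have ho : ∀ (c : Fin d' → F) (a : AdjoinRoot f),
            S.B (ψ (0, c)) (ψ (a, 0)) = 0 ∧ S.B (ψ (a, 0)) (ψ (0, c)) = 0 := fun c a => by
          rw [hψ, hψ]
          simp [pairForm]
        refine ⟨r, ψ (a, 0), ?_, fun c => (ho c a).1, fun c => (ho c a).2, ψ (gam f a, 0), ?_,
          fun c => (ho c _).1, fun c => (ho c _).2, fun r' => ?_⟩
        · show ψ (a, r) = ψ (0, r) + ψ (a, 0)
          rw [← map_add]; simp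
        · show S.g (ψ (a, r)) = ψ (0, R.g r) + ψ (gam f a, 0)
          rw [hψg, ← map_add]; simp
        · show S.g (ψ (0, r') + ψ (a, 0)) = ψ (0, R.g r') + ψ (gam f a, 0)
          rw [map_add, hψg, hψg, ← map_add, ← map_add]; simp

end Cfsg.Agent.FormCount
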