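import Cfsg.Agent.Lib.Classical.FormCount.OOddTable
import Cfsg.Agent.Lib.Classical.FormCount.OddCount
import Cfsg.Agent.Lib.Classical.FormCount.OddGroup
import Cfsg.Agent.Lib.Classical.FormCount.Twist
import Cfsg.Agent.Lib.Classical.FormCount.OUpper
import Cfsg.Agent.Lib.Classical.FormCount.OLower
import Cfsg.Agent.Lib.Orthogonal.OmegaTheory

/-!
The class number of the commutator subgroup of an odd-dimensional orthogonal group.
-/

set_option autoImplicit false
set_option linter.style.haveILetI false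
set_option linter.unusedSectionVars false

namespace Cfsg.Agent.FormCount

open Polynomial Module Matrix QuadraticMap
open Cfsg.Agent.GLCount Cfsg.Agent.SLBound
open LinearMap (BilinForm)

universe u

variable {F : Type u} [Field F] [Fintype F] [DecidableEq F]

theorem not_evt_lst {G : ℕ → F[X]} : ∀ m, ¬ EvT (GLCount.lst G m) →
    ∃ j, ¬ Even (j + 1) ∧ ¬ PM (G j)
  | 0, h => absurd trivial h
  | m + 1, h => by
    have hlen : ∀ k, (GLCount.lst G k).length = k := fun k => by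
      induction k <;> simp [GLCount.lst, *]
    rw [GLCount.lst, EvT, hlen, not_and_or] at h
    rcases h with h | h
    · rw [Classical.not_imp] at h
      exact ⟨m, h⟩
    · exact not_evt_lst m h

theorem pm_prod (s : Multiset F[X]) (h : ∀ p ∈ s, p = X - 1 ∨ p = X + 1) : PM s.prod := by
  induction s using Multiset.induction with
  | empty => exact ⟨0, 0, by simp⟩
  | cons p s ih =>
    obtain ⟨a, b, hab⟩ := ih fun x hx => h x (Multiset.mem_cons_of_mem hx)
    rcases h p (Multiset.mem_cons_self p s) with rfl | rfl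
    · exact ⟨a + 1, b, by rw [Multiset.prod_cons, hab]; ring⟩
    · exact ⟨a, b + 1, by rw [Multiset.prod_cons, hab]; ring⟩

theorem twist_of_code {N : ℕ} (h2 : (2 : F) ≠ 0) (S : Sys F 1 N) (G : Matrix.GeneralLinearGroup (Fin N) F)
    (hS : S.g.toLinearMap = GLCount.lin G.1) (hE : ¬ EvT (codeOf G)) : Twist S.B S.g := by
  classical
  obtain ⟨ι, hι, q, e, hq, h0, -, -, ⟨Φ⟩, hc⟩ := codeOf_spec G
  rw [hc] at hE
  obtain ⟨j, hj, hpm⟩ := not_evt_lst N hE
  obtain ⟨i, hei, hi1, hi2⟩ : ∃ i, e i = j + 1 ∧ q i ≠ X - 1 ∧ q i ≠ X + 1 := by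
    by_contra hne
    push Not at hne
    refine hpm (pm_prod _ fun p hp => ?_)
    obtain ⟨i, hi, rfl⟩ := Multiset.mem_map.1 hp
    rw [Finset.mem_val, Finset.mem_filter] at hi
    exact or_iff_not_imp_left.2 (hne i hi.2)
  obtain ⟨p, hp⟩ : ∃ p, q i = p := ⟨_, rfl⟩
  have hpi : Irreducible p ∧ p.Monic := hp ▸ hq i
  have hp0 : p.coeff 0 ≠ 0 := by
    rw [← hp, coeff_zero_eq_eval_zero]
    exact h0 i (by omega)
  have hco : IsCoprime p (X ^ 2 - 1) := by
    refine (hpi.1.coprime_iff_not_dvd).2 fun hdvd => ?_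
    rw [show (X : F[X]) ^ 2 - 1 = (X - 1) * (X + 1) by ring] at hdvd
    have e1 : ((X : F[X]) - 1).Monic ∧ Irreducible ((X : F[X]) - 1) :=
      ⟨by simpa using monic_X_sub_C (1 : F), by simpa using irreducible_X_sub_C (1 : F)⟩
    have e2 : ((X : F[X]) + 1).Monic ∧ Irreducible ((X : F[X]) + 1) :=
      ⟨by simpa using monic_X_add_C (1 : F), by simpa using irreducible_X_sub_C (-1 : F)⟩
    rcases hpi.1.prime.dvd_or_dvd hdvd with h | h
    · exact hi1 (hp ▸ eq_of_monic_of_associated hpi.2 e1.1 (hpi.1.associated_of_dvd e1.2 h))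
    · exact hi2 (hp ▸ eq_of_monic_of_associated hpi.2 e2.1 (hpi.1.associated_of_dvd e2.2 h))
  refine exists_twist h2 hpi.1 hpi.2 hp0 hco (Nat.not_even_iff_odd.1 hj) N S ?_
  rw [kdim_eq S G hS hq Φ hpi, kdim_eq S G hS hq Φ hpi, kdim_eq S G hS hq Φ hpi, ← add_mul, ← mul_assoc]
  refine Nat.mul_lt_mul_of_pos_right ?_ hpi.1.natDegree_pos
  rw [← Finset.sum_add_distrib, Finset.mul_sum]
  refine Finset.sum_lt_sum (fun k _ => by omega) ⟨i, ?_, by omega⟩
  simp [hp]

section Group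

variable {ι : Type} [Fintype ι] [DecidableEq ι] {d : ℕ} (e : ι ≃ Fin d) (Q : QuadraticForm F (ι → F))
  (hQ : (polarBilin Q).Nondegenerate)

theorem exists_rfold (h2 : (2 : F) ≠ 0) (χ : ↥(Cfsg.isometryGroup F ⇑Q) →* Orth.SpinVal F)
    (hχ : ∀ (g : Cfsg.isometryGroup F (⇑Q)) (v : ι → F), Q v ≠ 0 →
      ((g : GL ι F) : Matrix ι ι F) = Cfsg.reflectionMatrix (⇑Q) v → χ g = Orth.reflVal Q v)
    (g : ↥(Cfsg.isometryGroup F ⇑Q)) :
    ∀ l : List (Fin d → F), (∀ v ∈ l, (sysO e Q hQ g).B v v ≠ 0) → ∃ h : ↥(Cfsg.isometryGroup F ⇑Q),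
      (∀ x, h.1.1 *ᵥ oidx e x = oidx e (rfold (sysO e Q hQ g).B l x)) ∧
      χ h = (Multiplicative.ofAdd (l.length : ZMod 2), Orth.sqc F (l.map fun v => Q (oidx e v)).prod) ∧
      (l.map fun v => (sysO e Q hQ g).B v v).prod = 2 ^ l.length * (l.map fun v => Q (oidx e v)).prod
  | [], _ => ⟨1, fun x => Matrix.one_mulVec _, by
      rw [map_one, List.map_nil, List.prod_nil, Orth.sqc_one]; exact Prod.ext (by simp) rfl, by simp⟩
  | v :: l, hl => by
    obtain ⟨h, hh1, hh2, hh3⟩ := exists_rfold h2 χ hχ g l fun w hw => hl w (List.mem_cons_of_mem v hw)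
    have hB : ∀ a b, (sysO e Q hQ g).B a b = polar Q (oidx e a) (oidx e b) := fun _ _ => rfl
    have hBv : (sysO e Q hQ g).B v v = 2 * Q (oidx e v) := by
      rw [hB, QuadraticMap.polar_self, two_smul, two_mul]
    have hv : Q (oidx e v) ≠ 0 := fun h0 => hl v List.mem_cons_self (by rw [hBv, h0, mul_zero])
    obtain ⟨r, hr, -⟩ := Orth.exists_reflection Q hv
    have hP : (l.map fun v => Q (oidx e v)).prod ≠ 0 := fun h0 => by
      rw [h0, mul_zero] at hh3
      obtain ⟨w, hw, hw0⟩ := List.mem_map.1 (List.prod_eq_zero_iff.1 hh3)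
      exact hl w (List.mem_cons_of_mem v hw) hw0
    refine ⟨r * h, fun x => ?_, ?_, ?_⟩
    · show (r.1.1 * h.1.1) *ᵥ oidx e x = _
      rw [← Matrix.mulVec_mulVec, hh1, hr, Orth.reflectionMatrix_mulVec, rfold_cons, refl', map_sub,
        map_smul, hBv, hB, mul_div_mul_left _ _ h2]
    · rw [map_mul, hh2, hχ r _ hv hr, Orth.reflVal, List.map_cons, List.prod_cons, Orth.sqc_mul hv hP,
        List.length_cons, Nat.cast_succ, add_comm, ofAdd_add]
      rfl
    · rw [List.map_cons, List.map_cons, List.prod_cons, List.prod_cons, hh3, hBv, List.length_cons, pow_succ]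
      ring

include e hQ in
theorem omega_classes_ge (h2 : (2 : F) ≠ 0) {n : ℕ} (hd : d = 2 * n + 1) (hn : 1 ≤ n) :
    Fintype.card F ^ n ≤ 2 * Nat.card (ConjClasses ↥(Cfsg.Omega F ⇑Q)) := by
  classical
  haveI := Fintype.ofFinite (ConjClasses ↥(Cfsg.isometryGroup F ⇑Q))
  have hcard : Fintype.card ι = d := by rw [Fintype.card_congr e, Fintype.card_fin]
  have hq3 : 3 ≤ Fintype.card F := by
    have h1 := Fintype.one_lt_card (α := F)
    by_contra hlt
    apply h2
    have h3 : ((Fintype.card F : ℕ) : F) = 0 := FiniteField.cast_card_eq_zero F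
    rwa [show Fintype.card F = 2 by omega, Nat.cast_ofNat] at h3
  have h42 : Fintype.card F ≠ 2 ∨ Fintype.card ι ≠ 4 := Or.inl (by omega)
  obtain ⟨χ, hker, hsurj, hχ⟩ := Orth.exists_matrix_spinor Q hQ (by omega) h42
  have hdet := Orth.det_eq_sgn Q hQ h42 χ hχ
  obtain ⟨K, hKdef⟩ : ∃ K, K = ((MonoidHom.fst (Multiplicative (ZMod 2)) (Orth.SqCls F)).comp χ).ker :=
    ⟨_, rfl⟩
  haveI : K.Normal := by rw [hKdef]; infer_instance
  have hK : ∀ a, a ∈ K ↔ (χ a).1 = 1 := fun a => by rw [hKdef]; rfl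
  have hH : ∀ a, a ∈ Cfsg.Omega F ⇑Q ↔ χ a = 1 := fun a => by rw [← hker]; rfl
  have hHK : Cfsg.Omega F ⇑Q ≤ K := fun a ha => by rw [hK, (hH a).1 ha]; rfl
  have hsq : ∀ s t : Orth.SqCls F, s ≠ 1 → t ≠ 1 → s = t := fun s t hs ht =>
    ((Nat.card_eq_two_iff' (1 : Orth.SqCls F)).1 ((Orth.card_sqCls_le).2.1 h2)).unique hs ht
  have hidx : ∀ a ∈ K, ∀ b ∈ K, a ∉ Cfsg.Omega F ⇑Q → b ∉ Cfsg.Omega F ⇑Q →
      a * b⁻¹ ∈ Cfsg.Omega F ⇑Q := by
    intro a ha b hb hna hnb
    rw [hK] at ha hb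
    rw [hH] at hna hnb
    rw [hH, map_mul, map_inv, mul_inv_eq_one]
    exact Prod.ext (ha.trans hb.symm)
      (hsq _ _ (fun h => hna (Prod.ext ha h)) fun h => hnb (Prod.ext hb h))
  -- one class of the special group for each palindromic polynomial
  have key : ∀ f : {f : F[X] // Pal n f}, ∃ t : K,
      t.1.1.1.charpoly = f.1 * (X - 1) := by
    rintro ⟨f, hf⟩
    obtain ⟨δ, hδ, hδ'⟩ : ∃ δ : ℤ, δ * δ = 1 ∧
        (f.eval 1 * f.eval (-1) = 0 ∨ quadraticChar F (f.eval 1 * f.eval (-1)) = δ) := by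
      by_cases h : f.eval 1 * f.eval (-1) = 0
      · exact ⟨1, one_mul 1, Or.inl h⟩
      · exact ⟨_, by rw [← _root_.sq]; exact quadraticChar_sq_one h, Or.inr rfl⟩
    obtain ⟨S, hS1, hS2⟩ := exists_sys h2 n f hf δ hδ hδ'
    obtain ⟨δ₀, hδ₀⟩ : ∃ δ₀, (sysO e Q hQ 1).dc = δ₀ := ⟨_, rfl⟩
    have hδ₁ : δ₀ * δ₀ = 1 := hδ₀ ▸ Sys.dc_sq _
    obtain ⟨c, hc0, hc⟩ := qchar_surj h2 (show δ * δ₀ * (δ * δ₀) = 1 by
      rw [mul_mul_mul_comm, hδ, hδ₁, one_mul])
    obtain ⟨γ, hγ⟩ : ∃ γ : BilinForm F F, γ = c • LinearMap.mul F F := ⟨_, rfl⟩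
    have hγa : ∀ a b, γ a b = c * (a * b) := fun a b => by rw [hγ]; rfl
    obtain ⟨T, hT1, hT2⟩ := exists_sys_of (d := d) (V := (Fin (2 * n) → F) × F)
      (by rw [Module.finrank_prod, Module.finrank_fin_fun, Module.finrank_self, hd])
      (pairForm S.B γ) (S.g.prodCongr (LinearEquiv.refl F F))
      (fun x y => by simp [pairForm, S.hg])
      (fun x y => by
        simp only [pairForm, LinearMap.mk₂_apply, hγa, S.hsym x.1, one_mul, mul_comm y.2])
      (fun x hx => Prod.ext (S.hnd _ fun y => by simpa [pairForm, hγa] using hx (y, 0)) (by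
        have := hx (0, 1)
        simpa [pairForm, hγa, hc0] using this))
    have hdγ : dchar γ = δ * δ₀ := by
      rw [dchar_basis' (Basis.singleton (Fin 1) F), ← hc, Matrix.det_fin_one]
      congr 1
      simp [hγa]
    have hTd : T.dc = δ₀ := by
      rw [hT2, dchar_pair, ← Sys.dc, hS2, hdγ, ← mul_assoc, hδ, one_mul]
    obtain ⟨φ, hφ⟩ := exists_form_iso h2 (by omega) T (sysO e Q hQ 1) (hTd.trans hδ₀.symm)
    obtain ⟨ψ, hψ⟩ : ∃ ψ, ψ = (φ.symm.trans T.g).trans φ := ⟨_, rfl⟩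
    obtain ⟨t, ht⟩ := exists_mem e Q h2 ψ fun x y => by
      rw [hψ]
      show (sysO e Q hQ 1).B (φ (T.g (φ.symm x))) (φ (T.g (φ.symm y))) = (sysO e Q hQ 1).B x y
      rw [hφ, T.hg, ← hφ, φ.apply_symm_apply, φ.apply_symm_apply]
    have hcp : t.1.1.charpoly = f * (X - 1) := by
      rw [← Matrix.charpoly_toLin']
      have hconj : Matrix.toLin' t.1.1 = (φ.trans (oidx e)).conj T.g.toLinearMap := by
        refine LinearMap.ext fun v => ?_
        obtain ⟨x, rfl⟩ := (oidx (F := F) e).surjective v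
        rw [Matrix.toLin'_apply, ht, hψ]
        simp [LinearEquiv.conj_apply]
      rw [hconj, LinearEquiv.charpoly_conj, hT1,
        show (S.g.prodCongr (LinearEquiv.refl F F)).toLinearMap =
          S.g.toLinearMap.prodMap LinearMap.id from rfl, LinearMap.charpoly_prodMap, hS1]
      congr 1
      rw [← Module.End.one_eq_id, LinearMap.charpoly_one, Module.finrank_self, pow_one]
    refine ⟨⟨t, (hK t).2 ?_⟩, hcp⟩
    have hd1 : t.1.1.det = 1 := by
      rw [Matrix.det_eq_sign_charpoly_coeff, hcp, mul_coeff_zero, hf.2.2.1, hcard, hd]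
      simp [pow_succ, pow_mul]
    rw [hdet] at hd1
    by_contra hne
    rw [Orth.sgn, if_neg fun h => hne (toAdd_eq_zero.1 h)] at hd1
    exact h2 (by linear_combination -hd1)
  choose t ht using key
  rw [← card_pal hn]
  refine le_trans (Nat.card_le_card_of_injective (fun f => ConjClasses.mk (t f)) fun f f' h => Subtype.ext ?_)
    (classes_le_two hHK hidx ?_)
  · obtain ⟨c, hc⟩ := isConj_iff.1 (ConjClasses.mk_eq_mk_iff_isConj.1 h)
    refine mul_right_cancel₀ (show (X : F[X]) - 1 ≠ 0 by simpa using X_sub_C_ne_zero (1 : F)) ?_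
    rw [← ht f, ← ht f', ← hc]
    simp only [Subgroup.coe_mul, Subgroup.coe_inv, Units.val_mul, Matrix.coe_units_inv]
    exact (Matrix.charpoly_units_conj c.1.1 (t f).1.1.1).symm
  · obtain ⟨s, hs⟩ : ∃ s : Orth.SqCls F, s ≠ 1 :=
      ((Nat.card_eq_two_iff' (1 : Orth.SqCls F)).1 ((Orth.card_sqCls_le).2.1 h2)).exists
    obtain ⟨a, ha⟩ := hsurj (1, s)
    exact ⟨a, by rw [hK, ha], fun h => hs (by rw [hH, ha] at h; exact congrArg Prod.snd h)⟩

include e hQ in
theorem omega_classes_le (h2 : (2 : F) ≠ 0) {n : ℕ} (hd : d = 2 * n + 1) (hn : 1 ≤ n) :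
    10 * Nat.card (ConjClasses ↥(Cfsg.Omega F ⇑Q)) ≤ 73 * Fintype.card F ^ n := by
  classical
  haveI := Fintype.ofFinite (ConjClasses ↥(Cfsg.isometryGroup F ⇑Q))
  have hcard : Fintype.card ι = d := by rw [Fintype.card_congr e, Fintype.card_fin]
  have hq3 : 3 ≤ Fintype.card F := by
    have h1 := Fintype.one_lt_card (α := F)
    by_contra hlt
    apply h2
    have h3 : ((Fintype.card F : ℕ) : F) = 0 := FiniteField.cast_card_eq_zero F
    rwa [show Fintype.card F = 2 by omega, Nat.cast_ofNat] at h3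
  have h42 : Fintype.card F ≠ 2 ∨ Fintype.card ι ≠ 4 := Or.inl (by omega)
  obtain ⟨χ, hker, hsurj, hχ⟩ := Orth.exists_matrix_spinor Q hQ (by omega) h42
  have hdet := Orth.det_eq_sgn Q hQ h42 χ hχ
  obtain ⟨K, hKdef⟩ : ∃ K, K = ((MonoidHom.fst (Multiplicative (ZMod 2)) (Orth.SqCls F)).comp χ).ker :=
    ⟨_, rfl⟩
  haveI : K.Normal := by rw [hKdef]; infer_instance
  have hK : ∀ a, a ∈ K ↔ (χ a).1 = 1 := fun a => by rw [hKdef]; rfl
  have hH : ∀ a, a ∈ Cfsg.Omega F ⇑Q ↔ χ a = 1 := fun a => by rw [← hker]; rfl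
  have hHK : Cfsg.Omega F ⇑Q ≤ K := fun a ha => by rw [hK, (hH a).1 ha]; rfl
  have hsq : ∀ s t : Orth.SqCls F, s ≠ 1 → t ≠ 1 → s = t := fun s t hs ht =>
    ((Nat.card_eq_two_iff' (1 : Orth.SqCls F)).1 ((Orth.card_sqCls_le).2.1 h2)).unique hs ht
  have hidx : ∀ a ∈ K, ∀ b ∈ K, a ∉ Cfsg.Omega F ⇑Q → b ∉ Cfsg.Omega F ⇑Q →
      a * b⁻¹ ∈ Cfsg.Omega F ⇑Q := by
    intro a ha b hb hna hnb
    rw [hK] at ha hb
    rw [hH] at hna hnb
    rw [hH, map_mul, map_inv, mul_inv_eq_one]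
    exact Prod.ext (ha.trans hb.symm)
      (hsq _ _ (fun h => hna (Prod.ext ha h)) fun h => hnb (Prod.ext hb h))
  let z : ↥(Cfsg.isometryGroup F ⇑Q) := ⟨-1, Orth.mem_isometryGroup.2 fun x => by
    rw [Units.val_neg, Units.val_one, Matrix.neg_mulVec, Matrix.one_mulVec, QuadraticMap.map_neg]⟩
  have hz : ∀ a, Commute z a := fun a => Subtype.ext (show (-1 : GL ι F) * a.1 = a.1 * -1 by
    rw [neg_one_mul, mul_neg_one])
  have hzK : z ∉ K := fun h => by
    rw [hK] at h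
    have h1 := hdet z
    rw [h, toAdd_one, Orth.sgn, if_pos rfl] at h1
    rw [show ((z : GL ι F) : Matrix ι ι F) = -1 from rfl, Matrix.det_neg, Matrix.det_one, mul_one, hcard, hd,
      pow_succ, pow_mul, neg_one_sq, one_pow, one_mul] at h1
    exact h2 (by linear_combination -h1)
  have hK2 : ∀ a, a ∉ K → a * z ∈ K := fun a ha => by
    rw [hK] at ha hzK
    rw [hK, map_mul, Prod.fst_mul]
    exact (show ∀ u w : Multiplicative (ZMod 2), u ≠ 1 → w ≠ 1 → u * w = 1 by decide) _ _ ha hzK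
  have hdbl := classes_double (Cfsg.Omega F ⇑Q) K hHK z hz hzK hK2 hidx
  let ψ : ConjClasses ↥(Cfsg.isometryGroup F ⇑Q) → List F[X] := fun D => codeOf (oglOf e Q D.out)
  have hψ : ∀ D, ψ D ∈ seqsO (F := F) d d := fun D =>
    (code_facts_O h2 (sysO e Q hQ D.out) _ rfl).1
  have hm : ∀ D : ConjClasses ↥(Cfsg.isometryGroup F ⇑Q), ¬ EvT (ψ D) →
      ∃ h ∈ K, h ∉ Cfsg.Omega F ⇑Q ∧ Commute h D.out := by
    intro D hE
    obtain ⟨l, hl1, hl2, hl3, hl4⟩ := twist_of_code h2 (sysO e Q hQ D.out) _ rfl hE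
    replace hl3 : quadraticChar F ((l.map fun v => (sysO e Q hQ D.out).B v v).prod) = -1 := by convert hl3
    obtain ⟨h, hh1, hh2, hh3⟩ := exists_rfold e Q hQ h2 χ hχ D.out l hl2
    have hpar : (l.length : ZMod 2) = 0 := ZMod.natCast_eq_zero_iff_even.2 hl1
    refine ⟨h, by rw [hK, hh2, hpar]; rfl, fun hmem => ?_, ?_⟩
    · rw [hH, hh2] at hmem
      have hP : (l.map fun v => Q (oidx e v)).prod ≠ 0 := fun h0 => by
        rw [hh3, h0, mul_zero, quadraticChar_zero] at hl3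
        norm_num at hl3
      obtain ⟨r, hr⟩ := (Orth.sqc_eq_one_iff hP).1 (congrArg Prod.snd hmem)
      obtain ⟨k, hk⟩ := hl1
      rw [hh3, hr, hk, pow_add, show (2 : F) ^ k * 2 ^ k * (r * r) = (2 ^ k * r) ^ 2 by ring,
        quadraticChar_neg_one_iff_not_isSquare] at hl3
      exact hl3 ⟨_, _root_.sq _⟩
    · refine Subtype.ext (Units.ext (Matrix.ext_iff_mulVec.2 fun v => ?_))
      obtain ⟨x, rfl⟩ := (oidx (F := F) e).surjective v
      show (h.1.1 * D.out.1.1) *ᵥ oidx e x = (D.out.1.1 * h.1.1) *ᵥ oidx e x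
      rw [← Matrix.mulVec_mulVec, ← Matrix.mulVec_mulVec, ← oidx_lin, hh1, hh1, ← oidx_lin]
      exact congrArg (oidx e) (hl4 x).symm
  -- classes of the orthogonal group with the same code
  have hfib : ∀ l, 2 * (Finset.univ.filter fun D => ψ D = l).card ≤ 2 ^ wexpO l := by
    intro l
    by_contra hlt
    rw [not_le] at hlt
    obtain ⟨D₀, hD₀⟩ : (Finset.univ.filter fun D => ψ D = l).Nonempty :=
      Finset.card_pos.1 (by have := Nat.one_le_two_pow (n := wexpO l); omega)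
    have hw := (code_facts_O h2 (sysO e Q hQ D₀.out) _ rfl).2
    rw [show codeOf (oglOf e Q D₀.out) = l from (Finset.mem_filter.1 hD₀).2] at hw
    obtain ⟨c, hc0, hc⟩ := qchar_surj h2 (show (-1 : ℤ) * -1 = 1 by norm_num)
    let κ := {D // D ∈ Finset.univ.filter fun D => ψ D = l} × Bool
    let S : κ → Sys F 1 d := fun x =>
      { B := (if x.2 then c else 1) • (sysO e Q hQ x.1.1.out).B
        g := (sysO e Q hQ x.1.1.out).g
        hg := fun a b => by simp only [LinearMap.smul_apply, (sysO e Q hQ x.1.1.out).hg]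
        hsym := fun a b => by
          simp only [LinearMap.smul_apply, smul_eq_mul, (sysO e Q hQ x.1.1.out).hsym a b, one_mul]
        hnd := fun a ha => (sysO e Q hQ x.1.1.out).hnd a fun b => by
          have := ha b
          rw [LinearMap.smul_apply, LinearMap.smul_apply, smul_eq_mul, mul_eq_zero] at this
          exact this.resolve_left (by split_ifs <;> simp [hc0]) }
    obtain ⟨a, b, hab, hiso⟩ : ∃ a b : κ, a ≠ b ∧ Sys.Iso (S a) (S b) := by
      refine pigeon h2 (one_mul 1) d d le_rfl κ S (⟨D₀, hD₀⟩, false) (fun x P => ?_) ?_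
      · exact sim_of_code_O e Q hQ ((Finset.mem_filter.1 x.1.2).2.trans (Finset.mem_filter.1 hD₀).2.symm) P
      · rw [Fintype.card_prod, Fintype.card_coe, Fintype.card_bool]
        refine lt_of_le_of_lt (Nat.pow_le_pow_right two_pos ?_) (lt_of_lt_of_eq hlt (mul_comm _ _))
        refine le_of_eq_of_le ?_ hw
        refine congrArg Finset.card ?_
        rfl
    have hdc : ∀ x : κ, (S x).dc = (if x.2 then -1 else 1) * (sysO e Q hQ 1).dc := by
      intro x
      show dchar ((if x.2 then c else 1) • (sysO e Q hQ x.1.1.out).B) = _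
      rw [dchar_smul, Module.finrank_fin_fun]
      congr 1
      have hodd : Odd d := ⟨n, hd⟩
      cases x.2 <;> simp [hc, hodd.neg_one_pow]
    have hs : a.2 = b.2 := by
      have h1 := Sys.dc_iso hiso
      rw [hdc, hdc] at h1
      have h3 := Sys.dc_sq (sysO e Q hQ 1)
      cases ha : a.2 <;> cases hb : b.2 <;> rw [ha, hb] at h1 <;> first
        | rfl
        | (exfalso; simp at h1; rw [show (sysO e Q hQ 1).dc = 0 by linarith] at h3; norm_num at h3)
    obtain ⟨φ, hφB, hφg⟩ := hiso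
    refine hab (Prod.ext (Subtype.ext ?_) hs)
    rw [← Quotient.out_eq a.1.1, ← Quotient.out_eq b.1.1]
    refine ConjClasses.mk_eq_mk_iff_isConj.2 (isConj_of_iso_O e Q hQ h2 ⟨φ, fun x y => ?_, hφg⟩)
    have := hφB x y
    simp only [S, LinearMap.smul_apply, smul_eq_mul, hs] at this
    exact mul_left_cancel₀ (by split_ifs <;> simp [hc0]) this
  have hsum : 2 * ∑ D : ConjClasses ↥(Cfsg.isometryGroup F ⇑Q), (1 + if EvT (ψ D) then 1 else 0) ≤
      cntO (Fintype.card F) d d + cntW (Fintype.card F) d d := by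
    rw [← Finset.sum_fiberwise_of_maps_to (g := ψ) (t := seqsO (F := F) d d) fun D _ => hψ D, Finset.mul_sum]
    refine le_trans (Finset.sum_le_sum (g := fun l => 2 ^ wexpO l + wT l) fun l _ => ?_) ?_
    · rw [Finset.sum_congr rfl (g := fun _ => 1 + if EvT l then 1 else 0) fun D hD => by
        rw [(Finset.mem_filter.1 hD).2], Finset.sum_const, smul_eq_mul, ← mul_assoc]
      refine (Nat.mul_le_mul_right _ (hfib l)).trans (le_of_eq ?_)
      rw [wT, mul_add, mul_one]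
      split_ifs <;> simp
    · rw [Finset.sum_add_distrib]
      exact Nat.add_le_add (weightO_le h2 d d) (weightW_le h2 d d)
  have h5 := odd_total hq3 n
  rw [← hd] at h5
  have h6 : 2 * Nat.card (ConjClasses ↥(Cfsg.Omega F ⇑Q)) ≤
      ∑ D : ConjClasses ↥(Cfsg.isometryGroup F ⇑Q), (1 + if EvT (ψ D) then 1 else 0) := by
    refine hdbl.trans (Finset.sum_le_sum fun D _ => ?_)
    by_cases hE : EvT (ψ D)
    · rw [if_pos hE]; split_ifs <;> omega
    · rw [if_neg hE, if_pos (hm D hE)]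
  omega

end Group

end Cfsg.Agent.FormCount
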