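import Cfsg.Agent.Lib.Classical.FormCount.SpCount

/-!
The bound on the weighted coefficients.
-/

set_option autoImplicit false

namespace Cfsg.Agent.FormCount

/-- One factor. -/
def fac (x : ℚ) (j : ℕ) : ℚ := (if Even j then (1 + x ^ (j / 2)) ^ 4 else 1) / (1 - x ^ (j - 1))

/-- The partial products. -/
def Ks (x : ℚ) : ℕ → ℚ
  | 0 => 1
  | 1 => 1
  | m + 2 => Ks x (m + 1) * fac x (m + 2)

theorem fac_ge {x : ℚ} (h0 : 0 ≤ x) (h1 : x < 1) (m : ℕ) : 1 ≤ fac x (m + 2) := by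
  have hp : x ^ (m + 1) < 1 := pow_lt_one₀ h0 h1 (Nat.succ_ne_zero m)
  have hq : 0 ≤ x ^ (m + 1) := by positivity
  rw [fac, show m + 2 - 1 = m + 1 by omega, one_le_div (by linarith)]
  split_ifs
  · have h5 : 0 ≤ x ^ ((m + 2) / 2) := by positivity
    have := one_le_pow₀ (n := 4) (by linarith : (1 : ℚ) ≤ 1 + x ^ ((m + 2) / 2))
    linarith
  · linarith

theorem Ks_nonneg {x : ℚ} (h0 : 0 ≤ x) (h1 : x < 1) : ∀ m, 0 ≤ Ks x m
  | 0 => by simp [Ks]
  | 1 => by simp [Ks]
  | m + 2 => by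
    rw [Ks]
    exact mul_nonneg (Ks_nonneg h0 h1 (m + 1)) (zero_le_one.trans (fac_ge h0 h1 m))

theorem Ks_mono_m {x : ℚ} (h0 : 0 ≤ x) (h1 : x < 1) : Monotone (Ks x) := by
  refine monotone_nat_of_le_succ fun m => ?_
  cases m with
  | zero => simp [Ks]
  | succ m =>
    rw [show Ks x (m + 1 + 1) = Ks x (m + 1) * fac x (m + 2) from rfl]
    exact le_mul_of_one_le_right (Ks_nonneg h0 h1 _) (fac_ge h0 h1 m)

theorem Ks_mono {x y : ℚ} (h0 : 0 ≤ x) (hxy : x ≤ y) (h1 : y < 1) : ∀ m, Ks x m ≤ Ks y m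
  | 0 => le_rfl
  | 1 => le_rfl
  | m + 2 => by
    rw [Ks, Ks]
    have hp : y ^ (m + 1) < 1 := pow_lt_one₀ (h0.trans hxy) h1 (Nat.succ_ne_zero m)
    have hle := pow_le_pow_left₀ h0 hxy (m + 1)
    refine mul_le_mul (Ks_mono h0 hxy h1 (m + 1)) ?_ (zero_le_one.trans (fac_ge h0 (hxy.trans_lt h1) m))
      (Ks_nonneg (h0.trans hxy) h1 _)
    rw [fac, fac, show m + 2 - 1 = m + 1 by omega]
    have hh := pow_le_pow_left₀ h0 hxy ((m + 2) / 2)
    have h5 : 0 ≤ x ^ ((m + 2) / 2) := by positivity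
    refine div_le_div₀ ?_ ?_ (by linarith) (by linarith)
    · split_ifs <;> positivity
    · split_ifs
      · exact pow_le_pow_left₀ (by linarith) (by linarith) 4
      · exact le_rfl

theorem Ks_le (m : ℕ) : Ks (1 / 3) m ≤ 54 / 5 := by
  have key : ∀ i, Ks (1 / 3) (2 * (6 + i)) * (1 + 5 / 2 * (1 / 3) ^ (6 + i)) ≤ 54 / 5 := by
    intro i
    induction i with
    | zero => norm_num [Ks, fac, Nat.even_iff]
    | succ i ih =>
      refine le_trans ?_ ih
      obtain ⟨z, hz⟩ : ∃ z, ((1 : ℚ) / 3) ^ (6 + i) = z := ⟨_, rfl⟩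
      have hz0 : 0 ≤ z := hz ▸ by positivity
      have hz1 : z ≤ (1 / 3) ^ 6 := hz ▸ pow_le_pow_of_le_one (by norm_num) (by norm_num) (by omega)
      rw [show 2 * (6 + (i + 1)) = 2 * (5 + i) + 2 + 2 by omega, Ks,
        show 2 * (5 + i) + 2 + 1 = 2 * (5 + i) + 1 + 2 by omega, Ks,
        show 2 * (5 + i) + 1 + 1 = 2 * (6 + i) by omega, mul_assoc, mul_assoc]
      refine mul_le_mul_of_nonneg_left ?_ (Ks_nonneg (by norm_num) (by norm_num) _)
      rw [fac, fac, if_neg (by simp [Nat.even_iff]), if_pos (by simp [Nat.even_iff]),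
        show (2 * (6 + i) + 2) / 2 = (6 + i) + 1 by omega,
        show 2 * (5 + i) + 1 + 2 - 1 = (6 + i) + (6 + i) by omega,
        show 2 * (6 + i) + 2 - 1 = (6 + i) + (6 + i) + 1 by omega,
        show 6 + (i + 1) = 6 + i + 1 by omega, pow_succ ((1 : ℚ) / 3) (6 + i + (6 + i)), pow_succ ((1 : ℚ) / 3) (6 + i),
        pow_add ((1 : ℚ) / 3) (6 + i) (6 + i), hz]
      norm_num at hz1
      have hzz : z * z ≤ z / 729 := by nlinarith
      rw [div_mul_eq_mul_div, div_mul_eq_mul_div, one_mul, div_le_iff₀ (by nlinarith),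
        div_le_iff₀ (by nlinarith)]
      have h4 : (1 + z * (1 / 3)) ^ 4 ≤ 1 + 137 / 100 * z := by
        have e : (1 + z * (1 / 3)) ^ 4 = 1 + 4 / 3 * z + z * z * (2 / 3 + 4 / 27 * z + z * z / 81) := by
          ring
        rw [e]
        nlinarith
      have h6 : (1 + z * (1 / 3)) ^ 4 * (1 + 5 / 2 * (z * (1 / 3))) ≤ 1 + 23 / 10 * z := by
        refine (mul_le_mul_of_nonneg_right h4 (by positivity)).trans ?_
        nlinarith
      refine h6.trans ?_
      nlinarith
  rcases Nat.le_total m 12 with h | h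
  · refine (Ks_mono_m (by norm_num) (by norm_num) h).trans (le_trans ?_ (key 0))
    exact le_mul_of_one_le_right (Ks_nonneg (by norm_num) (by norm_num) _) (by norm_num)
  · refine (Ks_mono_m (by norm_num) (by norm_num) (show m ≤ 2 * (6 + (m - 6)) by omega)).trans
      (le_trans ?_ (key (m - 6)))
    refine le_mul_of_one_le_right (Ks_nonneg (by norm_num) (by norm_num) _) ?_
    have : (0 : ℚ) ≤ 5 / 2 * (1 / 3) ^ (6 + (m - 6)) := by positivity
    linarith

theorem geom_le' {z : ℚ} (h0 : 0 ≤ z) (h1 : z < 1) (A : ℕ) :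
    ∑ a ∈ Finset.range A, z ^ a ≤ 1 / (1 - z) := by
  have h : (∑ a ∈ Finset.range A, z ^ a) * (1 - z) = 1 - z ^ A := geom_sum_mul_neg z A
  rw [le_div_iff₀ (by linarith), h]
  have : 0 ≤ z ^ A := pow_nonneg h0 A
  linarith

theorem NN_series {q : ℕ} {y : ℚ} (hy : 0 ≤ y) (hz : (q : ℚ) * y ^ 2 < 1) (A : ℕ) :
    ∑ a ∈ Finset.range A, (NN q a : ℚ) * y ^ a ≤ (1 + y) ^ 2 / (1 - q * y ^ 2) := by
  have h : ∑ a ∈ Finset.range (2 * A + 1), (NN q a : ℚ) * y ^ a =
      1 + (q * y ^ 2 + y ^ 2 + 2 * y) * ∑ e ∈ Finset.range A, ((q : ℚ) * y ^ 2) ^ e := by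
    induction A with
    | zero => simp [NN]
    | succ A ih =>
      rw [show 2 * (A + 1) + 1 = 2 * A + 1 + 1 + 1 by ring, Finset.sum_range_succ,
        Finset.sum_range_succ, ih, Finset.sum_range_succ _ A, mul_add]
      rw [NN, if_neg (by omega), NN, if_neg (by omega), show (2 * A + 1) / 2 = A by omega,
        show (2 * A + 1 - 1) / 2 = A by omega, show (2 * A + 1 + 1) / 2 = A + 1 by omega,
        show (2 * A + 1 + 1 - 1) / 2 = A by omega]
      push_cast
      ring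
  refine le_trans (Finset.sum_le_sum_of_subset_of_nonneg (Finset.range_mono (show A ≤ 2 * A + 1 by omega))
    fun _ _ _ => by positivity) ?_
  rw [h]
  have h2 := geom_le' (by positivity : 0 ≤ (q : ℚ) * y ^ 2) hz A
  have h3 : 0 ≤ (q : ℚ) * y ^ 2 + y ^ 2 + 2 * y := by positivity
  refine (add_le_add le_rfl (mul_le_mul_of_nonneg_left h2 h3)).trans (le_of_eq ?_)
  have h4 : (1 - (q : ℚ) * y ^ 2) ≠ 0 := by linarith
  field_simp
  ring

theorem SS_series {q : ℕ} {y : ℚ} (hy : 0 ≤ y) (hz : (q : ℚ) * y ^ 2 < 1) (A : ℕ) :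
    ∑ a ∈ Finset.range A, (SS q a : ℚ) * y ^ a ≤ (1 + y) ^ 4 / (1 - q * y ^ 2) := by
  have hS : ∀ A, ∑ a ∈ Finset.range A, (SS q a : ℚ) * y ^ a =
      (∑ a ∈ Finset.range A, (NN q a : ℚ) * y ^ a) +
        2 * y * (∑ a ∈ Finset.range (A - 1), (NN q a : ℚ) * y ^ a) +
        y ^ 2 * (∑ a ∈ Finset.range (A - 2), (NN q a : ℚ) * y ^ a) := by
    intro A
    induction A with
    | zero => simp
    | succ A ih =>
      rcases A with _ | _ | A
      · simp [SS]
      · simp [SS, Finset.sum_range_succ]; ring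
      · rw [Finset.sum_range_succ, ih, show A + 1 + 1 + 1 - 1 = A + 1 + 1 by omega,
          show A + 1 + 1 + 1 - 2 = A + 1 by omega, show A + 1 + 1 - 1 = A + 1 by omega,
          show A + 1 + 1 - 2 = A by omega, SS, if_pos (by omega), if_pos (by omega),
          show A + 1 + 1 - 1 = A + 1 by omega, show A + 1 + 1 - 2 = A by omega,
          Finset.sum_range_succ _ (A + 1 + 1), Finset.sum_range_succ _ (A + 1),
          Finset.sum_range_succ _ A]
        push_cast
        ring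
  rw [hS]
  have h1 := NN_series hy hz A
  have h2 := NN_series hy hz (A - 1)
  have h3 := NN_series hy hz (A - 2)
  calc _ ≤ (1 + y) ^ 2 / (1 - q * y ^ 2) + 2 * y * ((1 + y) ^ 2 / (1 - q * y ^ 2)) +
        y ^ 2 * ((1 + y) ^ 2 / (1 - q * y ^ 2)) := by
        refine add_le_add (add_le_add h1 (mul_le_mul_of_nonneg_left h2 (by linarith)))
          (mul_le_mul_of_nonneg_left h3 (by positivity))
    _ = _ := by ring

theorem cntS_le {q : ℕ} (hq : 3 ≤ q) : ∀ m n,
    (cntS q m n : ℚ) ≤ Ks (1 / q) m * (q : ℚ) ^ n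
  | 0, n => by
    by_cases hn : n = 0
    · simp [cntS, Ks, hn]
    · simp only [cntS, hn, if_false, Ks, one_mul]
      push_cast
      positivity
  | 1, n => by
    have hrec : cntS q 1 n = ∑ e ∈ Finset.range (n + 1), q ^ e * cntS q 0 (n - e) := by simp [cntS]
    rw [hrec, Finset.sum_eq_single n]
    · rw [Nat.sub_self, show cntS q 0 0 = 1 from rfl, mul_one, Ks, one_mul]
      push_cast
      exact le_rfl
    · intro a ha hne
      have : n - a ≠ 0 := by rw [Finset.mem_range] at ha; omega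
      simp [cntS, this]
    · simp
  | m + 2, n => by
    have hq1 : (0 : ℚ) < q := by positivity
    obtain ⟨x, hx⟩ : ∃ x : ℚ, 1 / (q : ℚ) = x := ⟨_, rfl⟩
    have hx0 : 0 ≤ x := hx ▸ by positivity
    have hx1 : x < 1 := by
      rw [← hx, div_lt_one hq1]
      exact_mod_cast (show 1 < q by omega)
    have hqx : (q : ℚ) * x = 1 := by rw [← hx]; field_simp
    have hsub : ∀ k, k ≤ n → (cntS q (m + 1) (n - k) : ℚ) ≤ Ks x (m + 1) * ((q : ℚ) ^ n * x ^ k) := by
      intro k hk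
      refine (cntS_le hq (m + 1) _).trans (le_of_eq ?_)
      rw [hx]
      congr 1
      obtain ⟨r, hr⟩ := Nat.exists_eq_add_of_le hk
      rw [hr, Nat.add_sub_cancel_left, pow_add, mul_right_comm, ← mul_pow, hqx, one_pow, one_mul]
    have hlt : x ^ (m + 1) < 1 := pow_lt_one₀ hx0 hx1 (Nat.succ_ne_zero m)
    rw [hx, show Ks x (m + 2) = Ks x (m + 1) * fac x (m + 2) from rfl, fac,
      show m + 2 - 1 = m + 1 by omega, cntS]
    by_cases hev : Even (m + 2)
    · obtain ⟨i, hi⟩ := hev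
      obtain ⟨A, hA⟩ : ∃ A, n / ((m + 2) / 2) = A := ⟨_, rfl⟩
      rw [if_pos ⟨i, hi⟩, if_pos ⟨i, hi⟩, hA, show (m + 2) / 2 = i by omega]
      push_cast
      calc ∑ a ∈ Finset.range (A + 1), (SS q a : ℚ) * cntS q (m + 1) (n - a * i)
          ≤ ∑ a ∈ Finset.range (A + 1), Ks x (m + 1) * (q : ℚ) ^ n * ((SS q a : ℚ) * (x ^ i) ^ a) := by
            refine Finset.sum_le_sum fun a ha => ?_
            rw [Finset.mem_range, Nat.lt_succ_iff, ← hA, Nat.le_div_iff_mul_le (by omega),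
              show (m + 2) / 2 = i by omega] at ha
            refine (mul_le_mul_of_nonneg_left (hsub _ ha) (by positivity)).trans (le_of_eq ?_)
            rw [← pow_mul, mul_comm i a]
            ring
        _ = Ks x (m + 1) * (q : ℚ) ^ n * ∑ a ∈ Finset.range (A + 1), (SS q a : ℚ) * (x ^ i) ^ a :=
            (Finset.mul_sum _ _ _).symm
        _ ≤ Ks x (m + 1) * (q : ℚ) ^ n * ((1 + x ^ i) ^ 4 / (1 - q * (x ^ i) ^ 2)) := by
            refine mul_le_mul_of_nonneg_left ?_ (mul_nonneg (Ks_nonneg hx0 hx1 _) (by positivity))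
            refine SS_series (pow_nonneg hx0 _) ?_ _
            rw [← pow_mul, show i * 2 = (m + 1) + 1 by omega, pow_succ, mul_left_comm, hqx, mul_one]
            exact hlt
        _ = _ := by
            rw [← pow_mul x i 2, show i * 2 = (m + 1) + 1 by omega, pow_succ x (m + 1),
              mul_left_comm (q : ℚ), hqx, mul_one]
            ring
    · obtain ⟨A, hA⟩ : ∃ A, n / (m + 2) = A := ⟨_, rfl⟩
      rw [if_neg hev, if_neg hev, hA]
      push_cast
      calc ∑ e ∈ Finset.range (A + 1), (q : ℚ) ^ e * cntS q (m + 1) (n - e * (m + 2))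
          ≤ ∑ e ∈ Finset.range (A + 1), Ks x (m + 1) * (q : ℚ) ^ n * (x ^ (m + 1)) ^ e := by
            refine Finset.sum_le_sum fun e he => ?_
            rw [Finset.mem_range, Nat.lt_succ_iff, ← hA, Nat.le_div_iff_mul_le (by omega)] at he
            refine (mul_le_mul_of_nonneg_left (hsub _ he) (by positivity)).trans (le_of_eq ?_)
            rw [← pow_mul, show e * (m + 2) = (m + 1) * e + e by ring, pow_add]
            calc _ = Ks x (m + 1) * (q : ℚ) ^ n * x ^ ((m + 1) * e) * ((q : ℚ) * x) ^ e := by ring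
              _ = _ := by rw [hqx, one_pow, mul_one]
        _ = Ks x (m + 1) * (q : ℚ) ^ n * ∑ e ∈ Finset.range (A + 1), (x ^ (m + 1)) ^ e :=
            (Finset.mul_sum _ _ _).symm
        _ ≤ Ks x (m + 1) * (q : ℚ) ^ n * (1 / (1 - x ^ (m + 1))) :=
            mul_le_mul_of_nonneg_left (geom_le' (pow_nonneg hx0 _) hlt _)
              (mul_nonneg (Ks_nonneg hx0 hx1 _) (by positivity))
        _ = _ := by ring

theorem cntS_bound {q : ℕ} (hq : 3 ≤ q) (m n : ℕ) : 5 * cntS q m n ≤ 54 * q ^ n := by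
  have h3 : (3 : ℚ) ≤ q := by exact_mod_cast hq
  have h := (cntS_le hq m n).trans (mul_le_mul_of_nonneg_right
    ((Ks_mono (by positivity) (one_div_le_one_div_of_le (by norm_num) h3) (by norm_num) m).trans (Ks_le m))
    (by positivity))
  have h2 : ((5 * cntS q m n : ℕ) : ℚ) ≤ ((54 * q ^ n : ℕ) : ℚ) := by
    push_cast
    linarith
  exact_mod_cast h2

end Cfsg.Agent.FormCount
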