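import Cfsg.Agent.Lib.Classical.GUCount.Dual
import Cfsg.Agent.Lib.Classical.SelfRecip
import Cfsg.Agent.Lib.Classical.SLClassBound

/-!
Weighted counting of the codes of symplectic matrices.
-/

set_option autoImplicit false
set_option linter.style.haveILetI false

namespace Cfsg.Agent.FormCount

open Polynomial Cfsg.Agent.GLCount Cfsg.Agent.SLWeight

/-- Self-dual polynomials of degree `a`. -/
def NN (q a : ℕ) : ℕ := if a = 0 then 1 else q ^ (a / 2) + q ^ ((a - 1) / 2)

/-- Self-dual polynomials of degree `a` with the weights of the roots `±1`. -/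
def SS (q a : ℕ) : ℕ :=
  NN q a + (if 1 ≤ a then 2 * NN q (a - 1) else 0) + (if 2 ≤ a then NN q (a - 2) else 0)

/-- The weighted coefficient of `t ^ n`. -/
def cntS (q : ℕ) : ℕ → ℕ → ℕ
  | 0, n => if n = 0 then 1 else 0
  | m + 1, n => if Even (m + 1) then
      ∑ a ∈ Finset.range (n / ((m + 1) / 2) + 1), SS q a * cntS q m (n - a * ((m + 1) / 2))
    else ∑ e ∈ Finset.range (n / (m + 1) + 1), q ^ e * cntS q m (n - e * (m + 1))

variable {F : Type*} [Field F]

/-- The monic self-dual polynomials of the given degree. -/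
def SDP (a : ℕ) (p : F[X]) : Prop :=
  p.Monic ∧ p.natDegree = a ∧ p.coeff 0 ≠ 0 ∧ GUCount.dual (RingEquiv.refl F) p = p

open Classical in
/-- The number of the roots among `1` and `-1`. -/
noncomputable def sroots (p : F[X]) : ℕ :=
  (({1, -1} : Finset F).filter fun s => p.eval s = 0).card

open Classical in
/-- The exponent of the weight. -/
noncomputable def wexp : List F[X] → ℕ
  | [] => 0
  | p :: l => (if Even (l.length + 1) then sroots p else 0) + wexp l

/-- The conditions on the codes. -/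
def GoodS : List F[X] → Prop
  | [] => True
  | p :: l => GUCount.dual (RingEquiv.refl F) p = p ∧
      (¬ Even (l.length + 1) → Even p.natDegree ∧ p.coeff 0 = 1) ∧ GoodS l

variable [Fintype F] [DecidableEq F]

open Classical in
/-- The self-dual polynomials of degree `a`. -/
noncomputable def sdp (a : ℕ) : Finset F[X] :=
  (polys F a).filter fun p => GUCount.dual (RingEquiv.refl F) p = p

theorem mem_sdp {a : ℕ} {p : F[X]} : p ∈ sdp a ↔ SDP a p := by
  classical
  rw [sdp, Finset.mem_filter]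
  refine ⟨fun ⟨h1, h2⟩ => ⟨(polys_spec h1).1, (polys_spec h1).2.1, (polys_spec h1).2.2, h2⟩, ?_⟩
  rintro ⟨h1, h2, h3, h4⟩
  refine ⟨h2 ▸ mem_polys F h1 (by rwa [← coeff_zero_eq_eval_zero]), h4⟩

theorem card_sdp_coeff (h2 : (2 : F) ≠ 0) (K : ℕ) (c : F) (s : Finset F[X])
    (hs : ∀ p ∈ s, SDP (K + 1) p ∧ p.coeff 0 = c) (hc : c = 1 ∨ c = -1) :
    s.card ≤ Fintype.card F ^ (K / 2) * (if c = 1 then Fintype.card F else 1) ^ (K % 2) := by
  obtain ⟨S, hSdef⟩ : ∃ S : Set F[X], S = {g : F[X] | g.Monic ∧ g.natDegree = K + 1 ∧ g.coeff 0 = c ∧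
      ∀ i, 1 ≤ i → i ≤ K → g.coeff (K + 1 - i) = c * g.coeff i} := ⟨_, rfl⟩
  have hsub : ↑s ⊆ S := by
    intro p hp
    obtain ⟨⟨hm, hd, h0, hdual⟩, hp0⟩ := hs p hp
    rw [hSdef]
    refine ⟨hm, hd, hp0, fun i _ hi2 => ?_⟩
    have := GUCount.SD_of_dual hm hdual i (by omega)
    rwa [hd, hp0] at this
  have hinv : ∀ x, c * (c * x) = x := fun x => by rcases hc with rfl | rfl <;> ring
  have hcard : Nat.card ↥S = Nat.card F ^ (K / 2) * Nat.card {x : F // c * x = x} ^ (K % 2) := by
    rw [hSdef]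
    exact SelfRecip.card_selfrecip (fun x => c * x) hinv K c
  have hfixcard : Nat.card {x : F // c * x = x} ≤ if c = 1 then Fintype.card F else 1 := by
    split_ifs with h1
    · rw [← Nat.card_eq_fintype_card]
      exact Nat.card_le_card_of_injective _ Subtype.val_injective
    · rw [Finite.card_le_one_iff_subsingleton]
      refine ⟨fun a b => Subtype.ext ?_⟩
      have key : ∀ x : F, c * x = x → x = 0 := fun x hx => by
        rw [hc.resolve_left h1] at hx
        exact (mul_eq_zero.1 (by linear_combination -hx : (2 : F) * x = 0)).resolve_left h2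
      rw [key _ a.2, key _ b.2]
  haveI : Finite ↥S := Nat.finite_of_card_ne_zero (by
    rw [hcard]
    haveI : Nonempty {x : F // c * x = x} := ⟨⟨0, by simp⟩⟩
    exact mul_ne_zero (pow_ne_zero _ Nat.card_pos.ne') (pow_ne_zero _ Nat.card_pos.ne'))
  calc s.card = Nat.card ↥(s : Set F[X]) := (Nat.card_eq_finsetCard s).symm
    _ ≤ Nat.card ↥S := Nat.card_mono (Set.toFinite S) hsub
    _ ≤ _ := by
      rw [hcard, Nat.card_eq_fintype_card (α := F)]
      exact Nat.mul_le_mul_left _ (Nat.pow_le_pow_left hfixcard _)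

theorem card_sdp (h2 : (2 : F) ≠ 0) (a : ℕ) : (sdp (F := F) a).card ≤ NN (Fintype.card F) a := by
  classical
  cases a with
  | zero =>
    refine (Finset.card_filter_le _ _).trans ?_
    simp [polys, NN]
  | succ K =>
    have hval : ∀ p ∈ sdp (F := F) (K + 1), p.coeff 0 = 1 ∨ p.coeff 0 = -1 := fun p hp => by
      obtain ⟨hm, hd, h0, hdual⟩ := mem_sdp.1 hp
      have h := GUCount.SD_of_dual hm hdual 0 (Nat.zero_le _)
      rw [Nat.sub_zero, hm.coeff_natDegree] at h
      exact mul_self_eq_one_iff.1 h.symm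
    have hne : (-1 : F) ≠ 1 := fun h => h2 (by linear_combination -h)
    calc (sdp (F := F) (K + 1)).card
        ≤ ((sdp (F := F) (K + 1)).filter fun p => p.coeff 0 = 1).card +
          ((sdp (F := F) (K + 1)).filter fun p => p.coeff 0 = -1).card := by
          refine le_trans (Finset.card_le_card fun p hp => ?_) (Finset.card_union_le _ _)
          rcases hval p hp with h | h
          · exact Finset.mem_union_left _ (Finset.mem_filter.2 ⟨hp, h⟩)
          · exact Finset.mem_union_right _ (Finset.mem_filter.2 ⟨hp, h⟩)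
      _ ≤ Fintype.card F ^ (K / 2) * Fintype.card F ^ (K % 2) + Fintype.card F ^ (K / 2) := by
          refine Nat.add_le_add ?_ ?_
          · refine (card_sdp_coeff h2 K 1 _ (fun p hp => ?_) (Or.inl rfl)).trans (by rw [if_pos rfl])
            exact ⟨mem_sdp.1 (Finset.mem_filter.1 hp).1, (Finset.mem_filter.1 hp).2⟩
          · refine (card_sdp_coeff h2 K (-1) _ (fun p hp => ?_) (Or.inr rfl)).trans
              (by rw [if_neg hne, one_pow, mul_one])
            exact ⟨mem_sdp.1 (Finset.mem_filter.1 hp).1, (Finset.mem_filter.1 hp).2⟩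
      _ = NN (Fintype.card F) (K + 1) := by
          rw [NN, if_neg (Nat.succ_ne_zero K), Nat.add_sub_cancel, ← pow_add]
          congr 2
          omega

theorem card_sdp_root {a : ℕ} {s : F} (hs : s * s = 1) (t : Finset F[X])
    (ht : ∀ p ∈ t, SDP (a + 1) p ∧ p.eval s = 0) :
    t.card ≤ (t.image fun p => p /ₘ (X - C s)).card ∧
      ∀ r ∈ t.image (fun p => p /ₘ (X - C s)), SDP a r ∧ ∃ p ∈ t, p = (X - C s) * r := by
  classical
  have hfac : ∀ p ∈ t, (X - C s) * (p /ₘ (X - C s)) = p := fun p hp =>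
    mul_divByMonic_eq_iff_isRoot.2 (ht p hp).2
  refine ⟨le_of_eq (Finset.card_image_of_injOn fun p hp r hr h => ?_).symm, fun r hr => ?_⟩
  · rw [← hfac p hp, ← hfac r hr]
    exact congrArg _ h
  obtain ⟨p, hp, rfl⟩ := Finset.mem_image.1 hr
  obtain ⟨⟨hm, hd, h0, hdual⟩, -⟩ := ht p hp
  have h := hfac p hp
  obtain ⟨r', hr'⟩ : ∃ r', p /ₘ (X - C s) = r' := ⟨_, rfl⟩
  rw [hr'] at h ⊢
  have hrne : r' ≠ 0 := fun e => hm.ne_zero (by rw [← h, e, mul_zero])
  have hrm : r'.Monic := (monic_X_sub_C s).of_mul_monic_left (h ▸ hm)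
  refine ⟨⟨hrm, ?_, ?_, ?_⟩, p, hp, h.symm⟩
  · have := congrArg natDegree h
    rw [natDegree_mul (X_sub_C_ne_zero s) hrne, natDegree_X_sub_C, hd] at this
    omega
  · intro e
    apply h0
    rw [← h, mul_coeff_zero, e, mul_zero]
  · have h1 := congrArg (GUCount.dual (RingEquiv.refl F)) h
    rw [GUCount.dual_mul, hdual] at h1
    have hX : GUCount.dual (RingEquiv.refl F) (X - C s) = X - C s := by
      have hs0 : s ≠ 0 := fun e => by simp [e] at hs
      have h0' : (X - C s : F[X]).coeff 0 ≠ 0 := by simp [hs0]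
      have hd' : (GUCount.dual (RingEquiv.refl F) (X - C s)).natDegree = 1 := by
        rw [GUCount.natDegree_dual h0', natDegree_X_sub_C]
      rw [(GUCount.dual_monic h0').eq_X_add_C hd', GUCount.dual_coeff _ _ (Nat.zero_le _),
        natDegree_X_sub_C]
      simp [inv_eq_of_mul_eq_one_right hs, sub_eq_add_neg]
    rw [hX] at h1
    exact mul_left_cancel₀ (X_sub_C_ne_zero s) (h1.trans h.symm)

theorem sum_sdp (h2 : (2 : F) ≠ 0) (a : ℕ) :
    ∑ p ∈ sdp (F := F) a, 2 ^ sroots p ≤ SS (Fintype.card F) a := by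
  classical
  obtain ⟨q, hq⟩ : ∃ q, Fintype.card F = q := ⟨_, rfl⟩
  rw [hq]
  have hne : (1 : F) ≠ -1 := fun h => h2 (by linear_combination h)
  obtain ⟨A, hA⟩ : ∃ A : F → Finset F[X], A = fun s => (sdp (F := F) a).filter fun p => p.eval s = 0 :=
    ⟨_, rfl⟩
  have hexp : ∀ p : F[X], 2 ^ sroots p = 1 + (if p.eval 1 = 0 then 1 else 0) +
      (if p.eval (-1) = 0 then 1 else 0) + (if p.eval 1 = 0 ∧ p.eval (-1) = 0 then 1 else 0) := by
    intro p
    rw [sroots, Finset.filter_insert, Finset.filter_singleton]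
    by_cases h1 : p.eval 1 = 0 <;> by_cases h3 : p.eval (-1) = 0 <;> simp [h1, h3, hne]
  simp only [hexp, Finset.sum_add_distrib, Finset.sum_boole, Finset.sum_const, smul_eq_mul, mul_one,
    Nat.cast_id]
  have hN : ∀ b, (sdp (F := F) b).card ≤ NN q b := fun b => hq ▸ card_sdp h2 b
  have hroot : ∀ s : F, s * s = 1 → ((sdp (F := F) a).filter fun p => p.eval s = 0).card ≤
      if 1 ≤ a then NN q (a - 1) else 0 := by
    intro s hs
    rcases Nat.eq_zero_or_pos a with rfl | ha
    · rw [if_neg (by omega)]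
      refine le_of_eq (Finset.card_eq_zero.2 (Finset.filter_eq_empty_iff.2 fun {p} hp h => ?_))
      obtain ⟨hm, hd, -⟩ := mem_sdp.1 hp
      rw [hm.natDegree_eq_zero.1 hd, eval_one] at h
      exact one_ne_zero h
    · obtain ⟨b, rfl⟩ : ∃ b, a = b + 1 := ⟨a - 1, by omega⟩
      rw [if_pos (by omega), Nat.add_sub_cancel]
      obtain ⟨h1, h3⟩ := card_sdp_root (a := b) hs _ fun p hp =>
        ⟨mem_sdp.1 (Finset.mem_filter.1 hp).1, (Finset.mem_filter.1 hp).2⟩
      exact h1.trans ((Finset.card_le_card fun r hr => mem_sdp.2 (h3 r hr).1).trans (hN b))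
  have hboth : ((sdp (F := F) a).filter fun p => p.eval 1 = 0 ∧ p.eval (-1) = 0).card ≤
      if 2 ≤ a then NN q (a - 2) else 0 := by
    obtain ⟨T, hT⟩ : ∃ T, T = (sdp (F := F) a).filter fun p => p.eval 1 = 0 ∧ p.eval (-1) = 0 := ⟨_, rfl⟩
    rw [← hT]
    rcases T.eq_empty_or_nonempty with he | ⟨p₀, hp₀⟩
    · rw [he]; simp
    have hge : 2 ≤ a := by
      rw [hT, Finset.mem_filter] at hp₀
      obtain ⟨hm, hd, -⟩ := mem_sdp.1 hp₀.1
      have hdvd : (X - C (1 : F)) * (X - C (-1)) ∣ p₀ := IsCoprime.mul_dvd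
        (isCoprime_X_sub_C_of_isUnit_sub (sub_ne_zero.2 hne).isUnit)
        (dvd_iff_isRoot.2 hp₀.2.1) (dvd_iff_isRoot.2 hp₀.2.2)
      have := natDegree_le_of_dvd hdvd hm.ne_zero
      rw [natDegree_mul (X_sub_C_ne_zero _) (X_sub_C_ne_zero _), natDegree_X_sub_C, natDegree_X_sub_C,
        hd] at this
      omega
    obtain ⟨b, rfl⟩ : ∃ b, a = b + 1 + 1 := ⟨a - 2, by omega⟩
    rw [if_pos hge, show b + 1 + 1 - 2 = b by omega]
    obtain ⟨h1, h3⟩ := card_sdp_root (a := b + 1) (one_mul (1 : F)) T fun p hp => by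
      rw [hT, Finset.mem_filter] at hp
      exact ⟨mem_sdp.1 hp.1, hp.2.1⟩
    obtain ⟨h4, h5⟩ := card_sdp_root (a := b) (s := (-1 : F)) (by ring)
      (T.image fun p => p /ₘ (X - C 1)) fun r hr => by
        obtain ⟨hr1, p, hp, hpr⟩ := h3 r hr
        rw [hT, Finset.mem_filter] at hp
        refine ⟨hr1, ?_⟩
        have h := hp.2.2
        rw [hpr, eval_mul, eval_sub, eval_X, eval_C] at h
        exact (mul_eq_zero.1 h).resolve_left (sub_ne_zero.2 hne.symm)
    exact h1.trans (h4.trans ((Finset.card_le_card fun r hr => mem_sdp.2 (h5 r hr).1).trans (hN b)))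
  have := hroot 1 (one_mul 1)
  have := hroot (-1) (by ring)
  have := hN a
  rw [SS]
  split_ifs at * <;> omega

open Classical in
/-- The admissible codes. -/
noncomputable def seqsS (m n : ℕ) : Finset (List F[X]) := (seqs F m n).filter GoodS

theorem count_even_one (h2 : (2 : F) ≠ 0) (e : ℕ) (s : Finset F[X])
    (hs : ∀ p ∈ s, SDP (2 * e) p ∧ p.coeff 0 = 1) : s.card ≤ Fintype.card F ^ e := by
  rcases Nat.eq_zero_or_pos e with rfl | he
  · refine (Finset.card_le_card fun p hp => mem_sdp.2 (hs p hp).1).trans ((card_sdp h2 _).trans ?_)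
    simp [NN]
  · obtain ⟨K, hK⟩ : ∃ K, 2 * e = K + 1 := ⟨2 * e - 1, by omega⟩
    refine (card_sdp_coeff h2 K 1 s (fun p hp => hK ▸ hs p hp) (Or.inl rfl)).trans (le_of_eq ?_)
    rw [if_pos rfl, ← pow_add]
    congr 1
    omega

set_option maxHeartbeats 800000 in
theorem weightS_le (h2 : (2 : F) ≠ 0) : ∀ m n,
    ∑ l ∈ seqsS (F := F) m (2 * n), 2 ^ wexp l ≤ cntS (Fintype.card F) m n
  | 0, n => by
    classical
    by_cases hn : n = 0
    · subst hn
      simp [seqsS, seqs, GoodS, wexp, cntS, Finset.filter_singleton]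
    · simp [seqsS, seqs, cntS, hn]
  | m + 1, n => by
    classical
    obtain ⟨q, hq⟩ : ∃ q, Fintype.card F = q := ⟨_, rfl⟩
    rw [hq]
    let P : ℕ → Finset F[X] := fun a => (polys F a).filter fun p =>
      GUCount.dual (RingEquiv.refl F) p = p ∧ (¬ Even (m + 1) → Even p.natDegree ∧ p.coeff 0 = 1)
    let T : ℕ → Finset (List F[X]) := fun a => seqsS (F := F) m (2 * n - a * (m + 1))
    have hlen : ∀ a, ∀ l ∈ T a, l.length = m := fun a l hl => length_seqs m _ (Finset.mem_filter.1 hl).1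
    have hsub : seqsS (F := F) (m + 1) (2 * n) ⊆
        (Finset.range (2 * n / (m + 1) + 1)).biUnion fun a =>
          (P a ×ˢ T a).image fun x => x.1 :: x.2 := by
      intro l hl
      rw [seqsS, Finset.mem_filter, seqs, Finset.mem_biUnion] at hl
      obtain ⟨⟨a, ha, hl⟩, hgood⟩ := hl
      obtain ⟨⟨p, l'⟩, hx, rfl⟩ := Finset.mem_image.1 hl
      rw [Finset.mem_product] at hx
      obtain ⟨hg1, hg2, hg3⟩ := hgood
      rw [length_seqs m _ hx.2] at hg2
      exact Finset.mem_biUnion.2 ⟨a, ha, Finset.mem_image.2 ⟨(p, l'), Finset.mem_product.2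
        ⟨Finset.mem_filter.2 ⟨hx.1, hg1, hg2⟩, Finset.mem_filter.2 ⟨hx.2, hg3⟩⟩, rfl⟩⟩
    refine (Finset.sum_le_sum_of_subset hsub).trans ((sum_biUnion_le' _ _ _).trans ?_)
    have hstep : ∀ a, ∑ x ∈ (P a ×ˢ T a).image (fun x => x.1 :: x.2), 2 ^ wexp x ≤
        (∑ p ∈ P a, 2 ^ (if Even (m + 1) then sroots p else 0)) * ∑ l ∈ T a, 2 ^ wexp l := by
      intro a
      refine (Finset.sum_image_le_of_nonneg fun _ _ => Nat.zero_le _).trans (le_of_eq ?_)
      rw [Finset.sum_mul_sum, Finset.sum_product]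
      refine Finset.sum_congr rfl fun p _ => Finset.sum_congr rfl fun l hl => ?_
      rw [wexp, hlen a l hl, pow_add]
    refine (Finset.sum_le_sum fun a _ => hstep a).trans ?_
    rw [cntS]
    by_cases hev : Even (m + 1)
    · rw [if_pos hev]
      obtain ⟨i, hi⟩ := hev
      have hev' : Even (m + 1) := ⟨i, hi⟩
      have hdiv : (m + 1) / 2 = i := by omega
      rw [hdiv, show 2 * n / (m + 1) = n / i by
        rw [hi, ← two_mul, Nat.mul_div_mul_left _ _ (by norm_num : 0 < 2)]]
      refine Finset.sum_le_sum fun a _ => Nat.mul_le_mul ?_ ?_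
      · simp only [if_pos hev']
        refine (Finset.sum_le_sum_of_subset fun p hp => ?_).trans (hq ▸ sum_sdp h2 a)
        obtain ⟨hp1, hp2, -⟩ := Finset.mem_filter.1 hp
        exact Finset.mem_filter.2 ⟨hp1, hp2⟩
      · have harg : 2 * n - a * (m + 1) = 2 * (n - a * i) := by
          rw [Nat.mul_sub, hi]
          congr 1
          ring
        show ∑ l ∈ seqsS (F := F) m (2 * n - a * (m + 1)), 2 ^ wexp l ≤ _
        rw [harg]
        exact hq ▸ weightS_le h2 m (n - a * i)
    · rw [if_neg hev]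
      have hodd : ∀ a, ¬ Even a → P a = ∅ := fun a ha => by
        refine Finset.filter_eq_empty_iff.2 fun {p} hp h => ha ?_
        rw [← (polys_spec hp).2.1]
        exact (h.2 hev).1
      calc ∑ a ∈ Finset.range (2 * n / (m + 1) + 1),
            (∑ p ∈ P a, 2 ^ (if Even (m + 1) then sroots p else 0)) * ∑ l ∈ T a, 2 ^ wexp l
          ≤ ∑ a ∈ (Finset.range (n / (m + 1) + 1)).image (2 * ·),
            (∑ p ∈ P a, 2 ^ (if Even (m + 1) then sroots p else 0)) * ∑ l ∈ T a, 2 ^ wexp l := by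
            refine Finset.sum_le_sum_of_ne_zero fun a ha hne => ?_
            have hae : Even a := by
              by_contra hcon
              rw [hodd a hcon] at hne
              simp at hne
            obtain ⟨e, rfl⟩ := hae
            rw [Finset.mem_range, Nat.lt_succ_iff, Nat.le_div_iff_mul_le (by omega)] at ha
            refine Finset.mem_image.2 ⟨e, ?_, two_mul e⟩
            rw [Finset.mem_range, Nat.lt_succ_iff, Nat.le_div_iff_mul_le (by omega)]
            have : (e + e) * (m + 1) = 2 * (e * (m + 1)) := by ring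
            omega
        _ = ∑ e ∈ Finset.range (n / (m + 1) + 1),
            (∑ p ∈ P (2 * e), 2 ^ (if Even (m + 1) then sroots p else 0)) *
              ∑ l ∈ T (2 * e), 2 ^ wexp l := Finset.sum_image fun a _ b _ h => by simpa using h
        _ ≤ _ := by
            refine Finset.sum_le_sum fun e _ => Nat.mul_le_mul ?_ ?_
            · simp only [if_neg hev, pow_zero, Finset.sum_const, smul_eq_mul, mul_one]
              rw [← hq]
              refine count_even_one h2 e _ fun p hp => ?_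
              obtain ⟨hp1, hp2, hp3⟩ := Finset.mem_filter.1 hp
              exact ⟨mem_sdp.1 (Finset.mem_filter.2 ⟨hp1, hp2⟩), (hp3 hev).2⟩
            · show ∑ l ∈ seqsS (F := F) m (2 * n - 2 * e * (m + 1)), 2 ^ wexp l ≤ _
              rw [mul_assoc, ← Nat.mul_sub]
              exact hq ▸ weightS_le h2 m (n - e * (m + 1))

end Cfsg.Agent.FormCount
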