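import Cfsg.Agent.Lib.Classical.FormCount.Induct
import Cfsg.Agent.Lib.Classical.FormCount.SpArith
import Cfsg.Agent.Lib.Classical.SympCharpoly
import Cfsg.Agent.Lib.Classical.Symplectic

/-!
The classes of the symplectic groups over fields of odd order are counted by weighted codes.
-/

set_option autoImplicit false
set_option linter.style.haveILetI false
set_option linter.unusedSectionVars false

namespace Cfsg.Agent.FormCount

open Polynomial Module Matrix
open Cfsg.Agent.GLCount Cfsg.Agent.SLBound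
open LinearMap (BilinForm)

universe u

variable {F : Type u} [Field F]

section Kdim

variable {ε : F} {d : ℕ}

theorem kdim_adj (S : Sys F ε d) {a b : F[X]}
    (h : ∀ x y, S.B (S.pol a x) y = S.B x (S.pol b y)) : S.kdim a = S.kdim b := by
  have hrefl : S.B.IsRefl := fun x y h' => by rw [S.hsym, h', mul_zero]
  have hnd : S.B.Nondegenerate := ⟨S.hnd, fun x hx => S.hnd x fun y => hrefl _ _ (hx y)⟩
  have hker : LinearMap.ker (S.pol a) = S.B.orthogonal (LinearMap.range (S.pol b)) := by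
    ext x
    rw [LinearMap.mem_ker, LinearMap.BilinForm.mem_orthogonal_iff]
    refine ⟨?_, fun hx => S.hnd _ fun y => ?_⟩
    · rintro hx _ ⟨y, rfl⟩
      refine hrefl _ _ ?_
      rw [← h, hx, map_zero, LinearMap.zero_apply]
    · rw [h]
      exact hrefl _ _ (hx _ ⟨y, rfl⟩)
  have h1 := LinearMap.finrank_range_add_finrank_ker (S.pol b)
  have h2 := LinearMap.BilinForm.finrank_orthogonal hnd (LinearMap.range (S.pol b))
  rw [Sys.kdim, Sys.kdim, hker]
  omega

theorem kdim_dual [Finite F] (S : Sys F ε d) {p : F[X]} (h0 : p.coeff 0 ≠ 0) (k : ℕ) :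
    S.kdim (p ^ k) = S.kdim (GUCount.dual (RingEquiv.refl F) p ^ k) := by
  obtain ⟨u, v, hvu, hu⟩ := S.adj_dual h0
  have hpow : ∀ (k : ℕ) x, S.pol ((v * u) ^ k) x = x := by
    intro k
    induction k with
    | zero => intro x; rw [pow_zero, S.pol_one]
    | succ k ih => intro x; rw [pow_succ, S.pol_mul, hvu, ih]
  rw [kdim_adj S (S.adj_pow hu k), Sys.kdim, Sys.kdim, mul_pow]
  have he : LinearMap.ker (S.pol (u ^ k * GUCount.dual (RingEquiv.refl F) p ^ k)) =
      LinearMap.ker (S.pol (GUCount.dual (RingEquiv.refl F) p ^ k)) := by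
    ext x
    rw [LinearMap.mem_ker, LinearMap.mem_ker, S.pol_mul]
    refine ⟨fun h => ?_, fun h => by rw [h, map_zero]⟩
    rw [← hpow k (S.pol (GUCount.dual (RingEquiv.refl F) p ^ k) x), mul_pow, S.pol_mul, h, map_zero]
  rw [he]

end Kdim

/-! ### Self-dual polynomials -/

theorem eval_dual {p : F[X]} {s : F} (hs : s * s = 1) :
    (GUCount.dual (RingEquiv.refl F) p).eval s * s ^ p.natDegree = (p.coeff 0)⁻¹ * p.eval s := by
  let i : Invertible s := ⟨s, hs, hs⟩
  have h : eval₂ (RingHom.id F) s p.reverse * s ^ p.natDegree = eval₂ (RingHom.id F) s p :=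
    @eval₂_reverse_mul_pow F _ F _ (RingHom.id F) s i p
  rw [eval₂_id, eval₂_id] at h
  have hd : GUCount.dual (RingEquiv.refl F) p = C (p.coeff 0)⁻¹ * p.reverse := by
    simp [GUCount.dual]
  rw [hd, eval_mul, eval_C, mul_assoc, h]

theorem sd_even (h2 : (2 : F) ≠ 0) {p : F[X]}
    (hd : GUCount.dual (RingEquiv.refl F) p = p) (h1 : p.eval 1 ≠ 0) (h3 : p.eval (-1) ≠ 0) :
    Even p.natDegree ∧ p.coeff 0 = 1 := by
  have e1 := eval_dual (p := p) (one_mul (1 : F))
  rw [hd, one_pow, mul_one] at e1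
  have hc : (p.coeff 0)⁻¹ = 1 := mul_right_cancel₀ h1 (e1.symm.trans (one_mul _).symm)
  have e2 := eval_dual (p := p) (s := (-1 : F)) (by ring)
  rw [hd, hc, one_mul] at e2
  have hpow : (-1 : F) ^ p.natDegree = 1 := mul_left_cancel₀ h3 (e2.trans (mul_one _).symm)
  have hne : (-1 : F) ≠ 1 := fun h => h2 (by linear_combination -h)
  refine ⟨?_, inv_eq_one.1 hc⟩
  rcases Nat.even_or_odd p.natDegree with h | h
  · exact h
  · exact absurd (h.neg_one_pow.symm.trans hpow) hne

/-! ### The code of a system -/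

variable [Fintype F] [DecidableEq F] {N : ℕ}

section Code

variable {ε : F} (S : Sys F ε N) (G : Matrix.GeneralLinearGroup (Fin N) F)
  (hS : S.g.toLinearMap = GLCount.lin G.1) {ι : Type u} [Fintype ι] {q : ι → F[X]} {e : ι → ℕ}
  (hq : ∀ i, Irreducible (q i) ∧ (q i).Monic) (h0 : ∀ i, e i ≠ 0 → (q i).eval 0 ≠ 0)
  (Φ : Module.AEval' (GLCount.lin G.1) ≃ₗ[F[X]] ((i : ι) → Blk (q i) (e i)))

include hS Φ hq

theorem kdim_eq {p : F[X]} (hp : Irreducible p ∧ p.Monic) (k : ℕ) :
    S.kdim (p ^ k) = (∑ i ∈ Finset.univ.filter (fun i => q i = p), min k (e i)) * p.natDegree := by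
  rw [← SLTwist.sum_min G hq Φ hp k]
  rw [Sys.kdim, Sys.pol, hS]

theorem mult_eq (s : F) (j : ℕ) : mult S s (j + 1) =
    (Finset.univ.filter fun i => e i = j + 1 ∧ q i = X - C s).card := by
  classical
  have hk : ∀ k, S.kdim ((X - C s) ^ k) =
      ∑ i ∈ Finset.univ.filter (fun i => q i = X - C s), min k (e i) := fun k => by
    rw [kdim_eq S G hS hq Φ ⟨irreducible_X_sub_C s, monic_X_sub_C s⟩ k, natDegree_X_sub_C, mul_one]
  simp only [mult, hk, Nat.add_sub_cancel]
  rw [Finset.card_filter]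
  simp only [Finset.sum_filter]
  push_cast
  rw [Finset.mul_sum, ← Finset.sum_sub_distrib, ← Finset.sum_sub_distrib]
  refine Finset.sum_congr rfl fun i _ => ?_
  by_cases h : q i = X - C s <;> simp only [h, if_true, if_false, and_true, and_false, mul_zero, sub_zero]
  split_ifs <;> omega

include h0 in
theorem code_dual (j : ℕ) : GUCount.dual (RingEquiv.refl F) (code q e j) = code q e j := by
  classical
  have hσσ : ∀ x : F, (RingEquiv.refl F) ((RingEquiv.refl F) x) = x := fun _ => rfl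
  obtain ⟨σ, hσ⟩ : ∃ σ, σ = RingEquiv.refl F := ⟨_, rfl⟩
  rw [← hσ] at hσσ ⊢
  have hcount : ∀ p : F[X], Irreducible p ∧ p.Monic → p.coeff 0 ≠ 0 →
      ((Finset.univ.filter fun i => q i = GUCount.dual σ p).filter fun i => e i = j + 1).card =
        ((Finset.univ.filter fun i => q i = p).filter fun i => e i = j + 1).card := by
    intro p hp hp0
    refine SLTwist.count_eq_of_sum_min _ _ e (fun k => ?_) j
    have h1 := kdim_eq S G hS hq Φ
      ⟨GUCount.dual_irreducible hσσ hp.1 hp.2 hp0, GUCount.dual_monic (σ := σ) hp0⟩ k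
    have h2 := kdim_eq S G hS hq Φ hp k
    rw [GUCount.natDegree_dual hp0, hσ, ← kdim_dual S hp0 k, h2] at h1
    rw [hσ]
    exact (Nat.eq_of_mul_eq_mul_right hp.1.natDegree_pos h1).symm
  obtain ⟨M, hMdef⟩ : ∃ M, M = ((Finset.univ.filter fun i => e i = j + 1).val).map q := ⟨_, rfl⟩
  have hcnt : ∀ a, M.count a =
      ((Finset.univ.filter fun i => q i = a).filter fun i => e i = j + 1).card := by
    intro a
    rw [hMdef, Multiset.count_map, ← Finset.filter_val, ← Finset.card_def, Finset.filter_filter,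
      Finset.filter_filter]
    exact congrArg Finset.card (Finset.filter_congr fun i _ => ⟨fun h => ⟨h.2.symm, h.1⟩,
      fun h => ⟨h.2, h.1.symm⟩⟩)
  have hmem : ∀ a ∈ M, Irreducible a ∧ a.Monic ∧ a.coeff 0 ≠ 0 := fun a ha => by
    rw [hMdef] at ha
    obtain ⟨i, hi, rfl⟩ := Multiset.mem_map.1 ha
    rw [Finset.mem_val, Finset.mem_filter] at hi
    exact ⟨(hq i).1, (hq i).2, by rw [coeff_zero_eq_eval_zero]; exact h0 i (by omega)⟩
  have hdual : ∀ a ∈ M, GUCount.dual σ a ∈ M := fun a ha => by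
    obtain ⟨h1, h2, h3⟩ := hmem a ha
    rw [← Multiset.count_pos, hcnt, hcount a ⟨h1, h2⟩ h3, ← hcnt, Multiset.count_pos]
    exact ha
  have hinj : Set.InjOn (GUCount.dual σ) {x | x ∈ M} := fun a ha b hb h => by
    obtain ⟨-, h2, h3⟩ := hmem a ha
    obtain ⟨-, h2', h3'⟩ := hmem b hb
    rw [← GUCount.dual_dual hσσ h2 h3, h, GUCount.dual_dual hσσ h2' h3']
  have hM : M.map (GUCount.dual σ) = M := by
    refine Multiset.ext.2 fun a => ?_
    by_cases ha : a ∈ M
    · obtain ⟨h1, h2, h3⟩ := hmem a ha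
      conv_lhs => rw [← GUCount.dual_dual hσσ h2 h3]
      rw [Multiset.count_map_eq_count (GUCount.dual σ) M hinj (GUCount.dual σ a) (hdual a ha), hcnt, hcnt,
        hcount a ⟨h1, h2⟩ h3]
    · rw [Multiset.count_eq_zero.2 ha, Multiset.count_eq_zero.2]
      intro h
      obtain ⟨b, hb, rfl⟩ := Multiset.mem_map.1 h
      exact ha (hdual b hb)
  have hprod : ∀ s : Multiset F[X], GUCount.dual σ s.prod = (s.map (GUCount.dual σ)).prod := by
    intro s
    induction s using Multiset.induction with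
    | empty => simp [GUCount.dual_one]
    | cons a s ih => rw [Multiset.prod_cons, GUCount.dual_mul, ih, Multiset.map_cons, Multiset.prod_cons]
  show GUCount.dual σ (((Finset.univ.filter fun i => e i = j + 1).val).map q).prod =
    (((Finset.univ.filter fun i => e i = j + 1).val).map q).prod
  rw [← hMdef, hprod, hM]

theorem eval_code_zero (s : F) (j : ℕ) (h : 0 < mult S s (j + 1)) : (code q e j).eval s = 0 := by
  classical
  rw [mult_eq S G hS hq Φ, Nat.cast_pos, Finset.card_pos] at h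
  obtain ⟨i, hi⟩ := h
  rw [Finset.mem_filter] at hi
  show (∏ i ∈ Finset.univ.filter (fun i => e i = j + 1), q i).eval s = 0
  rw [eval_prod]
  refine Finset.prod_eq_zero (i := i) (Finset.mem_filter.2 ⟨Finset.mem_univ _, hi.2.1⟩) ?_
  rw [hi.2.2, eval_sub, eval_X, eval_C, sub_self]

include h0 in
theorem code_even (h2 : (2 : F) ≠ 0) (hε : ε * ε = 1) (j : ℕ) (hj : (-1 : F) ^ j * ε = -1) :
    Even (code q e j).natDegree ∧ (code q e j).coeff 0 = 1 := by
  classical
  have hne : (1 : F) ≠ -1 := fun h => h2 (by linear_combination h)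
  have hev : ∀ s : F, s * s = 1 →
      Even ((Finset.univ.filter fun i => e i = j + 1 ∧ q i = X - C s).card) := fun s hs => by
    have h := even_mult h2 hε hs (i := j + 1) (Nat.succ_pos j) (by rw [Nat.add_sub_cancel, hj]) N S
    rw [mult_eq S G hS hq Φ] at h
    exact (Int.even_coe_nat _).1 h
  obtain ⟨a, ha⟩ := hev 1 (one_mul 1)
  obtain ⟨b, hb⟩ := hev (-1) (by ring)
  obtain ⟨T, hT⟩ : ∃ T, T = (Finset.univ.filter fun i => e i = j + 1) := ⟨_, rfl⟩
  obtain ⟨R, hR⟩ : ∃ R, R = ∏ i ∈ (T.filter fun i => ¬ q i = X - C 1).filter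
      (fun i => ¬ q i = X - C (-1)), q i := ⟨_, rfl⟩
  have hfac : code q e j = (X - C 1) ^ (a + a) * ((X - C (-1)) ^ (b + b) * R) := by
    show ∏ i ∈ Finset.univ.filter (fun i => e i = j + 1), q i = _
    rw [← hT, ← Finset.prod_filter_mul_prod_filter_not T (fun i => q i = X - C 1),
      ← Finset.prod_filter_mul_prod_filter_not (T.filter fun i => ¬ q i = X - C 1)
        (fun i => q i = X - C (-1)), ← hR, ← ha, ← hb]
    congr 1
    · rw [Finset.prod_eq_pow_card fun i hi => (Finset.mem_filter.1 hi).2, hT, Finset.filter_filter]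
    congr 1
    rw [Finset.prod_eq_pow_card fun i hi => (Finset.mem_filter.1 hi).2, hT, Finset.filter_filter,
      Finset.filter_filter]
    congr 2
    refine Finset.filter_congr fun i _ => ⟨fun h => ⟨h.1, h.2.2⟩, fun h => ⟨h.1, ?_, h.2⟩⟩
    rw [h.2]
    exact fun h' => hne (C_injective (sub_right_injective h')).symm
  have hRm : R.Monic := hR ▸ monic_prod_of_monic _ _ fun i _ => (hq i).2
  have hd1 : ∀ (s : F), s * s = 1 → ∀ k,
      GUCount.dual (RingEquiv.refl F) ((X - C s) ^ k) = (X - C s) ^ k := fun s hs k => (sq_dual hs k).2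
  have hRd : GUCount.dual (RingEquiv.refl F) R = R := by
    have h := code_dual S G hS hq h0 Φ j
    rw [hfac, GUCount.dual_mul, GUCount.dual_mul, hd1 1 (one_mul 1), hd1 (-1) (by ring)] at h
    exact mul_left_cancel₀ (pow_ne_zero _ (X_sub_C_ne_zero _))
      (mul_left_cancel₀ (pow_ne_zero _ (X_sub_C_ne_zero _)) h)
  have hroot : ∀ (s : F), R.eval s = 0 → ∃ i, e i = j + 1 ∧ q i ≠ X - C 1 ∧ q i ≠ X - C (-1) ∧
      q i = X - C s := by
    intro s hs
    rw [hR, eval_prod, Finset.prod_eq_zero_iff] at hs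
    obtain ⟨i, hi, hi0⟩ := hs
    rw [hT, Finset.mem_filter, Finset.mem_filter, Finset.mem_filter] at hi
    exact ⟨i, hi.1.1.2, hi.1.2, hi.2, (eq_of_monic_of_associated (monic_X_sub_C s) (hq i).2
      ((irreducible_X_sub_C s).associated_of_dvd (hq i).1 (dvd_iff_isRoot.2 hi0))).symm⟩
  have hR1 : R.eval 1 ≠ 0 := fun h => by
    obtain ⟨i, -, h4, -, h5⟩ := hroot 1 h
    exact h4 h5
  have hR2 : R.eval (-1) ≠ 0 := fun h => by
    obtain ⟨i, -, -, h4, h5⟩ := hroot (-1) h
    exact h4 h5
  obtain ⟨hRe, hR0⟩ := sd_even h2 hRd hR1 hR2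
  refine ⟨?_, ?_⟩
  · rw [hfac, ((monic_X_sub_C (1 : F)).pow _).natDegree_mul (((monic_X_sub_C (-1 : F)).pow _).mul hRm),
      ((monic_X_sub_C (-1 : F)).pow _).natDegree_mul hRm, natDegree_pow, natDegree_pow, natDegree_X_sub_C,
      natDegree_X_sub_C]
    exact (Even.add (by simp) (Even.add (by simp) hRe))
  · rw [hfac, mul_coeff_zero, mul_coeff_zero, hR0, coeff_zero_eq_eval_zero, coeff_zero_eq_eval_zero]
    simp [← two_mul, pow_mul]

end Code

theorem goodS_lst (G : ℕ → F[X]) : ∀ m, (∀ j < m, GUCount.dual (RingEquiv.refl F) (G j) = G j ∧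
    (¬ Even (j + 1) → Even (G j).natDegree ∧ (G j).coeff 0 = 1)) → GoodS (GLCount.lst G m)
  | 0, _ => trivial
  | m + 1, h => by
    have hlen : ∀ k, (GLCount.lst G k).length = k := fun k => by induction k <;> simp [GLCount.lst, *]
    refine ⟨(h m (by omega)).1, ?_, goodS_lst G m fun j hj => h j (by omega)⟩
    rw [hlen]
    exact (h m (by omega)).2

theorem wexp_lst (G : ℕ → F[X]) : ∀ m, wexp (GLCount.lst G m) =
    ∑ j ∈ Finset.range m, if Even (j + 1) then sroots (G j) else 0
  | 0 => rfl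
  | m + 1 => by
    have hlen : ∀ k, (GLCount.lst G k).length = k := fun k => by induction k <;> simp [GLCount.lst, *]
    rw [GLCount.lst, wexp, hlen, wexp_lst G m, Finset.sum_range_succ, add_comm]

/-- The code of a system is admissible and bounds the sign choices. -/
theorem code_facts (h2 : (2 : F) ≠ 0) (S : Sys F (-1) N) (G : Matrix.GeneralLinearGroup (Fin N) F)
    (hS : S.g.toLinearMap = GLCount.lin G.1) :
    codeOf G ∈ seqsS N N ∧ (signed N S).card ≤ wexp (codeOf G) := by
  classical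
  obtain ⟨ι, hι, q, e, hq, h0, -, -, ⟨Φ⟩, hc⟩ := codeOf_spec G
  refine ⟨Finset.mem_filter.2 ⟨codeOf_mem G, ?_⟩, ?_⟩
  · rw [hc]
    exact goodS_lst _ _ fun j _ =>
      ⟨code_dual S G hS hq h0 Φ j, fun hj => code_even S G hS hq h0 Φ h2 (by ring) j (by
        rcases Nat.even_or_odd j with h | h
        · rw [h.neg_one_pow, one_mul]
        · exact absurd h.add_one hj)⟩
  rw [hc, wexp_lst]
  have hne : (-1 : F) ≠ 1 := fun h => h2 (by linear_combination -h)
  refine le_trans (Finset.card_le_card (t := (Finset.range N).biUnion fun j =>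
    if Even (j + 1) then (({1, -1} : Finset F).filter fun s => (code q e j).eval s = 0).image
      (fun s => (s, j + 1)) else ∅) ?_)
    (Finset.card_biUnion_le.trans (Finset.sum_le_sum fun j _ => ?_))
  · rintro ⟨s, i⟩ hi
    simp only [signed, Finset.mem_filter, Finset.mem_product, Finset.mem_Icc] at hi
    obtain ⟨⟨hs, hi1, hi2⟩, hpar, hm⟩ := hi
    obtain ⟨j, rfl⟩ : ∃ j, i = j + 1 := ⟨i - 1, by omega⟩
    have hev : Even (j + 1) := by
      rcases Nat.even_or_odd j with h | h
      · rw [Nat.add_sub_cancel, h.neg_one_pow, one_mul] at hpar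
        exact absurd hpar hne
      · exact h.add_one
    refine Finset.mem_biUnion.2 ⟨j, Finset.mem_range.2 (by omega), ?_⟩
    rw [if_pos hev, Finset.mem_image]
    exact ⟨s, Finset.mem_filter.2 ⟨by simpa using hs, eval_code_zero S G hS hq Φ s j hm⟩, rfl⟩
  · split_ifs
    · exact Finset.card_image_le.trans (le_of_eq (by unfold sroots; congr!))
    · simp

/-! ### The symplectic group -/

variable (F) in
/-- The index change. -/
noncomputable def idx (n : ℕ) : (Fin (n + n) → F) ≃ₗ[F] (Fin n ⊕ Fin n → F) :=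
  LinearEquiv.funCongrLeft F F finSumFinEquiv

/-- A symplectic matrix as a point of the general linear group. -/
noncomputable def glOf {n : ℕ} :
    Matrix.symplecticGroup (Fin n) F →* Matrix.GeneralLinearGroup (Fin (n + n)) F :=
  MonoidHom.toHomUnits
    { toFun := fun g => Matrix.reindexAlgEquiv F F finSumFinEquiv g.1
      map_one' := map_one _
      map_mul' := fun _ _ => map_mul _ _ _ }

theorem idx_lin {n : ℕ} (g : Matrix.symplecticGroup (Fin n) F) (x : Fin (n + n) → F) :
    idx F n (GLCount.lin (glOf g).1 x) = g.1 *ᵥ idx F n x := by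
  funext i
  show ((Matrix.reindexAlgEquiv F F finSumFinEquiv g.1) *ᵥ x) (finSumFinEquiv i) = _
  rw [Matrix.coe_reindexAlgEquiv, Matrix.reindex_apply, Matrix.submatrix_mulVec_equiv]
  simp only [Function.comp_apply, Equiv.symm_symm, Equiv.symm_apply_apply]
  rfl

/-- The system of a symplectic matrix. -/
noncomputable def sysOf {n : ℕ} (g : Matrix.symplecticGroup (Fin n) F) : Sys F (-1) (n + n) where
  B := (ClassicalSp.spBilin n F).comp (idx F n).toLinearMap (idx F n).toLinearMap
  g := LinearEquiv.ofLinearMap (GLCount.lin (glOf g).1) (GLCount.lin ((glOf g)⁻¹).1)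
    (by
      show GLCount.lin (glOf g).1 * GLCount.lin ((glOf g)⁻¹).1 = 1
      rw [GLCount.lin, GLCount.lin, ← map_mul, ← Units.val_mul, mul_inv_cancel, Units.val_one, map_one])
    (by
      show GLCount.lin ((glOf g)⁻¹).1 * GLCount.lin (glOf g).1 = 1
      rw [GLCount.lin, GLCount.lin, ← map_mul, ← Units.val_mul, inv_mul_cancel, Units.val_one, map_one])
  hg x y := by
    show ClassicalSp.spBilin n F (idx F n (GLCount.lin (glOf g).1 x))
      (idx F n (GLCount.lin (glOf g).1 y)) = ClassicalSp.spBilin n F (idx F n x) (idx F n y)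
    rw [idx_lin, idx_lin, ClassicalSp.spBilin_apply, ClassicalSp.spBilin_apply,
      (ClassicalSp.mem_iff_preserves _).1 g.2]
  hsym x y := by
    show ClassicalSp.spBilin n F (idx F n y) (idx F n x) =
      -1 * ClassicalSp.spBilin n F (idx F n x) (idx F n y)
    rw [neg_one_mul]
    exact ((ClassicalSp.spBilin_isAlt (m := n) (F := F)).neg_eq (idx F n x) (idx F n y)).symm
  hnd x hx := by
    apply (idx F n).injective
    rw [map_zero]
    refine ClassicalSp.spBilin_nondeg.1 _ fun v => ?_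
    obtain ⟨y, rfl⟩ := (idx F n).surjective v
    exact hx y

theorem sysOf_g {n : ℕ} (g : Matrix.symplecticGroup (Fin n) F) :
    (sysOf g).g.toLinearMap = GLCount.lin (glOf g).1 := rfl

theorem sim_of_code {n : ℕ} {g h : Matrix.symplecticGroup (Fin n) F}
    (hc : codeOf (glOf g) = codeOf (glOf h)) : Sys.Sim (sysOf g) (sysOf h) := by
  obtain ⟨c, hcc⟩ := isConj_iff.1 (isConj_of_codeOf hc)
  rw [mul_inv_eq_iff_eq_mul] at hcc
  refine Sys.sim_of_equiv (LinearEquiv.ofLinearMap (GLCount.lin c.1) (GLCount.lin (c⁻¹).1)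
    (by
      show GLCount.lin c.1 * GLCount.lin (c⁻¹).1 = 1
      rw [GLCount.lin, GLCount.lin, ← map_mul, ← Units.val_mul, mul_inv_cancel, Units.val_one, map_one])
    (by
      show GLCount.lin (c⁻¹).1 * GLCount.lin c.1 = 1
      rw [GLCount.lin, GLCount.lin, ← map_mul, ← Units.val_mul, inv_mul_cancel, Units.val_one, map_one]))
    fun x => ?_
  show GLCount.lin c.1 (GLCount.lin (glOf g).1 x) = GLCount.lin (glOf h).1 (GLCount.lin c.1 x)
  rw [GLCount.lin, GLCount.lin, GLCount.lin, ← Module.End.mul_apply, ← Module.End.mul_apply, ← map_mul,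
    ← map_mul, ← Units.val_mul, hcc, Units.val_mul]

theorem isConj_of_iso {n : ℕ} {g h : Matrix.symplecticGroup (Fin n) F}
    (hiso : Sys.Iso (sysOf g) (sysOf h)) : IsConj g h := by
  obtain ⟨φ, hφB, hφg⟩ := hiso
  obtain ⟨T, hT⟩ : ∃ T : Matrix (Fin n ⊕ Fin n) (Fin n ⊕ Fin n) F,
      T = LinearMap.toMatrix' ((idx F n).toLinearMap ∘ₗ φ.toLinearMap ∘ₗ (idx F n).symm.toLinearMap) :=
    ⟨_, rfl⟩
  have hTx : ∀ x, T *ᵥ (idx F n x) = idx F n (φ x) := fun x => by
    rw [hT, ← Matrix.toLin'_apply, Matrix.toLin'_toMatrix', LinearMap.comp_apply, LinearMap.comp_apply,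
      LinearEquiv.coe_coe, LinearEquiv.coe_coe, LinearEquiv.coe_coe, LinearEquiv.symm_apply_apply]
  have hmem : T ∈ Matrix.symplecticGroup (Fin n) F := (ClassicalSp.mem_iff_preserves T).2 fun u v => by
    obtain ⟨x, rfl⟩ := (idx F n).surjective u
    obtain ⟨y, rfl⟩ := (idx F n).surjective v
    rw [hTx, hTx, ← ClassicalSp.spBilin_apply, ← ClassicalSp.spBilin_apply]
    exact hφB x y
  have hcomm : T * g.1 = h.1 * T := by
    refine Matrix.toLin'.injective (LinearMap.ext fun v => ?_)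
    obtain ⟨x, rfl⟩ := (idx F n).surjective v
    rw [Matrix.toLin'_apply, Matrix.toLin'_apply, ← Matrix.mulVec_mulVec, ← Matrix.mulVec_mulVec,
      ← idx_lin, hTx, hTx, ← idx_lin]
    exact congrArg (idx F n) (hφg x)
  refine isConj_iff.2 ⟨⟨T, hmem⟩, ?_⟩
  rw [mul_inv_eq_iff_eq_mul]
  exact Subtype.ext hcomm

theorem card_classes_le_cntS (h2 : (2 : F) ≠ 0) (n : ℕ) :
    Nat.card (ConjClasses (Matrix.symplecticGroup (Fin n) F)) ≤ cntS (Fintype.card F) (n + n) n := by
  classical
  haveI := Fintype.ofFinite (ConjClasses (Matrix.symplecticGroup (Fin n) F))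
  let rep : ConjClasses (Matrix.symplecticGroup (Fin n) F) → Matrix.symplecticGroup (Fin n) F :=
    fun C => C.out
  have hrep : ∀ C, ConjClasses.mk (rep C) = C := fun C => Quotient.out_eq C
  let ψ : ConjClasses (Matrix.symplecticGroup (Fin n) F) → List F[X] := fun C => codeOf (glOf (rep C))
  have hψ : ∀ C, ψ C ∈ seqsS (F := F) (n + n) (2 * n) := fun C => by
    rw [two_mul]
    exact (code_facts h2 (sysOf (rep C)) (glOf (rep C)) (sysOf_g _)).1
  rw [Nat.card_eq_fintype_card, ← Finset.card_univ,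
    Finset.card_eq_sum_card_fiberwise (f := ψ) (t := seqsS (F := F) (n + n) (2 * n)) fun C _ => hψ C]
  refine le_trans (Finset.sum_le_sum fun l _ => ?_) (weightS_le h2 (n + n) n)
  by_contra hlt
  rw [not_le] at hlt
  obtain ⟨C₀, hC₀⟩ := Finset.card_pos.1 ((Nat.zero_le _).trans_lt hlt)
  rw [Finset.mem_filter] at hC₀
  have hw := (code_facts h2 (sysOf (rep C₀)) (glOf (rep C₀)) (sysOf_g _)).2
  rw [show codeOf (glOf (rep C₀)) = l from hC₀.2] at hw
  obtain ⟨a, b, hab, hiso⟩ := pigeon h2 (show (-1 : F) * -1 = 1 by ring) (n + n) (n + n) le_rfl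
    {C : ConjClasses (Matrix.symplecticGroup (Fin n) F) // C ∈ Finset.univ.filter fun C => ψ C = l}
    (fun C => sysOf (rep C.1)) ⟨C₀, Finset.mem_filter.2 hC₀⟩
    (fun C => sim_of_code ((Finset.mem_filter.1 C.2).2.trans hC₀.2.symm))
    (by
      rw [Fintype.card_coe]
      exact lt_of_le_of_lt (Nat.pow_le_pow_right two_pos hw) hlt)
  refine hab (Subtype.ext ?_)
  rw [← hrep a.1, ← hrep b.1, ConjClasses.mk_eq_mk_iff_isConj]
  exact isConj_of_iso hiso

theorem class_bounds (hodd : Odd (Fintype.card F)) (n : ℕ) :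
    Fintype.card F ^ n ≤ Nat.card (ConjClasses (Matrix.symplecticGroup (Fin n) F)) ∧
      5 * Nat.card (ConjClasses (Matrix.symplecticGroup (Fin n) F)) ≤ 54 * Fintype.card F ^ n := by
  have hq : 3 ≤ Fintype.card F := by
    have h1 := Fintype.one_lt_card (α := F)
    obtain ⟨k, hk⟩ := hodd
    omega
  have h2 : (2 : F) ≠ 0 := fun h => by
    have hc := (FiniteField.even_card_iff_char_two (F := F)).1
      (CharP.ringChar_of_prime_eq_zero Nat.prime_two (by exact_mod_cast h))
    rw [Nat.odd_iff] at hodd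
    omega
  refine ⟨?_, (Nat.mul_le_mul_left 5 (card_classes_le_cntS h2 n)).trans (cntS_bound hq _ n)⟩
  obtain ⟨p, hp⟩ := CharP.exists F
  haveI : Fact p.Prime := ⟨CharP.char_is_prime F p⟩
  rw [← SympClasses.card_classes (F := F) rfl p n]
  exact Nat.card_le_card_of_injective _ Subtype.val_injective

end Cfsg.Agent.FormCount
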