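import Cfsg.Agent.Lib.Classical.GUCount.Dual
import Cfsg.Agent.Lib.Spectra.SympOrders

/-!
Spaces with a non-degenerate (skew-)symmetric form and an isometry: adjoints of polynomials and
orthogonal splitting.
-/

set_option autoImplicit false
set_option linter.style.haveILetI false

namespace Cfsg.Agent.FormCount

open Polynomial Module
open LinearMap (BilinForm)

universe u

variable {F : Type u} [Field F]

/-- The sum of two forms. -/
noncomputable def pairForm {A B : Type u} [AddCommGroup A] [Module F A] [AddCommGroup B] [Module F B]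
    (β : BilinForm F A) (γ : BilinForm F B) : BilinForm F (A × B) :=
  LinearMap.mk₂ F (fun x y => β x.1 y.1 + γ x.2 y.2)
    (fun a b c => by simp; ring) (fun c a b => by simp; ring)
    (fun a b c => by simp; ring) (fun c a b => by simp; ring)

/-- A non-degenerate `ε`-symmetric form on `F ^ d` with an isometry. -/
structure Sys (F : Type u) [Field F] (ε : F) (d : ℕ) where
  B : BilinForm F (Fin d → F)
  g : (Fin d → F) ≃ₗ[F] (Fin d → F)
  hg : ∀ x y, B (g x) (g y) = B x y
  hsym : ∀ x y, B y x = ε * B x y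
  hnd : ∀ x, (∀ y, B x y = 0) → x = 0

namespace Sys

variable {ε : F} {d : ℕ}

/-- A polynomial in the isometry. -/
noncomputable def pol (S : Sys F ε d) (a : F[X]) : Module.End F (Fin d → F) :=
  aeval S.g.toLinearMap a

theorem pol_mul (S : Sys F ε d) (a b : F[X]) (x : Fin d → F) :
    S.pol (a * b) x = S.pol a (S.pol b x) := by
  rw [pol, pol, pol, map_mul, Module.End.mul_apply]

theorem pol_add (S : Sys F ε d) (a b : F[X]) (x : Fin d → F) :
    S.pol (a + b) x = S.pol a x + S.pol b x := by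
  rw [pol, pol, pol, map_add, LinearMap.add_apply]

theorem pol_one (S : Sys F ε d) (x : Fin d → F) : S.pol 1 x = x := by
  rw [pol, map_one, Module.End.one_apply]

theorem pol_X (S : Sys F ε d) (x : Fin d → F) : S.pol X x = S.g x := by
  rw [pol, aeval_X]
  rfl

theorem pol_comm (S : Sys F ε d) (a b : F[X]) (x : Fin d → F) :
    S.pol a (S.pol b x) = S.pol b (S.pol a x) := by
  rw [← pol_mul, ← pol_mul, mul_comm]

/-- The dimension of the kernel of a polynomial. -/
noncomputable def kdim (S : Sys F ε d) (P : F[X]) : ℕ := finrank F (LinearMap.ker (S.pol P))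

/-- The same similarity class. -/
def Sim (S S' : Sys F ε d) : Prop := ∀ P, S.kdim P = S'.kdim P

/-- Isometric systems. -/
def Iso (S S' : Sys F ε d) : Prop :=
  ∃ φ : (Fin d → F) ≃ₗ[F] (Fin d → F), (∀ x y, S'.B (φ x) (φ y) = S.B x y) ∧
    ∀ x, φ (S.g x) = S'.g (φ x)

theorem B_g_left (S : Sys F ε d) (x y : Fin d → F) : S.B (S.g x) y = S.B x (S.g.symm y) := by
  conv_lhs => rw [← S.g.apply_symm_apply y]
  exact S.hg _ _

theorem B_pol_left (S : Sys F ε d) (a : F[X]) (x y : Fin d → F) :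
    S.B (S.pol a x) y = S.B x (aeval S.g.symm.toLinearMap a y) := by
  induction a using Polynomial.induction_on' generalizing x y with
  | add a b ha hb =>
    rw [pol_add, map_add, LinearMap.add_apply, map_add (aeval _), LinearMap.add_apply, map_add, ha, hb]
  | monomial i c =>
    rw [pol, aeval_monomial, aeval_monomial, ← Algebra.smul_def, ← Algebra.smul_def,
      LinearMap.smul_apply, LinearMap.smul_apply, map_smul, LinearMap.smul_apply, map_smul]
    congr 1
    induction i generalizing x y with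
    | zero => rfl
    | succ i ih =>
      rw [pow_succ', pow_succ, Module.End.mul_apply, Module.End.mul_apply]
      exact (S.B_g_left _ _).trans (ih _ _)

variable [Finite F]

theorem exists_inv_poly (S : Sys F ε d) : ∃ h : F[X],
    S.pol h = S.g.symm.toLinearMap := by
  haveI : Finite ((Fin d → F) ≃ₗ[F] (Fin d → F)) :=
    Finite.of_injective (fun e => (e : (Fin d → F) → (Fin d → F))) DFunLike.coe_injective
  refine ⟨X ^ (orderOf S.g - 1), ?_⟩
  rw [pol, map_pow, aeval_X]
  have h1 : ∀ k : ℕ, (S.g.toLinearMap ^ k : Module.End F (Fin d → F)) = (S.g ^ k).toLinearMap := by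
    intro k
    induction k with
    | zero => rfl
    | succ k ih => rw [pow_succ, pow_succ, ih]; rfl
  rw [h1]
  congr 1
  have h2 : S.g ^ (orderOf S.g - 1) * S.g = 1 := by
    rw [← pow_succ, Nat.sub_add_cancel (orderOf_pos S.g), pow_orderOf_eq_one]
  exact eq_inv_of_mul_eq_one_left h2

theorem adj_mem (S : Sys F ε d) (a : F[X]) :
    ∃ b : F[X], ∀ x y, S.B (S.pol a x) y = S.B x (S.pol b y) := by
  obtain ⟨h, hh⟩ := S.exists_inv_poly
  refine ⟨a.comp h, fun x y => ?_⟩
  rw [S.B_pol_left, pol, aeval_comp]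
  exact congrArg (fun T : Module.End F (Fin d → F) => S.B x ((aeval T a : Module.End F (Fin d → F)) y))
    hh.symm

omit [Finite F] in
theorem right_adj (S : Sys F ε d) (hε : ε * ε = 1) {a b : F[X]}
    (h : ∀ x y, S.B (S.pol a x) y = S.B x (S.pol b y)) (x y : Fin d → F) :
    S.B (S.pol b x) y = S.B x (S.pol a y) := by
  rw [S.hsym y, ← h, S.hsym x, ← mul_assoc, hε, one_mul]

omit [Finite F] in
theorem adj_pow (S : Sys F ε d) {a b : F[X]}
    (h : ∀ x y, S.B (S.pol a x) y = S.B x (S.pol b y)) :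
    ∀ (k : ℕ) x y, S.B (S.pol (a ^ k) x) y = S.B x (S.pol (b ^ k) y)
  | 0, x, y => by simp [pol_one]
  | k + 1, x, y => by
    rw [pow_succ, pow_succ', S.pol_mul, S.adj_pow h k, h, S.pol_mul]

theorem adj_dual (S : Sys F ε d) {p : F[X]} (h0 : p.coeff 0 ≠ 0) :
    ∃ u v : F[X], (∀ x, S.pol (v * u) x = x) ∧
      ∀ x y, S.B (S.pol p x) y = S.B x (S.pol (u * GUCount.dual (RingEquiv.refl F) p) y) := by
  obtain ⟨h, hh⟩ := S.exists_inv_poly
  refine ⟨C (p.coeff 0) * h ^ p.natDegree, C (p.coeff 0)⁻¹ * X ^ p.natDegree, fun x => ?_,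
    fun x y => ?_⟩
  · rw [mul_mul_mul_comm, ← C_mul, inv_mul_cancel₀ h0, C_1, one_mul, ← mul_pow, pol, map_pow, map_mul,
      aeval_X, ← pol, hh]
    have h1 : S.g.toLinearMap * S.g.symm.toLinearMap = 1 :=
      LinearMap.ext fun v => S.g.apply_symm_apply v
    rw [h1, one_pow, Module.End.one_apply]
  · rw [S.B_pol_left]
    have hgh : S.g.toLinearMap * S.g.symm.toLinearMap = 1 :=
      LinearMap.ext fun v => S.g.apply_symm_apply v
    have hhg : S.g.symm.toLinearMap * S.g.toLinearMap = 1 :=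
      LinearMap.ext fun v => S.g.symm_apply_apply v
    have hd : (GUCount.dual (RingEquiv.refl F) p) = C (p.coeff 0)⁻¹ * p.reflect p.natDegree := by
      simp [GUCount.dual, reverse]
    refine congrArg (S.B x) (LinearMap.congr_fun ?_ y)
    rw [hd, show C (p.coeff 0) * h ^ p.natDegree * (C (p.coeff 0)⁻¹ * p.reflect p.natDegree) =
      C (p.coeff 0 * (p.coeff 0)⁻¹) * (h ^ p.natDegree * p.reflect p.natDegree) by rw [C_mul]; ring,
      mul_inv_cancel₀ h0, C_1, one_mul, pol, map_mul, map_pow,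
      SympSpectra.aeval_reflect hgh hhg _ p le_rfl, ← pol, hh, ← mul_assoc,
      ← (show Commute S.g.symm.toLinearMap S.g.toLinearMap from hhg.trans hgh.symm).mul_pow, hhg,
      one_pow, one_mul]

omit [Finite F] in
theorem ker_pair (S : Sys F ε d) {a b : F[X]}
    (h : ∀ x y, S.B (S.pol a x) y = S.B x (S.pol b y))
    {z : Fin d → F} (hz : ∀ u, S.pol b u ≠ z) : ∃ y, S.pol a y = 0 ∧ S.B y z ≠ 0 := by
  obtain ⟨φ, hφz, hφ⟩ := Submodule.exists_dual_map_eq_bot_of_notMem
    (p := LinearMap.range (S.pol b)) (x := z) (by rintro ⟨u, hu⟩; exact hz u hu) inferInstance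
  have hinj : Function.Injective S.B := by
    rw [← LinearMap.ker_eq_bot, LinearMap.ker_eq_bot']
    exact fun x hx => S.hnd x fun y => LinearMap.congr_fun hx y
  obtain ⟨y, hy⟩ := (LinearMap.injective_iff_surjective_of_finrank_eq_finrank
    Subspace.dual_finrank_eq.symm).1 hinj φ
  refine ⟨y, S.hnd _ fun w => ?_, by rw [hy]; exact hφz⟩
  rw [h, hy]
  have : φ (S.pol b w) ∈ (LinearMap.range (S.pol b)).map φ := ⟨_, ⟨w, rfl⟩, rfl⟩
  rwa [hφ, Submodule.mem_bot] at this

omit [Finite F] in
theorem sim_of_equiv {S S' : Sys F ε d} (φ : (Fin d → F) ≃ₗ[F] (Fin d → F))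
    (hφ : ∀ x, φ (S.g x) = S'.g (φ x)) : Sim S S' := by
  intro P
  refine (φ.ofSubmodules _ _ ?_).finrank_eq
  have hP : ∀ x, φ (S.pol P x) = S'.pol P (φ x) := by
    intro x
    induction P using Polynomial.induction_on' generalizing x with
    | add a b ha hb => rw [pol_add, pol_add, map_add, ha, hb]
    | monomial i c =>
      rw [pol, pol, aeval_monomial, aeval_monomial, ← Algebra.smul_def, ← Algebra.smul_def,
        LinearMap.smul_apply, LinearMap.smul_apply, map_smul]
      congr 1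
      induction i generalizing x with
      | zero => rfl
      | succ i ih =>
        rw [pow_succ, pow_succ, Module.End.mul_apply, Module.End.mul_apply]
        exact (ih _).trans (congrArg _ (hφ x))
  ext y
  rw [Submodule.mem_map, LinearMap.mem_ker]
  refine ⟨?_, fun hy => ⟨φ.symm y, ?_, φ.apply_symm_apply y⟩⟩
  · rintro ⟨x, hx, rfl⟩
    rw [LinearEquiv.coe_coe, ← hP, LinearMap.mem_ker.1 hx, map_zero]
  · rw [LinearMap.mem_ker]
    apply φ.injective
    rw [hP, φ.apply_symm_apply, hy, map_zero]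

omit [Finite F] in
theorem iso_kdim {S S' : Sys F ε d} (h : Iso S S') : Sim S S' := by
  obtain ⟨φ, -, hφ⟩ := h
  exact sim_of_equiv φ hφ

omit [Finite F] in
/-- Splitting off a non-degenerate invariant subspace. -/
theorem exists_rest (S : Sys F ε d) {A : Type u} [AddCommGroup A] [Module F A]
    [Module.Finite F A] (β : BilinForm F A) (γ : Module.End F A)
    (L : A →ₗ[F] (Fin d → F)) (hL : ∀ a b, S.B (L a) (L b) = β a b)
    (hLg : ∀ a, S.g (L a) = L (γ a)) (hβ : ∀ a, (∀ b, β a b = 0) → a = 0) :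
    ∃ d', d' + finrank F A = d ∧ ∃ R : Sys F ε d',
      (∀ P, S.kdim P = finrank F (LinearMap.ker (aeval γ P)) + R.kdim P) ∧
      ∃ ψ : (A × (Fin d' → F)) ≃ₗ[F] (Fin d → F),
        (∀ x y, S.B (ψ x) (ψ y) = pairForm β R.B x y) ∧
        ∀ x, S.g (ψ x) = ψ (γ x.1, R.g x.2) := by
  have hinj : Function.Injective L := by
    rw [injective_iff_map_eq_zero]
    intro a ha
    refine hβ a fun b => ?_
    rw [← hL, ha, map_zero, LinearMap.zero_apply]
  have hrefl : S.B.IsRefl := fun x y h => by rw [S.hsym, h, mul_zero]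
  obtain ⟨W, hW⟩ : ∃ W, W = LinearMap.range L := ⟨_, rfl⟩
  have hWnd : (S.B.restrict W).Nondegenerate := by
    have key : ∀ x : W, (∀ y : W, S.B x y = 0) → x = 0 := by
      rintro ⟨x, hx⟩ hxy
      rw [hW] at hx
      obtain ⟨a, rfl⟩ := hx
      refine Subtype.ext ?_
      have ha : a = 0 := hβ a fun b => by
        rw [← hL]
        exact hxy ⟨L b, hW ▸ ⟨b, rfl⟩⟩
      show L a = 0
      rw [ha, map_zero]
    exact ⟨key, fun x hx => key x fun y => hrefl _ _ (hx y)⟩
  have hcompl := LinearMap.BilinForm.isCompl_orthogonal_of_restrict_nondegenerate hrefl hWnd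
  obtain ⟨U, hU⟩ : ∃ U, U = S.B.orthogonal W := ⟨_, rfl⟩
  rw [← hU] at hcompl
  let eA : A ≃ₗ[F] W := (LinearEquiv.ofInjective L hinj).trans (LinearEquiv.ofEq _ _ hW.symm)
  have heA : ∀ a, (eA a : Fin d → F) = L a := fun _ => rfl
  have hdim : finrank F U + finrank F A = d := by
    rw [eA.finrank_eq, add_comm, Submodule.finrank_add_eq_of_isCompl hcompl, Module.finrank_fin_fun]
  have hgW : ∀ x ∈ W, S.g x ∈ W := by
    rw [hW]
    rintro _ ⟨a, rfl⟩
    exact ⟨γ a, (hLg a).symm⟩
  have hgW' : W.map S.g.toLinearMap = W := by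
    refine Submodule.eq_of_le_of_finrank_eq (Submodule.map_le_iff_le_comap.2 fun x hx => hgW x hx) ?_
    exact (LinearEquiv.finrank_map_eq S.g W)
  have hgU : ∀ x ∈ U, S.g x ∈ U := by
    intro x hx
    rw [hU, LinearMap.BilinForm.mem_orthogonal_iff] at hx ⊢
    intro w hw
    rw [← hgW'] at hw
    obtain ⟨w', hw', rfl⟩ := hw
    show S.B (S.g w') (S.g x) = 0
    rw [S.hg]
    exact hx w' hw'
  let gU : U →ₗ[F] U := S.g.toLinearMap.restrict hgU
  have hgUi : Function.Injective gU := fun a b h => Subtype.ext (S.g.injective (congrArg Subtype.val h))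
  let gUe : U ≃ₗ[F] U := LinearEquiv.ofBijective gU ⟨hgUi, LinearMap.injective_iff_surjective.1 hgUi⟩
  let b : Basis (Fin (finrank F U)) F U := Module.finBasis F U
  let e : (Fin (finrank F U) → F) ≃ₗ[F] U := b.equivFun.symm
  let ψ : (A × (Fin (finrank F U) → F)) ≃ₗ[F] (Fin d → F) :=
    (eA.prodCongr e).trans (Submodule.prodEquivOfIsCompl W U hcompl)
  have hψ : ∀ x, ψ x = L x.1 + (e x.2 : Fin d → F) := fun x => by
    simp [ψ, heA]
  have hortho : ∀ (a : A) (u : U), S.B (L a) u = 0 := fun a u => by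
    have h := u.2
    simp only [hU, LinearMap.BilinForm.mem_orthogonal_iff] at h
    exact h _ (hW ▸ ⟨a, rfl⟩)
  let R : Sys F ε (finrank F U) :=
    { B := S.B.comp (U.subtype ∘ₗ e.toLinearMap) (U.subtype ∘ₗ e.toLinearMap)
      g := (e.trans gUe).trans e.symm
      hg := fun x y => by
        show S.B (e (e.symm (gUe (e x))) : Fin d → F) (e (e.symm (gUe (e y))) : Fin d → F) = _
        rw [e.apply_symm_apply, e.apply_symm_apply]
        exact S.hg _ _
      hsym := fun x y => S.hsym _ _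
      hnd := fun x hx => by
        apply e.injective
        rw [map_zero]
        refine Subtype.ext (S.hnd _ fun v => ?_)
        obtain ⟨⟨a, y⟩, rfl⟩ := ψ.surjective v
        rw [hψ, map_add, S.hsym (L a), hortho, mul_zero, zero_add]
        exact hx y }
  have hRg : ∀ x, (e (R.g x) : Fin d → F) = S.g (e x) := fun x => by
    show (e (e.symm (gUe (e x))) : Fin d → F) = _
    rw [e.apply_symm_apply]
    rfl
  have hψB : ∀ x y, S.B (ψ x) (ψ y) = pairForm β R.B x y := by
    intro x y
    rw [hψ, hψ]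
    simp only [map_add, LinearMap.add_apply, hL, hortho]
    rw [S.hsym (L y.1) (e x.2), hortho, mul_zero]
    simp only [zero_add, add_zero]
    rfl
  have hψg : ∀ x, S.g (ψ x) = ψ (γ x.1, R.g x.2) := fun x => by
    rw [hψ, hψ, map_add, hLg, hRg]
  refine ⟨_, hdim, R, fun P => ?_, ψ, hψB, hψg⟩
  have hP : ∀ x, S.pol P (ψ x) = ψ (aeval γ P x.1, R.pol P x.2) := by
    induction P using Polynomial.induction_on' with
    | add a b ha hb => intro x; rw [pol_add, pol_add, map_add, LinearMap.add_apply, ha, hb, ← map_add]; rfl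
    | monomial i c =>
      intro x
      rw [pol, pol, aeval_monomial, aeval_monomial, aeval_monomial, ← Algebra.smul_def,
        ← Algebra.smul_def, ← Algebra.smul_def, LinearMap.smul_apply, LinearMap.smul_apply,
        LinearMap.smul_apply, ← Prod.smul_mk, map_smul]
      congr 1
      induction i generalizing x with
      | zero => rfl
      | succ i ih =>
        rw [pow_succ, pow_succ, pow_succ, Module.End.mul_apply, Module.End.mul_apply,
          Module.End.mul_apply]
        exact (congrArg _ (hψg x)).trans (ih (γ x.1, R.g x.2))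
  have hker : (LinearMap.ker (S.pol P)) =
      (((LinearMap.ker (aeval γ P)).prod (LinearMap.ker (R.pol P))).map ψ.toLinearMap) := by
    ext v
    obtain ⟨x, rfl⟩ := ψ.surjective v
    rw [LinearMap.mem_ker, hP, LinearEquiv.map_eq_zero_iff, Prod.mk_eq_zero,
      Submodule.mem_map_equiv, LinearEquiv.symm_apply_apply, Submodule.mem_prod, LinearMap.mem_ker,
      LinearMap.mem_ker]
  rw [kdim, hker, LinearEquiv.finrank_map_eq, kdim]
  let E : ↥((LinearMap.ker (aeval γ P)).prod (LinearMap.ker (R.pol P))) ≃ₗ[F]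
      ↥(LinearMap.ker (aeval γ P)) × ↥(LinearMap.ker (R.pol P)) :=
    { toFun := fun z => (⟨z.1.1, z.2.1⟩, ⟨z.1.2, z.2.2⟩)
      map_add' := fun _ _ => rfl
      map_smul' := fun _ _ => rfl
      invFun := fun z => ⟨(z.1.1, z.2.1), ⟨z.1.2, z.2.2⟩⟩
      left_inv := fun _ => rfl
      right_inv := fun _ => rfl }
  exact E.finrank_eq.trans Module.finrank_prod

omit [Finite F] in
/-- Systems with the same model and isometric rests are isometric. -/
theorem iso_of_rest {d' : ℕ} {A : Type u} [AddCommGroup A] [Module F A]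
    {β : BilinForm F A} {γ : Module.End F A} {S S' : Sys F ε d} {R R' : Sys F ε d'}
    (ψ : (A × (Fin d' → F)) ≃ₗ[F] (Fin d → F))
    (ψ' : (A × (Fin d' → F)) ≃ₗ[F] (Fin d → F))
    (hψ : ∀ x y, S.B (ψ x) (ψ y) = pairForm β R.B x y)
    (hψg : ∀ x, S.g (ψ x) = ψ (γ x.1, R.g x.2))
    (hψ' : ∀ x y, S'.B (ψ' x) (ψ' y) = pairForm β R'.B x y)
    (hψg' : ∀ x, S'.g (ψ' x) = ψ' (γ x.1, R'.g x.2)) (h : Iso R R') : Iso S S' := by
  obtain ⟨φ, hφ, hφg⟩ := h
  let Φ : (A × (Fin d' → F)) ≃ₗ[F] (A × (Fin d' → F)) := (LinearEquiv.refl F A).prodCongr φ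
  refine ⟨(ψ.symm.trans Φ).trans ψ', fun x y => ?_, fun x => ?_⟩
  · obtain ⟨x, rfl⟩ := ψ.surjective x
    obtain ⟨y, rfl⟩ := ψ.surjective y
    simp only [LinearEquiv.trans_apply, LinearEquiv.symm_apply_apply]
    rw [hψ', hψ]
    show β x.1 y.1 + R'.B (φ x.2) (φ y.2) = β x.1 y.1 + R.B x.2 y.2
    rw [hφ]
  · obtain ⟨x, rfl⟩ := ψ.surjective x
    simp only [LinearEquiv.trans_apply, LinearEquiv.symm_apply_apply, hψg]
    rw [hψg']
    exact congrArg ψ' (Prod.ext rfl (hφg x.2))

end Sys

end Cfsg.Agent.FormCount
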